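import Mathlib

/-!
Systems of linear maps indexed by the three-cycles of a finite set, compatible with conjugation.
-/

set_option autoImplicit false
set_option linter.unusedSectionVars false

namespace Cfsg.Agent.Lib.AltSectGL

open Equiv Equiv.Perm

variable {α : Type*} [Fintype α] [DecidableEq α]

/-- The three-cycle `i → j → l → i`. -/
def tc (i j l : α) : Perm α := swap i j * swap j l

theorem tc_fst {i j l : α} (hij : i ≠ j) (hil : i ≠ l) : tc i j l i = j := by
  simp [tc, swap_apply_of_ne_of_ne hij hil]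

theorem tc_snd {i j l : α} (hil : i ≠ l) (hjl : j ≠ l) : tc i j l j = l := by
  simp [tc, swap_apply_of_ne_of_ne hil.symm hjl.symm]

theorem tc_trd {i j l : α} : tc i j l l = i := by simp [tc]

theorem tc_other {i j l x : α} (hi : x ≠ i) (hj : x ≠ j) (hl : x ≠ l) : tc i j l x = x := by
  simp [tc, swap_apply_of_ne_of_ne hj hl, swap_apply_of_ne_of_ne hi hj]

theorem tc_three {i j l : α} (hij : i ≠ j) (hil : i ≠ l) (hjl : j ≠ l) : IsThreeCycle (tc i j l) := by
  have h := isThreeCycle_swap_mul_swap_same hij.symm hjl hil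
  rw [swap_comm j i] at h
  exact h

theorem conj_swap (σ : Perm α) (x y : α) : σ * swap x y * σ⁻¹ = swap (σ x) (σ y) := by
  exact (Equiv.swap_apply_apply σ x y).symm

theorem conj_tc (σ : Perm α) (i j l : α) : σ * tc i j l * σ⁻¹ = tc (σ i) (σ j) (σ l) := by
  rw [tc, tc, ← conj_swap σ i j, ← conj_swap σ j l]
  group

theorem tc_inv {i j l : α} (hij : i ≠ j) (hil : i ≠ l) (hjl : j ≠ l) : (tc i j l)⁻¹ = tc l j i := by
  rw [inv_eq_iff_mul_eq_one]
  ext x
  rw [Perm.mul_apply, Perm.one_apply]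
  rcases eq_or_ne x l with rfl | hl
  · rw [tc_fst hjl.symm hil.symm, tc_snd hil hjl]
  rcases eq_or_ne x j with rfl | hj
  · rw [tc_snd hil.symm hij.symm, tc_fst hij hil]
  rcases eq_or_ne x i with rfl | hi
  · rw [tc_trd, tc_trd]
  rw [tc_other hl hj hi, tc_other hi hj hl]

theorem exists_tc {c : Perm α} (hc : IsThreeCycle c) :
    ∃ i j l, i ≠ j ∧ i ≠ l ∧ j ≠ l ∧ c = tc i j l := by
  obtain ⟨a, ha⟩ : c.support.Nonempty := by
    rw [← Finset.card_pos, hc.card_support]; norm_num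
  have hnd := (hc.nodup_iff_mem_support (a := a)).2 ha
  have he := (hc.eq_swap_mul_swap_iff_mem_support (a := a)).2 ha
  simp only [List.nodup_cons, List.mem_cons, List.mem_singleton, List.not_mem_nil, or_false, not_or] at hnd
  exact ⟨a, c a, c (c a), hnd.1.1, hnd.1.2, hnd.2.1, he⟩

theorem three_conj (σ : Perm α) {c : Perm α} (hc : IsThreeCycle c) : IsThreeCycle (σ * c * σ⁻¹) := by
  rw [IsThreeCycle, cycleType_conj]; exact hc

theorem three_inv {c : Perm α} (hc : IsThreeCycle c) : IsThreeCycle c⁻¹ := hc.inv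

/-- An even permutation with prescribed values on a set with two points to spare. -/
theorem exists_even {t : ℕ} (f g : Fin t → α) (hf : Function.Injective f) (hg : Function.Injective g)
    (ht : t + 2 ≤ Fintype.card α) : ∃ σ : Perm α, sign σ = 1 ∧ ∀ i, σ (f i) = g i := by
  classical
  set e : {x // x ∈ Set.range f} ≃ {x // x ∈ Set.range g} :=
    (Equiv.ofInjective f hf).symm.trans (Equiv.ofInjective g hg) with he
  have hσ : ∀ i, e.extendSubtype (f i) = g i := fun i => by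
    rw [Equiv.extendSubtype_apply_of_mem e (f i) ⟨i, rfl⟩]
    simp [he, Equiv.ofInjective_symm_apply]
  rcases Int.units_eq_one_or (sign e.extendSubtype) with h | h
  · exact ⟨_, h, hσ⟩
  have hc : 1 < ((Finset.univ.image g)ᶜ).card := by
    rw [Finset.card_compl, Finset.card_image_of_injective _ hg, Finset.card_univ, Fintype.card_fin]; omega
  obtain ⟨u, hu, w, hw, huw⟩ := Finset.one_lt_card.1 hc
  refine ⟨swap u w * e.extendSubtype, by rw [map_mul, h, sign_swap huw]; decide, fun i => ?_⟩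
  have key : ∀ z, z ∈ (Finset.univ.image g)ᶜ → g i ≠ z := fun z hz e => by
    rw [Finset.mem_compl] at hz
    exact hz (e ▸ Finset.mem_image_of_mem g (Finset.mem_univ i))
  rw [Perm.mul_apply, hσ, swap_apply_of_ne_of_ne (key u hu) (key w hw)]

theorem exists_even_triple {i j l a b c : α} (hn : 5 ≤ Fintype.card α) (hij : i ≠ j) (hil : i ≠ l) (hjl : j ≠ l)
    (hab : a ≠ b) (hac : a ≠ c) (hbc : b ≠ c) :
    ∃ σ : Perm α, sign σ = 1 ∧ σ i = a ∧ σ j = b ∧ σ l = c := by
  obtain ⟨σ, h1, h2⟩ := exists_even ![i, j, l] ![a, b, c]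
    (by intro x y h; fin_cases x <;> fin_cases y <;> simp_all)
    (by intro x y h; fin_cases x <;> fin_cases y <;> simp_all) (by omega)
  exact ⟨σ, h1, h2 0, h2 1, h2 2⟩

theorem exists_even_conj (hn : 5 ≤ Fintype.card α) {c d : Perm α} (hc : IsThreeCycle c) (hd : IsThreeCycle d) :
    ∃ σ : Perm α, sign σ = 1 ∧ σ * c * σ⁻¹ = d := by
  obtain ⟨i, j, l, h1, h2, h3, rfl⟩ := exists_tc hc
  obtain ⟨a, b, e, g1, g2, g3, rfl⟩ := exists_tc hd
  obtain ⟨σ, hs, e1, e2, e3⟩ := exists_even_triple hn h1 h2 h3 g1 g2 g3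
  exact ⟨σ, hs, by rw [conj_tc, e1, e2, e3]⟩

variable {k V : Type*} [Field k] [AddCommGroup V] [Module k V]

/-- The axioms of a system. -/
structure Sys (X : Perm α → (V ≃ₗ[k] V)) : Prop where
  cube : ∀ c, IsThreeCycle c → X c ^ 3 = 1
  inv : ∀ c, IsThreeCycle c → X c⁻¹ = (X c)⁻¹
  conj : ∀ c d, IsThreeCycle c → IsThreeCycle d → X (c * d * c⁻¹) = X c * X d * (X c)⁻¹

/-- Some map of the system is not the identity. -/
def NonTriv (X : Perm α → (V ≃ₗ[k] V)) : Prop := ∃ c, IsThreeCycle c ∧ X c ≠ 1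

/-- Invariance of a subspace under the system. -/
def Invt (X : Perm α → (V ≃ₗ[k] V)) (P : Submodule k V) : Prop :=
  ∀ c, IsThreeCycle c → ∀ v ∈ P, X c v ∈ P

/-- The system has no invariant subspace. -/
def Irr (X : Perm α → (V ≃ₗ[k] V)) : Prop := ∀ P : Submodule k V, Invt X P → P = ⊥ ∨ P = ⊤

/-- The difference with the identity. -/
def N (g : V ≃ₗ[k] V) : V →ₗ[k] V := g.toLinearMap - LinearMap.id

@[simp] theorem N_apply (g : V ≃ₗ[k] V) (v : V) : N g v = g v - v := rfl

theorem mul_apply (g h : V ≃ₗ[k] V) (v : V) : (g * h) v = g (h v) := rfl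

theorem one_apply (v : V) : (1 : V ≃ₗ[k] V) v = v := rfl

theorem inv_apply_self (g : V ≃ₗ[k] V) (v : V) : g⁻¹ (g v) = v := by
  rw [← mul_apply, inv_mul_cancel, one_apply]

theorem self_apply_inv (g : V ≃ₗ[k] V) (v : V) : g (g⁻¹ v) = v := by
  rw [← mul_apply, mul_inv_cancel, one_apply]

variable {X : Perm α → (V ≃ₗ[k] V)}

/-- The group generated by the system. -/
def grp (X : Perm α → (V ≃ₗ[k] V)) : Subgroup (V ≃ₗ[k] V) :=
  Subgroup.closure {g | ∃ c, IsThreeCycle c ∧ X c = g}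

theorem mem_grp {c : Perm α} (hc : IsThreeCycle c) : X c ∈ grp X := Subgroup.subset_closure ⟨c, hc, rfl⟩

/-- `g` conjugates the system as the permutation `σ`. -/
def Lifts (X : Perm α → (V ≃ₗ[k] V)) (σ : Perm α) (g : V ≃ₗ[k] V) : Prop :=
  ∀ d, IsThreeCycle d → X (σ * d * σ⁻¹) = g * X d * g⁻¹

theorem Lifts.one : Lifts X 1 1 := fun d _ => by simp

theorem Lifts.mul {σ τ : Perm α} {g h : V ≃ₗ[k] V} (hg : Lifts X σ g) (hh : Lifts X τ h) :
    Lifts X (σ * τ) (g * h) := by
  intro d hd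
  rw [show σ * τ * d * (σ * τ)⁻¹ = σ * (τ * d * τ⁻¹) * σ⁻¹ from by group, hg _ (three_conj τ hd), hh d hd]
  group

theorem Lifts.inv {σ : Perm α} {g : V ≃ₗ[k] V} (hg : Lifts X σ g) : Lifts X σ⁻¹ g⁻¹ := by
  intro d hd
  have h := hg _ (three_conj σ⁻¹ hd)
  rw [show σ * (σ⁻¹ * d * σ⁻¹⁻¹) * σ⁻¹ = d from by group] at h
  rw [h]; group

theorem exists_lift (hX : Sys X) {σ : Perm α} (hσ : sign σ = 1) : ∃ g ∈ grp X, Lifts X σ g := by
  have h : σ ∈ Subgroup.closure {s : Perm α | IsThreeCycle s} := by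
    rw [closure_three_cycles_eq_alternating]; exact mem_alternatingGroup.2 hσ
  induction h using Subgroup.closure_induction with
  | mem c hc => exact ⟨X c, mem_grp hc, fun d hd => hX.conj c d hc hd⟩
  | one => exact ⟨1, one_mem _, Lifts.one⟩
  | mul a b ha hb iha ihb =>
    have he : ∀ x, x ∈ Subgroup.closure {s : Perm α | IsThreeCycle s} → sign x = 1 := fun x hx => by
      rw [closure_three_cycles_eq_alternating] at hx; exact mem_alternatingGroup.1 hx
    obtain ⟨g, h1, h2⟩ := iha (he a ha)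
    obtain ⟨g', h3, h4⟩ := ihb (he b hb)
    exact ⟨g * g', mul_mem h1 h3, h2.mul h4⟩
  | inv a ha iha =>
    have : sign a = 1 := by
      rw [closure_three_cycles_eq_alternating] at ha; exact mem_alternatingGroup.1 ha
    obtain ⟨g, h1, h2⟩ := iha this
    exact ⟨g⁻¹, inv_mem h1, h2.inv⟩

theorem Invt.grp_mem {P : Submodule k V} (hX : Sys X) (hP : Invt X P) {g : V ≃ₗ[k] V} (hg : g ∈ grp X) :
    ∀ v ∈ P, g v ∈ P := by
  suffices h : (∀ v ∈ P, g v ∈ P) ∧ ∀ v ∈ P, g⁻¹ v ∈ P from h.1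
  induction hg using Subgroup.closure_induction with
  | mem c hc =>
    obtain ⟨c, hc, rfl⟩ := hc
    exact ⟨hP c hc, fun v hv => by rw [← hX.inv c hc]; exact hP _ (three_inv hc) v hv⟩
  | one => exact ⟨fun v hv => hv, fun v hv => by rw [inv_one]; exact hv⟩
  | mul a b _ _ iha ihb =>
    exact ⟨fun v hv => iha.1 _ (ihb.1 v hv), fun v hv => by rw [mul_inv_rev]; exact ihb.2 _ (iha.2 v hv)⟩
  | inv a _ iha => exact ⟨iha.2, by rw [inv_inv]; exact iha.1⟩

theorem Sys.comm_of_disjoint (hX : Sys X) {c d : Perm α} (hc : IsThreeCycle c) (hd : IsThreeCycle d)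
    (h : Perm.Disjoint c d) : Commute (X c) (X d) := by
  have he := hX.conj c d hc hd
  rw [show c * d * c⁻¹ = d from by rw [h.commute.eq, mul_inv_cancel_right]] at he
  exact (mul_inv_eq_iff_eq_mul.1 he.symm)

theorem three_sq_eq {g : V ≃ₗ[k] V} (h : g ^ 3 = 1) : g ^ 2 = g⁻¹ := eq_inv_of_mul_eq_one_left (by rw [← pow_succ]; exact h)

/-- If all maps commute the system is trivial. -/
theorem eq_one_of_comm (hn : 5 ≤ Fintype.card α) (hX : Sys X)
    (h : ∀ c d, IsThreeCycle c → IsThreeCycle d → Commute (X c) (X d)) : ∀ c, IsThreeCycle c → X c = 1 := by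
  intro c hc
  obtain ⟨σ, hσ, e⟩ := exists_even_conj hn hc (three_inv hc)
  obtain ⟨g, hg, hl⟩ := exists_lift hX hσ
  have hgc : ∀ x ∈ grp X, Commute x (X c) := by
    intro x hx
    induction hx using Subgroup.closure_induction with
    | mem y hy => obtain ⟨d, hd, rfl⟩ := hy; exact h d c hd hc
    | one => exact Commute.one_left _
    | mul a b _ _ ha hb => exact ha.mul_left hb
    | inv a _ ha => exact ha.inv_left
  have h2 := hl c hc
  rw [e, hX.inv c hc, (hgc g hg).eq, mul_inv_cancel_right] at h2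
  have h3 := hX.cube c hc
  have h4 : X c ^ 2 = 1 := by
    rw [pow_two]; nth_rewrite 1 [← h2]; exact inv_mul_cancel _
  rw [pow_succ, h4, one_mul] at h3
  exact h3

theorem NonTriv.all (hn : 5 ≤ Fintype.card α) (hX : Sys X) (h : NonTriv X) {c : Perm α} (hc : IsThreeCycle c) :
    X c ≠ 1 := by
  intro he
  obtain ⟨d, hd, hne⟩ := h
  obtain ⟨σ, hσ, e⟩ := exists_even_conj hn hc hd
  obtain ⟨g, _, hl⟩ := exists_lift hX hσ
  apply hne
  rw [← e, hl c hc, he, mul_one, mul_inv_cancel]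

/-- Only the identity permutation has a lift commuting with the system. -/
theorem eq_one_of_central (hn : 5 ≤ Fintype.card α) (hX : Sys X) (hnt : NonTriv X) {σ : Perm α} (hσ : sign σ = 1)
    {g : V ≃ₗ[k] V} (hl : Lifts X σ g) (hg : ∀ c, IsThreeCycle c → Commute g (X c)) : σ = 1 := by
  classical
  let K : Subgroup ↥(alternatingGroup α) :=
    { carrier := {τ | ∀ d, IsThreeCycle d → X ((τ : Perm α) * d * (τ : Perm α)⁻¹) = X d}
      one_mem' := fun d _ => by simp
      mul_mem' := fun {a b} ha hb d hd => by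
        rw [Subgroup.coe_mul, show (a : Perm α) * b * d * ((a : Perm α) * b)⁻¹ =
          (a : Perm α) * ((b : Perm α) * d * (b : Perm α)⁻¹) * (a : Perm α)⁻¹ from by group,
          ha _ (three_conj _ hd), hb d hd]
      inv_mem' := fun {a} ha d hd => by
        have := ha _ (three_conj (a : Perm α)⁻¹ hd)
        rw [show (a : Perm α) * ((a : Perm α)⁻¹ * d * (a : Perm α)⁻¹⁻¹) * (a : Perm α)⁻¹ = d from by group] at this
        rw [Subgroup.coe_inv]; exact this.symm }
  have hK : K.Normal := ⟨fun τ hτ ρ d hd => by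
    obtain ⟨r, _, hr⟩ := exists_lift hX (mem_alternatingGroup.1 ρ.2)
    simp only [Subgroup.coe_mul, Subgroup.coe_inv]
    rw [show (ρ : Perm α) * τ * (ρ : Perm α)⁻¹ * d * ((ρ : Perm α) * τ * (ρ : Perm α)⁻¹)⁻¹ =
      (ρ : Perm α) * ((τ : Perm α) * ((ρ : Perm α)⁻¹ * d * (ρ : Perm α)⁻¹⁻¹) * (τ : Perm α)⁻¹) * (ρ : Perm α)⁻¹
      from by group, hr _ (three_conj _ (three_conj _ hd)), hτ _ (three_conj _ hd), ← hr _ (three_conj _ hd)]
    congr 1; group⟩
  have hmem : (⟨σ, mem_alternatingGroup.2 hσ⟩ : ↥(alternatingGroup α)) ∈ K := fun d hd => by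
    show X (σ * d * σ⁻¹) = X d
    rw [hl d hd, (hg d hd).eq, mul_inv_cancel_right]
  haveI : IsSimpleGroup ↥(alternatingGroup α) :=
    alternatingGroup.isSimpleGroup (by rw [Nat.card_eq_fintype_card]; exact hn)
  rcases hK.eq_bot_or_eq_top with h | h
  · rw [h, Subgroup.mem_bot] at hmem
    exact congrArg Subtype.val hmem
  · exfalso
    obtain ⟨c, hc, hne⟩ := hnt
    refine hne (eq_one_of_comm hn hX (fun a b ha hb => ?_) c hc)
    have := (h ▸ Subgroup.mem_top (⟨a, ha.mem_alternatingGroup⟩ : ↥(alternatingGroup α)) :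
      (⟨a, ha.mem_alternatingGroup⟩ : ↥(alternatingGroup α)) ∈ K) b hb
    rw [hX.conj a b ha hb] at this
    exact mul_inv_eq_iff_eq_mul.1 this

end Cfsg.Agent.Lib.AltSectGL
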