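import Cfsg.Agent.Lib.AltSectGL.Rank

/-!
Orthogonal systems of rank at least two: the chain of commutator spaces grows by one with each point, which gives
`card α - 2 ≤ finrank V`; in the case of equality the characteristic divides `card α`.
-/

set_option autoImplicit false
set_option linter.unusedSectionVars false

namespace Cfsg.Agent.Lib.AltSectGL

open Equiv Equiv.Perm Module

universe u

variable {α : Type*} [Fintype α] [DecidableEq α] {k : Type*} [Field k] {V : Type u} [AddCommGroup V] [Module k V]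
variable {X : Perm α → (V ≃ₗ[k] V)}

theorem Lifts.self (hX : Sys X) {c : Perm α} (hc : IsThreeCycle c) : Lifts X c (X c) :=
  fun d hd => hX.conj c d hc hd

/-- Adjoining a point strictly increases the span. -/
theorem U_lt_insert (hX : Sys X) (hne : NonTriv X) (hirr : Irr X) (hII : II X) {S : Finset α} {s : α}
    (hs : s ∉ S) (h3 : 3 ≤ S.card) (hS : S.card + 3 ≤ Fintype.card α) : U X S < U X (insert s S) := by
  have hn : 5 ≤ Fintype.card α := by omega
  refine lt_of_le_of_ne (U_mono (Finset.subset_insert s S)) fun heq => ?_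
  set P := U X S with hP
  let Q : Perm α → Prop := fun c => ∀ v ∈ P, X c v ∈ P
  have hinv : ∀ c, IsThreeCycle c → Q c → Q c⁻¹ := by
    intro c hc h v hv
    rw [hX.inv c hc, ← three_sq_eq (hX.cube c hc), pow_two, mul_apply]
    exact h _ (h v hv)
  have hconj : ∀ c d, IsThreeCycle c → IsThreeCycle d → Q c → Q d → Q (c * d * c⁻¹) := by
    intro c d hc hd h1 h2 v hv
    have h3 := hinv c hc h1
    rw [hX.conj c d hc hd, mul_apply, mul_apply, ← hX.inv c hc]
    exact h1 _ (h2 _ (h3 v hv))
  have hin : ∀ c, IsThreeCycle c → c.support ⊆ insert s S → Q c := by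
    intro c hc hsup v hv
    have h := mem_U (X := X) hc hsup v
    rw [← heq, N_apply] at h
    have := P.add_mem h hv
    rwa [sub_add_cancel] at this
  -- triples on `s` and two outside points fix `P`
  have hfix : ∀ j l, j ∉ insert s S → l ∉ insert s S → j ≠ l → ∀ v ∈ P, X (tc s j l) v = v := by
    intro j l hj hl hjl v hv
    simp only [Finset.mem_insert, not_or] at hj hl
    have hker : P ≤ LinearMap.ker (N (X (tc s j l))) := by
      refine U_le fun c hc hsup w => LinearMap.mem_ker.2 ?_
      refine hII _ _ (tc_three (Ne.symm hj.1) (Ne.symm hl.1) hjl) hc ?_ w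
      intro x
      by_cases hx : x ∈ S
      · exact Or.inl (tc_other (fun e => hs (by rw [← e]; exact hx)) (fun e => hj.2 (by rw [← e]; exact hx))
          (fun e => hl.2 (by rw [← e]; exact hx)))
      · exact Or.inr (Perm.notMem_support.1 fun h => hx (hsup h))
    have h := LinearMap.mem_ker.1 (hker hv)
    rwa [N_apply, sub_eq_zero] at h
  have hcard : 1 < ((insert s S)ᶜ).card := by
    rw [Finset.card_compl, Finset.card_insert_of_notMem hs]; omega
  obtain ⟨j, hj, l, hl, hjl⟩ := Finset.one_lt_card.1 hcard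
  rw [Finset.mem_compl] at hj hl
  have hout : ∀ j l, j ∉ insert s S → l ∉ insert s S → j ≠ l → Q (tc s j l) := fun j l hj hl hjl v hv => by
    rw [hfix j l hj hl hjl v hv]; exact hv
  -- one point of `S`
  have hone : ∀ a ∈ S, Q (tc s j a) := by
    intro a ha
    obtain ⟨b, hb, hba⟩ := Finset.exists_mem_ne (s := S) (by omega) a
    have hj' : j ≠ s ∧ j ∉ S := by simpa [Finset.mem_insert] using hj
    have hl' : l ≠ s ∧ l ∉ S := by simpa [Finset.mem_insert] using hl
    have hsa : s ≠ a := fun e => hs (e ▸ ha)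
    have hsb : s ≠ b := fun e => hs (e ▸ hb)
    have hja : j ≠ a := fun e => hj'.2 (e ▸ ha)
    have hla : l ≠ a := fun e => hl'.2 (e ▸ ha)
    have hjb : j ≠ b := fun e => hj'.2 (e ▸ hb)
    have hlb : l ≠ b := fun e => hl'.2 (e ▸ hb)
    -- `tc a l j`
    have h1 : Q (tc a l j) := by
      have hc : IsThreeCycle (tc s a b) := tc_three hsa hsb hba.symm
      have h := hconj _ _ hc (tc_three hl'.1.symm hj'.1.symm hjl.symm)
        (hin _ hc (tc_support _ (Finset.mem_insert_self _ _) (Finset.mem_insert_of_mem ha) (Finset.mem_insert_of_mem hb)))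
        (hout l j hl hj hjl.symm)
      rwa [conj_tc, tc_fst hsa hsb, tc_other hl'.1 hla hlb, tc_other hj'.1 hja hjb] at h
    have h := hconj _ _ (tc_three hla.symm hja.symm hjl.symm) (tc_three hl'.1.symm hj'.1.symm hjl.symm) h1
      (hout l j hl hj hjl.symm)
    rwa [conj_tc, tc_other hsa hl'.1.symm hj'.1.symm, tc_snd hja.symm hjl.symm, tc_trd] at h
  have hgen : ∀ x, x ≠ s → x ≠ j → Q (tc s j x) := by
    intro x hxs hxj
    by_cases hx : x ∈ S
    · exact hone x hx
    · exact hout j x hj (by simp [hxs, hx]) hxj.symm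
  have hall := all_of_gen Q hconj hinv (a := s) (b := j)
    (fun e => hj (e ▸ Finset.mem_insert_self _ _)) hgen hn
  obtain ⟨T, hT, hT3⟩ := Finset.exists_subset_card_eq h3
  obtain ⟨a, b, c, hab, hac, hbc, rfl⟩ := Finset.card_eq_three.1 hT3
  have hc3 := tc_three hab hac hbc
  rcases hirr P (fun c hc v hv => hall c hc v hv) with h | h
  · refine hne.all hn hX hc3 (LinearEquiv.ext fun v => ?_)
    have := mem_U (X := X) hc3 ((tc_support _ (by simp) (by simp) (by simp)).trans hT) v
    rw [← hP, h, Submodule.mem_bot, N_apply, sub_eq_zero] at this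
    rw [this, one_apply]
  · have hz : IsThreeCycle (tc s j l) :=
      tc_three (fun e => hj (e ▸ Finset.mem_insert_self _ _)) (fun e => hl (e ▸ Finset.mem_insert_self _ _)) hjl
    exact hne.all hn hX hz (LinearEquiv.ext fun v => by
      rw [hfix j l hj hl hjl v (h ▸ Submodule.mem_top), one_apply])

theorem finrank_U_grow [FiniteDimensional k V] (hX : Sys X) (hne : NonTriv X) (hirr : Irr X) (hII : II X)
    {S T : Finset α} (hST : S ⊆ T) (h3 : 3 ≤ S.card) (hT : T.card + 2 ≤ Fintype.card α) :
    finrank k (U X S) + (T.card - S.card) ≤ finrank k (U X T) := by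
  suffices key : ∀ D : Finset α, Disjoint S D → S.card + D.card + 2 ≤ Fintype.card α →
      finrank k (U X S) + D.card ≤ finrank k (U X (S ∪ D)) by
    have h := key (T \ S) Finset.disjoint_sdiff
      (by rw [Finset.card_sdiff_of_subset hST]; have := Finset.card_le_card hST; omega)
    rw [Finset.union_sdiff_of_subset hST, Finset.card_sdiff_of_subset hST] at h
    exact h
  intro D
  induction D using Finset.induction_on with
  | empty =>
    intros
    rw [Finset.union_empty]
    simp
  | insert x D hx ih =>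
    intro hd hc
    rw [Finset.card_insert_of_notMem hx] at hc
    rw [Finset.disjoint_insert_right] at hd
    have hi := ih hd.2 (by omega)
    have hxn : x ∉ S ∪ D := by simp [hd.1, hx]
    have hlt := Submodule.finrank_lt_finrank_of_lt (U_lt_insert hX hne hirr hII hxn
      (h3.trans (Finset.card_le_card Finset.subset_union_left))
      (by rw [Finset.card_union_of_disjoint hd.2]; omega))
    rw [Finset.card_insert_of_notMem hx, Finset.union_insert]
    omega

theorem le_finrank_U [FiniteDimensional k V] (hX : Sys X) (hne : NonTriv X) (hirr : Irr X) (hII : II X)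
    {d : ℕ} (hd : ∀ c, IsThreeCycle c → d ≤ finrank k (LinearMap.range (N (X c))))
    {T : Finset α} (h3 : 3 ≤ T.card) (hT : T.card + 2 ≤ Fintype.card α) :
    d + (T.card - 3) ≤ finrank k (U X T) := by
  obtain ⟨S, hS, hS3⟩ := Finset.exists_subset_card_eq h3
  have h := finrank_U_grow hX hne hirr hII hS hS3.ge hT
  obtain ⟨a, b, c, hab, hac, hbc, rfl⟩ := Finset.card_eq_three.1 hS3
  have hle : LinearMap.range (N (X (tc a b c))) ≤ U X {a, b, c} := by
    rintro _ ⟨v, rfl⟩
    exact mem_U (tc_three hab hac hbc) (tc_support _ (by simp) (by simp) (by simp)) v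
  have := (hd _ (tc_three hab hac hbc)).trans (Submodule.finrank_mono hle)
  rw [hS3] at h
  omega

/-- Three points to spare: the span lies in the kernel of a commutator map. -/
theorem finrank_U_add_range_le [FiniteDimensional k V] (hII : II X) {S : Finset α} {c : Perm α} (hc : IsThreeCycle c)
    (h : ∀ x ∈ S, c x = x) : finrank k (U X S) + finrank k (LinearMap.range (N (X c))) ≤ finrank k V := by
  have hker : U X S ≤ LinearMap.ker (N (X c)) := by
    refine U_le fun d hd hsup w => LinearMap.mem_ker.2 (hII _ _ hc hd ?_ w)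
    intro x
    by_cases hx : x ∈ S
    · exact Or.inl (h x hx)
    · exact Or.inr (Perm.notMem_support.1 fun h' => hx (hsup h'))
  have h1 := Submodule.finrank_mono hker
  have h2 := LinearMap.finrank_range_add_finrank_ker (N (X c))
  omega

theorem exists_spare {r : ℕ} (hn : r + 3 = Fintype.card α) : ∃ (S : Finset α) (c : Perm α),
    S.card = r ∧ IsThreeCycle c ∧ ∀ x ∈ S, c x = x := by
  obtain ⟨Z, -, hZ⟩ := Finset.exists_subset_card_eq (s := (Finset.univ : Finset α)) (n := 3)
    (by rw [Finset.card_univ]; omega)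
  obtain ⟨a, b, c, hab, hac, hbc, rfl⟩ := Finset.card_eq_three.1 hZ
  refine ⟨({a, b, c} : Finset α)ᶜ, tc a b c, by rw [Finset.card_compl, hZ]; omega, tc_three hab hac hbc,
    fun x hx => ?_⟩
  simp only [Finset.mem_compl, Finset.mem_insert, Finset.mem_singleton, not_or] at hx
  exact tc_other hx.1 hx.2.1 hx.2.2

theorem bound_II [FiniteDimensional k V] (hX : Sys X) (hne : NonTriv X) (hirr : Irr X) (hII : II X)
    (h2 : ∀ c, IsThreeCycle c → 2 ≤ finrank k (LinearMap.range (N (X c)))) (hn : 6 ≤ Fintype.card α) :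
    Fintype.card α - 2 ≤ finrank k V := by
  obtain ⟨S, c, hS, hc, hfix⟩ := exists_spare (α := α) (r := Fintype.card α - 3) (by omega)
  have h1 := le_finrank_U hX hne hirr hII h2 (T := S) (by omega) (by omega)
  have h3 := finrank_U_add_range_le hII hc hfix
  have h4 := h2 c hc
  omega

section Equality

/-- The common part of the spaces of the triples through two points. -/
def Ln (X : Perm α → (V ≃ₗ[k] V)) (a b : α) : Submodule k V :=
  ⨅ c ∈ {c : α | c ≠ a ∧ c ≠ b}, U X {a, b, c}

theorem mem_Ln {a b : α} {v : V} : v ∈ Ln X a b ↔ ∀ c, c ≠ a → c ≠ b → v ∈ U X {a, b, c} := by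
  simp [Ln, Submodule.mem_iInf]

theorem Ln_symm (a b : α) : Ln X a b = Ln X b a := by
  ext v
  rw [mem_Ln, mem_Ln]
  exact ⟨fun h c h1 h2 => (Finset.insert_comm a b {c}) ▸ h c h2 h1,
    fun h c h1 h2 => (Finset.insert_comm b a {c}) ▸ h c h2 h1⟩

theorem Lifts.mem_Ln {σ : Perm α} {g : V ≃ₗ[k] V} (hg : Lifts X σ g) {a b : α} {v : V} (hv : v ∈ Ln X a b) :
    g v ∈ Ln X (σ a) (σ b) := by
  rw [AltSectGL.mem_Ln] at hv ⊢
  intro c h1 h2
  have h := hg.map_U {a, b, σ⁻¹ c} (Submodule.mem_map_of_mem
    (hv (σ⁻¹ c) (fun e => h1 (by rw [← e]; simp)) (fun e => h2 (by rw [← e]; simp))))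
  simpa [Finset.image_insert, Finset.image_singleton] using h

theorem U_le_erase {S : Finset α} (hS : 4 ≤ S.card) {P : Submodule k V} (h : ∀ t ∈ S, U X (S.erase t) ≤ P) :
    U X S ≤ P := by
  refine U_le fun c hc hsup v => ?_
  obtain ⟨t, ht, htc⟩ : ∃ t ∈ S, t ∉ c.support := by
    by_contra hcon
    push Not at hcon
    have := Finset.card_le_card (show S ⊆ c.support from hcon)
    rw [hc.card_support] at this
    omega
  exact h t ht (mem_U hc (fun x hx => Finset.mem_erase.2 ⟨fun e => htc (by rw [← e]; exact hx), hsup hx⟩) v)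

variable [FiniteDimensional k V]

/-- The hypotheses of the case of equality, in the form used below. -/
structure Tight (X : Perm α → (V ≃ₗ[k] V)) : Prop where
  sys : Sys X
  nontriv : NonTriv X
  irr : Irr X
  orth : II X
  big : 9 ≤ Fintype.card α
  dim : ∀ S : Finset α, 3 ≤ S.card → S.card ≤ 5 → finrank k (U X S) + 1 = S.card
  range : ∀ a b c : α, a ≠ b → a ≠ c → b ≠ c → U X {a, b, c} = LinearMap.range (N (X (tc a b c)))

theorem Tight.mk' (hX : Sys X) (hne : NonTriv X) (hirr : Irr X) (hII : II X)
    (h2 : ∀ c, IsThreeCycle c → 2 ≤ finrank k (LinearMap.range (N (X c)))) (hn : 9 ≤ Fintype.card α)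
    (hdim : finrank k V = Fintype.card α - 2) : Tight X := by
  have hup : ∀ S : Finset α, 3 ≤ S.card → S.card ≤ 5 → finrank k (U X S) + 1 = S.card := by
    intro S h3 h5
    have hlo := le_finrank_U hX hne hirr hII h2 h3 (by omega)
    have h3c : 3 ≤ (Sᶜ).card := by rw [Finset.card_compl]; omega
    obtain ⟨Z, hZS, hZ⟩ := Finset.exists_subset_card_eq h3c
    obtain ⟨a, b, c, hab, hac, hbc, rfl⟩ := Finset.card_eq_three.1 hZ
    have hST : S ⊆ ({a, b, c} : Finset α)ᶜ := fun x hx =>
      Finset.mem_compl.2 fun h => Finset.mem_compl.1 (hZS h) hx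
    have hg := finrank_U_grow hX hne hirr hII hST h3 (by rw [Finset.card_compl, hZ]; omega)
    have hk := finrank_U_add_range_le (X := X) (S := ({a, b, c} : Finset α)ᶜ) hII (tc_three hab hac hbc)
      (fun x hx => by
        simp only [Finset.mem_compl, Finset.mem_insert, Finset.mem_singleton, not_or] at hx
        exact tc_other hx.1 hx.2.1 hx.2.2)
    have := h2 _ (tc_three hab hac hbc)
    rw [Finset.card_compl, hZ] at hg
    omega
  refine ⟨hX, hne, hirr, hII, hn, hup, fun a b c hab hac hbc => (Submodule.eq_of_le_of_finrank_le ?_ ?_).symm⟩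
  · rintro _ ⟨v, rfl⟩
    exact mem_U (tc_three hab hac hbc) (tc_support _ (by simp) (by simp) (by simp)) v
  · have h3 : ({a, b, c} : Finset α).card = 3 := Finset.card_eq_three.2 ⟨a, b, c, hab, hac, hbc, rfl⟩
    have := hup _ h3.ge (by omega)
    have := h2 _ (tc_three hab hac hbc)
    omega

variable (H : Tight X)
include H

theorem Tight.ne_erase {S : Finset α} (hS : S.card = 4) {s t : α} (hs : s ∈ S) (ht : t ∈ S) (hst : s ≠ t) :
    U X (S.erase s) ≠ U X (S.erase t) := by
  intro heq
  have h4 := H.dim S (by omega) (by omega)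
  have hle : U X S ≤ U X (S.erase s) := by
    refine U_le_erase hS.ge fun q hq => ?_
    rcases eq_or_ne q s with rfl | hqs
    · exact le_rfl
    rcases eq_or_ne q t with rfl | hqt
    · exact heq.ge
    obtain ⟨r, hr⟩ : (((S.erase s).erase t).erase q).Nonempty := by
      rw [← Finset.card_pos, Finset.card_erase_of_mem (by simp [hq, hqs, hqt]),
        Finset.card_erase_of_mem (by simp [ht, hst.symm]), Finset.card_erase_of_mem hs]
      omega
    simp only [Finset.mem_erase] at hr
    obtain ⟨hrq, hrt, hrs, hrS⟩ := hr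
    set σ := tc t q r with hσ
    have hσ3 : IsThreeCycle σ := tc_three hqt.symm hrt.symm hrq.symm
    have hσS : S.image σ = S := by
      refine Finset.eq_of_subset_of_card_le (fun x hx => ?_) (by rw [Finset.card_image_of_injective _ σ.injective])
      obtain ⟨y, hy, rfl⟩ := Finset.mem_image.1 hx
      rcases eq_or_ne (σ y) y with e | e
      · rwa [e]
      · exact tc_support S ht hq hrS (Perm.mem_support.2 fun h => e (σ.injective h))
    have himg : ∀ x, (S.erase x).image σ = S.erase (σ x) := fun x => by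
      rw [Finset.image_erase σ.injective, hσS]
    have hmap : ∀ x ∈ S, (U X (S.erase x)).map (X σ).toLinearMap = U X ((S.erase x).image σ) := fun x hx => by
      refine Submodule.eq_of_le_of_finrank_le ((Lifts.self H.sys hσ3).map_U _) ?_
      rw [LinearEquiv.finrank_map_eq, finrank_U_image H.sys (IsThreeCycle.sign hσ3)]
    have e1 := hmap s hs
    rw [heq, hmap t ht, himg, himg, hσ, tc_fst hqt.symm hrt.symm, tc_other hst hqs.symm hrs.symm] at e1
    exact e1.le
  have h5 := Submodule.finrank_mono hle
  have h3 := H.dim (S.erase s) (by rw [Finset.card_erase_of_mem hs]; omega)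
    (by rw [Finset.card_erase_of_mem hs]; omega)
  rw [Finset.card_erase_of_mem hs] at h3
  omega

theorem Tight.sup_erase {S : Finset α} (hS : S.card = 4) {s t : α} (hs : s ∈ S) (ht : t ∈ S) (hst : s ≠ t) :
    U X (S.erase s) ⊔ U X (S.erase t) = U X S := by
  refine Submodule.eq_of_le_of_finrank_le (sup_le (U_mono (Finset.erase_subset _ _)) (U_mono (Finset.erase_subset _ _))) ?_
  have h4 := H.dim S (by omega) (by omega)
  have h3 := H.dim (S.erase s) (by rw [Finset.card_erase_of_mem hs]; omega)
    (by rw [Finset.card_erase_of_mem hs]; omega)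
  rw [Finset.card_erase_of_mem hs] at h3
  have h3' := H.dim (S.erase t) (by rw [Finset.card_erase_of_mem ht]; omega)
    (by rw [Finset.card_erase_of_mem ht]; omega)
  rw [Finset.card_erase_of_mem ht] at h3'
  have hlt : U X (S.erase s) < U X (S.erase s) ⊔ U X (S.erase t) := by
    refine lt_of_le_of_ne le_sup_left fun e => H.ne_erase hS hs ht hst ?_
    exact (Submodule.eq_of_le_of_finrank_le (le_sup_right.trans_eq e.symm) (by omega)).symm
  have := Submodule.finrank_lt_finrank_of_lt hlt
  omega

theorem Tight.inf_finrank {a b c d : α} (hab : a ≠ b) (hac : a ≠ c) (had : a ≠ d) (hbc : b ≠ c) (hbd : b ≠ d)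
    (hcd : c ≠ d) : finrank k ↥(U X {a, b, c} ⊓ U X {a, b, d}) = 1 ∧
      U X {a, b, c} ⊔ U X {a, b, d} = U X {a, b, c, d} := by
  have hS : ({a, b, c, d} : Finset α).card = 4 := by simp [hab, hac, had, hbc, hbd, hcd]
  have e1 : ({a, b, c, d} : Finset α).erase d = {a, b, c} := by
    ext x; simp only [Finset.mem_erase, Finset.mem_insert, Finset.mem_singleton]; grind
  have e2 : ({a, b, c, d} : Finset α).erase c = {a, b, d} := by
    ext x; simp only [Finset.mem_erase, Finset.mem_insert, Finset.mem_singleton]; grind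
  have h := H.sup_erase hS (s := d) (t := c) (by simp) (by simp) hcd.symm
  rw [e1, e2] at h
  refine ⟨?_, h⟩
  have hsum := Submodule.finrank_sup_add_finrank_inf_eq (U X {a, b, c}) (U X {a, b, d})
  rw [h] at hsum
  have h4 := H.dim _ (show 3 ≤ ({a, b, c, d} : Finset α).card by omega) (by omega)
  have h3 : ({a, b, c} : Finset α).card = 3 := Finset.card_eq_three.2 ⟨a, b, c, hab, hac, hbc, rfl⟩
  have h3' : ({a, b, d} : Finset α).card = 3 := Finset.card_eq_three.2 ⟨a, b, d, hab, had, hbd, rfl⟩
  have h5 := H.dim _ h3.ge (by omega)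
  have h6 := H.dim _ h3'.ge (by omega)
  omega

theorem Tight.inf_le {a b c d e : α} (hab : a ≠ b) (hac : a ≠ c) (had : a ≠ d) (hae : a ≠ e) (hbc : b ≠ c)
    (hbd : b ≠ d) (hbe : b ≠ e) (hcd : c ≠ d) (hce : c ≠ e) (hde : d ≠ e) :
    U X {a, b, c} ⊓ U X {a, b, d} ≤ U X {a, b, e} := by
  by_contra hcon
  obtain ⟨hA, hUd⟩ := H.inf_finrank hab hac had hbc hbd hcd
  obtain ⟨hB, hUe⟩ := H.inf_finrank hab hac hae hbc hbe hce
  obtain ⟨hD, hUde⟩ := H.inf_finrank hab had hae hbd hbe hde
  -- the third plane lies in the span of the first two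
  have hle : U X {a, b, e} ≤ U X {a, b, c, d} := by
    by_contra h
    have h3 : ({a, b, e} : Finset α).card = 3 := Finset.card_eq_three.2 ⟨a, b, e, hab, hae, hbe, rfl⟩
    have hd2 := H.dim _ h3.ge (by omega)
    have hlt : U X {a, b, e} ⊓ U X {a, b, c, d} < U X {a, b, e} := inf_le_left.lt_of_ne fun e => h (inf_eq_left.1 e)
    have h1 := Submodule.finrank_lt_finrank_of_lt hlt
    have eB : U X {a, b, c} ⊓ U X {a, b, e} = U X {a, b, e} ⊓ U X {a, b, c, d} :=
      Submodule.eq_of_le_of_finrank_le (le_inf inf_le_right (inf_le_left.trans (hUd ▸ le_sup_left))) (by omega)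
    have eD : U X {a, b, d} ⊓ U X {a, b, e} = U X {a, b, e} ⊓ U X {a, b, c, d} :=
      Submodule.eq_of_le_of_finrank_le (le_inf inf_le_right (inf_le_left.trans (hUd ▸ le_sup_right))) (by omega)
    have hBA : U X {a, b, c} ⊓ U X {a, b, e} ≤ U X {a, b, c} ⊓ U X {a, b, d} :=
      le_inf inf_le_left ((eB.trans eD.symm).le.trans inf_le_left)
    exact hcon ((Submodule.eq_of_le_of_finrank_le hBA (by omega)).ge.trans inf_le_right)
  set P := U X {a, b, c, d} with hP
  have hc' : U X {a, b, c} ≤ P := U_mono (by intro x; simp; tauto)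
  have hd' : U X {a, b, d} ≤ P := U_mono (by intro x; simp; tauto)
  have hce' : U X {a, b, c, e} ≤ P := hUe ▸ sup_le hc' hle
  have hde' : U X {a, b, d, e} ≤ P := hUde ▸ sup_le hd' hle
  have hS : ({a, b, c, d, e} : Finset α).card = 5 := by simp [hab, hac, had, hae, hbc, hbd, hbe, hcd, hce, hde]
  have h5 : U X {a, b, c, d, e} ≤ P := by
    refine U_le_erase (by omega) fun t ht => ?_
    simp only [Finset.mem_insert, Finset.mem_singleton] at ht
    rcases ht with rfl | rfl | rfl | rfl | rfl
    · have hS4 : ({b, c, d, e} : Finset α).card = 4 := by simp [hbc, hbd, hbe, hcd, hce, hde]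
      have h := H.sup_erase hS4 (s := e) (t := d) (by simp) (by simp) hde.symm
      have : U X {b, c, d, e} ≤ P := h ▸ sup_le
        ((U_mono (T := {t, b, c, d}) (by intro x; simp only [Finset.mem_erase, Finset.mem_insert, Finset.mem_singleton]; grind)).trans le_rfl)
        ((U_mono (T := {t, b, c, e}) (by intro x; simp only [Finset.mem_erase, Finset.mem_insert, Finset.mem_singleton]; grind)).trans hce')
      exact (U_mono (by intro x; simp only [Finset.mem_erase, Finset.mem_insert, Finset.mem_singleton]; grind)).trans this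
    · have hS4 : ({a, c, d, e} : Finset α).card = 4 := by simp [hac, had, hae, hcd, hce, hde]
      have h := H.sup_erase hS4 (s := e) (t := d) (by simp) (by simp) hde.symm
      have : U X {a, c, d, e} ≤ P := h ▸ sup_le
        ((U_mono (T := {a, t, c, d}) (by intro x; simp only [Finset.mem_erase, Finset.mem_insert, Finset.mem_singleton]; grind)).trans le_rfl)
        ((U_mono (T := {a, t, c, e}) (by intro x; simp only [Finset.mem_erase, Finset.mem_insert, Finset.mem_singleton]; grind)).trans hce')
      exact (U_mono (by intro x; simp only [Finset.mem_erase, Finset.mem_insert, Finset.mem_singleton]; grind)).trans this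
    · exact (U_mono (by intro x; simp only [Finset.mem_erase, Finset.mem_insert, Finset.mem_singleton]; grind)).trans hde'
    · exact (U_mono (by intro x; simp only [Finset.mem_erase, Finset.mem_insert, Finset.mem_singleton]; grind)).trans hce'
    · exact U_mono (by intro x; simp only [Finset.mem_erase, Finset.mem_insert, Finset.mem_singleton]; grind)
  have := Submodule.finrank_mono h5
  have hS' : ({a, b, c, d} : Finset α).card = 4 := by simp [hab, hac, had, hbc, hbd, hcd]
  have q5 := H.dim _ (show 3 ≤ ({a, b, c, d, e} : Finset α).card by omega) (by omega)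
  have q4 := H.dim _ (show 3 ≤ ({a, b, c, d} : Finset α).card by omega) (by omega)
  rw [← hP] at q4
  omega

theorem Tight.Ln_eq {a b c d : α} (hab : a ≠ b) (hac : a ≠ c) (had : a ≠ d) (hbc : b ≠ c) (hbd : b ≠ d)
    (hcd : c ≠ d) : Ln X a b = U X {a, b, c} ⊓ U X {a, b, d} := by
  refine le_antisymm (fun v hv => ⟨mem_Ln.1 hv c hac.symm hbc.symm, mem_Ln.1 hv d had.symm hbd.symm⟩)
    fun v hv => mem_Ln.2 fun e hea heb => ?_
  by_cases hec : e = c
  · exact hec ▸ hv.1
  by_cases hed : e = d
  · exact hed ▸ hv.2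
  exact H.inf_le hab hac had (Ne.symm hea) hbc hbd (Ne.symm heb) hcd (Ne.symm hec) (Ne.symm hed) hv

theorem Tight.exists_notMem (S : Finset α) (hS : S.card < Fintype.card α) : ∃ x, x ∉ S := by
  have : (Sᶜ).Nonempty := by rw [← Finset.card_pos, Finset.card_compl]; omega
  obtain ⟨x, hx⟩ := this
  exact ⟨x, Finset.mem_compl.1 hx⟩

theorem Tight.Ln_finrank {a b : α} (hab : a ≠ b) : finrank k ↥(Ln X a b) = 1 := by
  have hbig := H.big
  have h2 : ({a, b} : Finset α).card ≤ 2 := Finset.card_le_two
  obtain ⟨c, hc⟩ := H.exists_notMem {a, b} (by omega)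
  have h3 : ({a, b, c} : Finset α).card ≤ 3 := Finset.card_le_three
  obtain ⟨d, hd⟩ := H.exists_notMem {a, b, c} (by omega)
  simp only [Finset.mem_insert, Finset.mem_singleton, not_or] at hc hd
  rw [H.Ln_eq hab (Ne.symm hc.1) (Ne.symm hd.1) (Ne.symm hc.2) (Ne.symm hd.2.1) (Ne.symm hd.2.2)]
  exact (H.inf_finrank hab (Ne.symm hc.1) (Ne.symm hd.1) (Ne.symm hc.2) (Ne.symm hd.2.1) (Ne.symm hd.2.2)).1

theorem Tight.exists_smul {a b : α} (hab : a ≠ b) {v w : V} (hv : v ∈ Ln X a b) (hw : w ∈ Ln X a b) (hv0 : v ≠ 0) :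
    ∃ t : k, w = t • v := by
  obtain ⟨t, ht⟩ := exists_smul_eq_of_finrank_eq_one (H.Ln_finrank hab)
    (x := (⟨v, hv⟩ : ↥(Ln X a b))) (fun e => hv0 (congrArg Subtype.val e)) ⟨w, hw⟩
  exact ⟨t, (congrArg Subtype.val ht).symm⟩

theorem Tight.Ln_le {a b c : α} (hac : a ≠ c) (hbc : b ≠ c) : Ln X a b ≤ U X {a, b, c} :=
  fun _ hv => mem_Ln.1 hv c hac.symm hbc.symm

/-- A line of two points is killed by a disjoint commutator map. -/
theorem Tight.N_Ln {a b i j l : α} (hab : a ≠ b) (hij : i ≠ j) (hil : i ≠ l) (hjl : j ≠ l)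
    (ha : a ≠ i ∧ a ≠ j ∧ a ≠ l) (hb : b ≠ i ∧ b ≠ j ∧ b ≠ l) {v : V} (hv : v ∈ Ln X a b) :
    N (X (tc i j l)) v = 0 := by
  have hbig := H.big
  have h5 : ({a, b, i, j, l} : Finset α).card ≤ 5 := Finset.card_le_five
  obtain ⟨e, he⟩ := H.exists_notMem {a, b, i, j, l} (by omega)
  simp only [Finset.mem_insert, Finset.mem_singleton, not_or] at he
  obtain ⟨hea, heb, hei, hej, hel⟩ := he
  have h := H.Ln_le (Ne.symm hea) (Ne.symm heb) hv
  rw [H.range a b e hab (Ne.symm hea) (Ne.symm heb)] at h
  obtain ⟨w, rfl⟩ := h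
  refine H.orth _ _ (tc_three hij hil hjl) (tc_three hab (Ne.symm hea) (Ne.symm heb)) (disjoint_tc ?_) w
  rintro x (rfl | rfl | rfl)
  · exact ⟨ha.1.symm, hb.1.symm, Ne.symm hei⟩
  · exact ⟨ha.2.1.symm, hb.2.1.symm, Ne.symm hej⟩
  · exact ⟨ha.2.2.symm, hb.2.2.symm, Ne.symm hel⟩

/-- Lines sharing a point are different. -/
theorem Tight.Ln_ne {a b c : α} (hab : a ≠ b) (hac : a ≠ c) (hbc : b ≠ c) : Ln X a b ≠ Ln X b c := by
  intro heq
  have hn : 5 ≤ Fintype.card α := by have := H.big; omega
  have hadj : ∀ i j l : α, i ≠ j → i ≠ l → j ≠ l → Ln X i j = Ln X j l := by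
    intro i j l hij hil hjl
    obtain ⟨σ, hσ, e1, e2, e3⟩ := exists_even_triple hn hab hac hbc hij hil hjl
    obtain ⟨g, -, hg⟩ := exists_lift H.sys hσ
    have key : ∀ x y, x ≠ y → (Ln X x y).map g.toLinearMap = Ln X (σ x) (σ y) := fun x y hxy => by
      refine Submodule.eq_of_le_of_finrank_le ?_ ?_
      · rintro _ ⟨v, hv, rfl⟩; exact hg.mem_Ln hv
      · rw [LinearEquiv.finrank_map_eq, H.Ln_finrank hxy, H.Ln_finrank (σ.injective.ne hxy)]
    have h1 := key a b hab
    rw [heq, key b c hbc, e1, e2, e3] at h1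
    exact h1.symm
  have hall : ∀ i j : α, i ≠ j → Ln X i j = Ln X a b := by
    intro i j hij
    have step : ∀ x y, x ≠ y → x ≠ a → y ≠ a → Ln X x y = Ln X a x := fun x y h1 h2 h3 =>
      (hadj a x y h2.symm h3.symm h1).symm
    have hax : ∀ x, x ≠ a → Ln X a x = Ln X a b := by
      intro x hx
      by_cases hxb : x = b
      · rw [hxb]
      · have := hadj x a b hx hxb hab
        rwa [Ln_symm x a] at this
    by_cases hia : i = a
    · subst hia; exact hax j hij.symm
    by_cases hja : j = a
    · subst hja; rw [Ln_symm]; exact hax i hij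
    rw [step i j hij hia hja]; exact hax i hia
  have hinv : Invt X (Ln X a b) := by
    intro d hd v hv
    obtain ⟨i, j, l, hij, hil, hjl, rfl⟩ := exists_tc hd
    have hbig := H.big
    have h3 : ({i, j, l} : Finset α).card ≤ 3 := Finset.card_le_three
    obtain ⟨x, hx⟩ := H.exists_notMem {i, j, l} (by omega)
    have h4 : ({i, j, l, x} : Finset α).card ≤ 4 := Finset.card_le_four
    obtain ⟨y, hy⟩ := H.exists_notMem {i, j, l, x} (by omega)
    simp only [Finset.mem_insert, Finset.mem_singleton, not_or] at hx hy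
    have h := H.N_Ln (Ne.symm hy.2.2.2) hij hil hjl hx ⟨hy.1, hy.2.1, hy.2.2.1⟩
      (v := v) (by rw [hall x y (Ne.symm hy.2.2.2)]; exact hv)
    rw [N_apply, sub_eq_zero] at h
    rwa [h]
  rcases H.irr _ hinv with h | h
  · have := H.Ln_finrank hab
    rw [h, finrank_bot] at this
    omega
  · have h1 := H.Ln_finrank hab
    rw [h, finrank_top] at h1
    have hs := Finset.exists_subset_card_eq (s := (Finset.univ : Finset α)) (n := 5)
      (by rw [Finset.card_univ]; omega)
    obtain ⟨S, -, hS⟩ := hs
    have := H.dim S (by omega) (by omega)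
    have := Submodule.finrank_le (U X S)
    omega

/-- The action of two adjacent triples on the lines along a path of four points. -/
theorem Tight.path {a b c d : α} (hab : a ≠ b) (hac : a ≠ c) (had : a ≠ d) (hbc : b ≠ c) (hbd : b ≠ d)
    (hcd : c ≠ d) {u v w : V} (hu : u ∈ Ln X a b) (hu0 : u ≠ 0) (hv : v = X (tc a b c) u)
    (hw : w = X (tc b c d) v) :
    X (tc b c d) u = u + v ∧ X (tc a b c) w = w + u + v := by
  have hx : IsThreeCycle (tc a b c) := tc_three hab hac hbc
  have hy : IsThreeCycle (tc b c d) := tc_three hbc hbd hcd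
  have hvL : v ∈ Ln X b c := by
    have := (Lifts.self H.sys hx).mem_Ln hu
    rwa [tc_fst hab hac, tc_snd hac hbc, ← hv] at this
  have hwL : w ∈ Ln X c d := by
    have := (Lifts.self H.sys hy).mem_Ln hvL
    rwa [tc_fst hbc hbd, tc_snd hbd hcd, ← hw] at this
  have hv0 : v ≠ 0 := by rw [hv]; exact fun e => hu0 ((LinearEquiv.map_eq_zero_iff _).1 e)
  have hw0 : w ≠ 0 := by rw [hw]; exact fun e => hv0 ((LinearEquiv.map_eq_zero_iff _).1 e)
  have hxv : X (tc a b c) v = -(u + v) := by
    have h := H.Ln_le hac hbc hu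
    rw [H.range a b c hab hac hbc] at h
    obtain ⟨z, hz⟩ := h
    have h3 := congrArg (fun g : V ≃ₗ[k] V => g z) (H.sys.cube _ hx)
    simp only [pow_succ, pow_zero, one_mul, mul_apply, one_apply] at h3
    rw [hv, ← hz]
    simp only [N_apply, map_sub, h3]
    abel
  have eabc : ({b, c, a} : Finset α) = {a, b, c} := by ext x; simp; tauto
  have hbcI : U X {a, b, c} ⊓ U X {b, c, d} = Ln X b c := by
    rw [H.Ln_eq hbc hab.symm hbd hac.symm hcd had, eabc]
  have hy1 : X (tc b c d) u = u + v := by
    have h1 : X (tc b c d) u ∈ Ln X a c := by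
      have := (Lifts.self H.sys hy).mem_Ln hu
      rwa [tc_other hab hac had, tc_fst hbc hbd] at this
    have h2 : -(u + v) ∈ Ln X a c := by
      have := (Lifts.self H.sys hx).mem_Ln hvL
      rwa [tc_snd hac hbc, tc_trd, hxv, Ln_symm] at this
    have h20 : -(u + v) ≠ 0 := hxv ▸ fun e => hv0 ((LinearEquiv.map_eq_zero_iff _).1 e)
    obtain ⟨t, ht⟩ := H.exists_smul hac h2 h1 h20
    have hN : X (tc b c d) u - u ∈ U X {b, c, d} :=
      mem_U hy (tc_support _ (by simp) (by simp) (by simp)) u
    have hmem : (-t - 1) • u ∈ U X {b, c, d} := by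
      have hvd := H.Ln_le hbd hcd hvL
      have := (U X {b, c, d}).add_mem hN ((U X {b, c, d}).smul_mem t hvd)
      rw [ht] at this
      convert this using 1
      module
    by_cases ht1 : -t - 1 = 0
    · rw [ht, show t = -1 by linear_combination -ht1]
      module
    · exfalso
      have hu' := ((U X {b, c, d}).smul_mem_iff ht1).1 hmem
      have hub : u ∈ Ln X b c := hbcI ▸ ⟨H.Ln_le hac hbc hu, hu'⟩
      refine H.Ln_ne hab hac hbc (le_antisymm ?_ ?_)
      · intro z hz
        obtain ⟨r, hr⟩ := H.exists_smul hab hu hz hu0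
        exact hr ▸ (Ln X b c).smul_mem r hub
      · intro z hz
        obtain ⟨r, hr⟩ := H.exists_smul hbc hub hz hu0
        exact hr ▸ (Ln X a b).smul_mem r hu
  refine ⟨hy1, ?_⟩
  have h1 : X (tc a b c) w ∈ Ln X a d := by
    have := (Lifts.self H.sys hx).mem_Ln hwL
    rwa [tc_trd, tc_other had.symm hbd.symm hcd.symm] at this
  have hs : X (tc b c d) (u + v) = u + v + w := by rw [map_add, hy1, ← hw]
  have h2 : u + v + w ∈ Ln X a d := by
    have h := (Lifts.self H.sys hx).mem_Ln hvL
    rw [tc_snd hac hbc, tc_trd, hxv, Ln_symm, Submodule.neg_mem_iff] at h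
    have := (Lifts.self H.sys hy).mem_Ln h
    rwa [tc_other hab hac had, tc_snd hbd hcd, hs] at this
  have h20 : u + v + w ≠ 0 := hs ▸ fun e => by
    have e' := (LinearEquiv.map_eq_zero_iff _).1 e
    exact hv0 ((LinearEquiv.map_eq_zero_iff (X (tc a b c))).1 (by rw [hxv, e', neg_zero]))
  obtain ⟨t, ht⟩ := H.exists_smul had h2 h1 h20
  have hN : X (tc a b c) w - w ∈ U X {a, b, c} :=
    mem_U hx (tc_support _ (by simp) (by simp) (by simp)) w
  have hmem : (t - 1) • w ∈ U X {a, b, c} := by
    have huv : u + v ∈ U X {a, b, c} :=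
      add_mem (H.Ln_le hac hbc hu) (eabc ▸ H.Ln_le hab.symm hac.symm hvL)
    have := (U X {a, b, c}).sub_mem hN ((U X {a, b, c}).smul_mem t huv)
    rw [ht] at this
    convert this using 1
    module
  by_cases ht1 : t - 1 = 0
  · rw [ht, sub_eq_zero.1 ht1]
    module
  · exfalso
    have hw' := ((U X {a, b, c}).smul_mem_iff ht1).1 hmem
    have hwd : w ∈ U X {b, c, d} := by
      have e : ({c, d, b} : Finset α) = {b, c, d} := by ext x; simp; tauto
      exact e ▸ H.Ln_le hbc.symm hbd.symm hwL
    have hwb : w ∈ Ln X b c := hbcI ▸ ⟨hw', hwd⟩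
    refine H.Ln_ne hbc hbd hcd (le_antisymm ?_ ?_)
    · intro z hz
      obtain ⟨r, hr⟩ := H.exists_smul hbc hwb hz hw0
      exact hr ▸ (Ln X c d).smul_mem r hwL
    · intro z hz
      obtain ⟨r, hr⟩ := H.exists_smul hcd hwL hz hw0
      exact hr ▸ (Ln X b c).smul_mem r hwb

theorem Tight.card_eq_zero (hdim : finrank k V = Fintype.card α - 2) : (Fintype.card α : k) = 0 := by
  classical
  set m := Fintype.card α with hm
  have hbig : 9 ≤ m := H.big
  have : Nonempty α := Fintype.card_pos_iff.1 (by omega)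
  let e : Fin m ≃ α := (Fintype.equivFin α).symm
  let p : ℕ → α := fun i => if h : i < m then e ⟨i, h⟩ else Classical.arbitrary α
  have hp : ∀ i j, i < m → j < m → i ≠ j → p i ≠ p j := by
    intro i j hi hj hij h
    simp only [p, dif_pos hi, dif_pos hj, e.injective.eq_iff, Fin.mk.injEq] at h
    exact hij h
  obtain ⟨u0, hu0, hu00⟩ := Submodule.exists_mem_ne_zero_of_ne_bot
    (show Ln X (p 0) (p 1) ≠ ⊥ from fun h => by
      have := H.Ln_finrank (hp 0 1 (by omega) (by omega) (by omega))
      rw [h, finrank_bot] at this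
      omega)
  let x : ℕ → (V ≃ₗ[k] V) := fun i => X (tc (p i) (p (i + 1)) (p (i + 2)))
  let w : ℕ → V := fun i => Nat.rec u0 (fun j z => x j z) i
  have hwS : ∀ i, w (i + 1) = x i (w i) := fun i => rfl
  have hw0 : ∀ i, w i ≠ 0 := by
    intro i
    induction i with
    | zero => exact hu00
    | succ i ih => rw [hwS]; exact fun h => ih ((LinearEquiv.map_eq_zero_iff _).1 h)
  have hwL : ∀ i, i + 1 < m → w i ∈ Ln X (p i) (p (i + 1)) := by
    intro i
    induction i with
    | zero => intro _; exact hu0
    | succ i ih =>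
      intro hi
      have h1 := hp i (i + 1) (by omega) (by omega) (by omega)
      have h2 := hp i (i + 2) (by omega) (by omega) (by omega)
      have h3 := hp (i + 1) (i + 2) (by omega) (by omega) (by omega)
      have := (Lifts.self H.sys (tc_three h1 h2 h3)).mem_Ln (ih (by omega))
      rw [tc_fst h1 h2, tc_snd h2 h3] at this
      rw [hwS]
      exact this
  -- the values of the commutator maps on the chain
  have hval : ∀ i j, i + 2 < m → j + 1 < m → N (x i) (w j) =
      ((if j + 1 = i then (1 : k) else 0) - (if j = i then 1 else 0) - (if j = i + 1 then 1 else 0) +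
          (if j = i + 2 then 1 else 0)) • w i +
        ((if j = i then (1 : k) else 0) - (if j = i + 1 then 2 else 0) + (if j = i + 2 then 1 else 0)) • w (i + 1) := by
    intro i j hi hj
    have hP : ∀ a, a + 3 < m → x (a + 1) (w a) = w a + w (a + 1) ∧ x a (w (a + 2)) = w (a + 2) + w a + w (a + 1) :=
      fun a ha => H.path (hp a (a + 1) (by omega) (by omega) (by omega)) (hp a (a + 2) (by omega) (by omega) (by omega))
        (hp a (a + 3) (by omega) (by omega) (by omega)) (hp (a + 1) (a + 2) (by omega) (by omega) (by omega))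
        (hp (a + 1) (a + 3) (by omega) (by omega) (by omega)) (hp (a + 2) (a + 3) (by omega) (by omega) (by omega))
        (hwL a (by omega)) (hw0 a) (hwS a) (hwS (a + 1))
    by_cases h1 : j + 1 = i
    · subst h1
      have := (hP j (by omega)).1
      rw [N_apply, this]
      split_ifs <;> first | omega | module
    by_cases h2 : j = i
    · subst h2
      rw [N_apply, ← hwS]
      split_ifs <;> first | omega | module
    by_cases h3 : j = i + 1
    · subst h3
      have hI := hp i (i + 1) (by omega) (by omega) (by omega)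
      have hI2 := hp i (i + 2) (by omega) (by omega) (by omega)
      have hI3 := hp (i + 1) (i + 2) (by omega) (by omega) (by omega)
      have hmem := H.Ln_le hI2 hI3 (hwL i (by omega))
      rw [H.range _ _ _ hI hI2 hI3] at hmem
      obtain ⟨z, hz⟩ := hmem
      have h := congrArg (fun g : V ≃ₗ[k] V => g z) (H.sys.cube _ (tc_three hI hI2 hI3))
      simp only [pow_succ, pow_zero, one_mul, mul_apply, one_apply] at h
      have : x i (w (i + 1)) = -w i - w (i + 1) := by
        rw [hwS, ← hz]
        simp only [x, N_apply, map_sub, h]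
        abel
      rw [N_apply, this]
      split_ifs <;> first | omega | module
    by_cases h4 : j = i + 2
    · subst h4
      have := (hP i (by omega)).2
      rw [N_apply, this]
      split_ifs <;> first | omega | module
    have := H.N_Ln (hp j (j + 1) (by omega) hj (by omega)) (hp i (i + 1) (by omega) (by omega) (by omega))
      (hp i (i + 2) (by omega) (by omega) (by omega)) (hp (i + 1) (i + 2) (by omega) (by omega) (by omega))
      ⟨hp _ _ (by omega) (by omega) h2, hp _ _ (by omega) (by omega) h3, hp _ _ (by omega) (by omega) h4⟩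
      ⟨hp _ _ (by omega) (by omega) (by omega), hp _ _ (by omega) (by omega) (by omega),
        hp _ _ (by omega) (by omega) (by omega)⟩ (hwL j hj)
    rw [this]
    split_ifs <;> first | omega | module
  -- a relation
  obtain ⟨g, hg, i₀, hi₀⟩ := Fintype.not_linearIndependent_iff.1
    (show ¬ LinearIndependent k (fun j : Fin (m - 1) => w j) from fun h => by
      have := h.fintype_card_le_finrank
      rw [Fintype.card_fin] at this
      omega)
  let C : ℕ → k := fun j => if h : j < m - 1 then g ⟨j, h⟩ else 0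
  have hsum : ∑ j ∈ Finset.range (m - 1), C j • w j = 0 := by
    rw [← Fin.sum_univ_eq_sum_range (fun j => C j • w j), ← hg]
    exact Finset.sum_congr rfl fun j _ => by simp [C]
  have hδ : ∀ t, (∑ j ∈ Finset.range (m - 1), if j = t then C j else 0) = C t := by
    intro t
    rw [Finset.sum_ite_eq']
    split_ifs with h
    · rfl
    · rw [Finset.mem_range] at h; simp [C, h]
  have hind : ∀ i, i + 2 < m → ∀ r s : k, r • w i + s • w (i + 1) = 0 → r = 0 ∧ s = 0 := by
    intro i hi r s hrs
    have hI := hp i (i + 1) (by omega) (by omega) (by omega)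
    have hI2 := hp i (i + 2) (by omega) (by omega) (by omega)
    have hI3 := hp (i + 1) (i + 2) (by omega) (by omega) (by omega)
    by_cases hs : s = 0
    · subst hs
      rw [zero_smul, add_zero, smul_eq_zero] at hrs
      exact ⟨hrs.resolve_right (hw0 i), rfl⟩
    exfalso
    have hmem : w (i + 1) ∈ Ln X (p i) (p (i + 1)) := by
      refine ((Ln X (p i) (p (i + 1))).smul_mem_iff hs).1 ?_
      rw [show s • w (i + 1) = -(r • w i) from eq_neg_of_add_eq_zero_right hrs]
      exact neg_mem (Submodule.smul_mem _ _ (hwL i (by omega)))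
    refine H.Ln_ne hI hI2 hI3 (le_antisymm ?_ ?_)
    · intro z hz
      obtain ⟨t, ht⟩ := H.exists_smul hI hmem hz (hw0 (i + 1))
      exact ht ▸ Submodule.smul_mem _ t (hwL (i + 1) hi)
    · intro z hz
      obtain ⟨t, ht⟩ := H.exists_smul hI3 (hwL (i + 1) hi) hz (hw0 (i + 1))
      exact ht ▸ Submodule.smul_mem _ t hmem
  have heq : ∀ i, i + 2 < m →
      (∑ j ∈ Finset.range (m - 1), if j + 1 = i then C j else 0) - C i - C (i + 1) + C (i + 2) = 0 ∧
        C i - 2 * C (i + 1) + C (i + 2) = 0 := by
    intro i hi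
    refine hind i hi _ _ ?_
    have h0 := congrArg (N (x i)) hsum
    rw [map_sum, map_zero] at h0
    rw [← h0, ← hδ i, ← hδ (i + 1), ← hδ (i + 2), Finset.mul_sum, ← Finset.sum_sub_distrib,
      ← Finset.sum_sub_distrib, ← Finset.sum_add_distrib, ← Finset.sum_sub_distrib, ← Finset.sum_add_distrib,
      Finset.sum_smul, Finset.sum_smul, ← Finset.sum_add_distrib]
    refine Finset.sum_congr rfl fun j hj => ?_
    rw [Finset.mem_range] at hj
    rw [map_smul, hval i j hi (by omega), smul_add, smul_smul, smul_smul]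
    congr 2 <;> · split_ifs <;> ring
  have h01 : C 1 = 2 * C 0 := by
    obtain ⟨ha, hb⟩ := heq 0 (by omega)
    rw [Finset.sum_eq_zero (fun j _ => if_neg (by omega))] at ha
    linear_combination (1 : k) * ha - hb
  have hC : ∀ j, j ≤ m - 1 → C j = ((j : k) + 1) * C 0 := by
    intro j
    induction j using Nat.twoStepInduction with
    | zero => intro _; simp
    | one => intro _; rw [h01]; norm_num
    | more j ih1 ih2 =>
      intro hj
      have h := (heq j (by omega)).2
      rw [ih1 (by omega), ih2 (by omega)] at h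
      push_cast at h ⊢
      linear_combination h
  have hC0 : C 0 ≠ 0 := by
    intro h0
    apply hi₀
    have := hC i₀.1 (by omega)
    rw [h0, mul_zero] at this
    simpa [C, i₀.2] using this
  have hlast := hC (m - 1) le_rfl
  rw [show C (m - 1) = 0 by simp [C]] at hlast
  rw [Nat.cast_sub (by omega), Nat.cast_one, sub_add_cancel] at hlast
  exact (mul_eq_zero.1 hlast.symm).resolve_right hC0

end Equality

theorem rel_II [FiniteDimensional k V] (hX : Sys X) (hne : NonTriv X) (hirr : Irr X) (hII : II X)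
    (h2 : ∀ c, IsThreeCycle c → 2 ≤ finrank k (LinearMap.range (N (X c)))) (hn : 9 ≤ Fintype.card α)
    (hdim : finrank k V = Fintype.card α - 2) : (Fintype.card α : k) = 0 :=
  (Tight.mk' hX hne hirr hII h2 hn hdim).card_eq_zero hdim

end Cfsg.Agent.Lib.AltSectGL
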