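import Cfsg.Agent.Lib.AltSectGL.Tools

/-!
Eigenspaces of lifts of cycles of prime order.
-/

set_option autoImplicit false
set_option linter.unusedSectionVars false

namespace Cfsg.Agent.Lib.AltSectGL

open Equiv Equiv.Perm Module Module.End

universe u

variable {α : Type*} [Fintype α] [DecidableEq α] {k : Type*} [Field k] {V : Type u} [AddCommGroup V] [Module k V]
variable {X : Perm α → (V ≃ₗ[k] V)}

/-- The eigenspace of an automorphism. -/
abbrev eig (u : V ≃ₗ[k] V) (a : k) : Submodule k V := Module.End.eigenspace u.toLinearMap a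

theorem mem_eig {u : V ≃ₗ[k] V} {a : k} {v : V} : v ∈ eig u a ↔ u v = a • v := Module.End.mem_eigenspace_iff

theorem pow_apply_eig {u : V ≃ₗ[k] V} {a : k} {v : V} (h : u v = a • v) (t : ℕ) : (u ^ t) v = a ^ t • v := by
  induction t with
  | zero => simp [one_apply]
  | succ t ih => rw [pow_succ, mul_apply, h, map_smul, ih, smul_smul, pow_succ, mul_comm]

/-- Scaling by a nonzero constant, as an automorphism commuting with all others. -/
def sc (a : k) (ha : a ≠ 0) : V ≃ₗ[k] V := LinearEquiv.smulOfNeZero k V a ha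

theorem sc_apply (a : k) (ha : a ≠ 0) (v : V) : sc a ha v = a • v := rfl

theorem sc_comm (a : k) (ha : a ≠ 0) (g : V ≃ₗ[k] V) : Commute (sc a ha) g := by
  show sc a ha * g = g * sc a ha
  ext v
  simp [mul_apply, sc_apply]

theorem sc_pow (a : k) (ha : a ≠ 0) (n : ℕ) : (sc a ha : V ≃ₗ[k] V) ^ n = sc (a ^ n) (pow_ne_zero n ha) := by
  induction n with
  | zero => ext v; simp [sc_apply, one_apply]
  | succ n ih => ext v; simp [pow_succ', ih, mul_apply, sc_apply, mul_smul]; exact smul_comm _ _ _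

theorem Lifts.sc_mul {σ : Perm α} {g : V ≃ₗ[k] V} (hg : Lifts X σ g) (a : k) (ha : a ≠ 0) :
    Lifts X σ (sc a ha * g) := by
  intro d hd
  rw [hg d hd, show sc a ha * g * X d * (sc a ha * g)⁻¹ = sc a ha * (g * X d * g⁻¹) * (sc a ha)⁻¹ from by group,
    (sc_comm a ha _).eq, mul_inv_cancel_right]

/-- Two lifts of the same permutation differ by a scalar. -/
theorem Lifts.scalar [IsAlgClosed k] [FiniteDimensional k V] [Nontrivial V] (hirr : Irr X) {σ : Perm α}
    {g g' : V ≃ₗ[k] V} (hg : Lifts X σ g) (hg' : Lifts X σ g') : ∃ (a : k) (ha : a ≠ 0), g' = sc a ha * g := by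
  have hc : ∀ c, IsThreeCycle c → Commute (g⁻¹ * g') (X c) := fun c hc => by
    have h := (hg.inv.mul hg') c hc
    rw [inv_mul_cancel, one_mul, inv_one, mul_one] at h
    exact (eq_mul_inv_iff_mul_eq.1 h).symm
  obtain ⟨a, ha⟩ := schur hirr (g⁻¹ * g').toLinearMap fun c hc' v => by
    have h := congrArg (fun e : V ≃ₗ[k] V => e v) (hc c hc').eq
    simpa [mul_apply] using h
  have h0 : a ≠ 0 := by
    rintro rfl
    obtain ⟨v, hv⟩ := exists_ne (0 : V)
    apply hv
    apply (g⁻¹ * g').injective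
    simpa using ha v
  refine ⟨a, h0, ?_⟩
  ext v
  have h := ha v
  rw [mul_apply, sc_apply, ← map_smul g, ← h]
  simp [mul_apply, self_apply_inv]

/-- Normalised lift of a permutation of prime order which is conjugated to a power. -/
theorem exists_cycle_lift [IsAlgClosed k] [FiniteDimensional k V] [Nontrivial V] (hn : 5 ≤ Fintype.card α)
    (hX : Sys X) (hne : NonTriv X) (hirr : Irr X) {σ τ : Perm α} {u₀ g : V ≃ₗ[k] V} (hu : Lifts X σ u₀)
    (hg : Lifts X τ g) (hσs : sign σ = 1) (hσ1 : σ ≠ 1) {ℓ e j : ℕ} (hℓ : σ ^ ℓ = 1) (hℓ0 : 0 < ℓ)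
    (hj : (j * (e - 1)) % ℓ = 1) (he : 1 ≤ e) (hτ : τ * σ * τ⁻¹ = σ ^ e) :
    ∃ (a : k) (ha : a ≠ 0), (sc a ha * u₀) ^ ℓ = 1 ∧ sc a ha * u₀ ≠ 1 ∧
      g * (sc a ha * u₀) * g⁻¹ = (sc a ha * u₀) ^ e := by
  have lpow : ∀ (w : V ≃ₗ[k] V), Lifts X σ w → ∀ t : ℕ, Lifts X (σ ^ t) (w ^ t) := by
    intro w hw t
    induction t with
    | zero => rw [pow_zero, pow_zero]; exact Lifts.one
    | succ t ih => rw [pow_succ, pow_succ]; exact ih.mul hw
  have hl1 : Lifts X 1 (u₀ ^ ℓ) := hℓ ▸ lpow u₀ hu ℓ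
  obtain ⟨b, hb, e1⟩ := Lifts.scalar hirr Lifts.one hl1
  rw [mul_one] at e1
  obtain ⟨r, hr⟩ := IsAlgClosed.exists_pow_nat_eq b⁻¹ hℓ0
  have hr0 : r ≠ 0 := fun h => by rw [h, zero_pow hℓ0.ne'] at hr; exact inv_ne_zero hb hr.symm
  have hu1 : (sc r hr0 * u₀) ^ ℓ = 1 := by
    rw [(sc_comm r hr0 u₀).mul_pow, sc_pow, e1]
    ext v
    simp [mul_apply, sc_apply, one_apply, hr, smul_smul, hb]
  set u₁ := sc r hr0 * u₀ with hu₁
  have hl2 : Lifts X (σ ^ e) (g * u₁ * g⁻¹) := hτ ▸ (hg.mul (hu.sc_mul r hr0)).mul hg.inv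
  obtain ⟨z, hz, e2⟩ := Lifts.scalar hirr (lpow u₁ (hu.sc_mul r hr0) e) hl2
  have hz1 : z ^ ℓ = 1 := by
    have h := congrArg (· ^ ℓ) e2
    have hue : (u₁ ^ e) ^ ℓ = 1 := by rw [← pow_mul, mul_comm, pow_mul, hu1, one_pow]
    simp only [conj_pow, hu1, hue, mul_one, mul_inv_cancel, (sc_comm z hz _).mul_pow, sc_pow] at h
    obtain ⟨v, hv⟩ := exists_ne (0 : V)
    have h2 := congrArg (fun w : V ≃ₗ[k] V => w v) h
    simp only [sc_apply, one_apply] at h2
    by_contra hne1
    exact hv ((smul_eq_zero.1 (by rw [sub_smul, one_smul, ← h2, sub_self] : (z ^ ℓ - 1) • v = 0)).resolve_left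
      (sub_ne_zero.2 hne1))
  have hη : (z ^ j) ^ e = z ^ j * z := by
    obtain ⟨e', rfl⟩ := Nat.exists_eq_add_of_le he
    rw [Nat.add_sub_cancel_left] at hj
    have := Nat.div_add_mod (j * e') ℓ
    rw [hj] at this
    rw [← pow_mul, mul_add, mul_one, pow_add, ← this, pow_add, pow_mul, hz1, one_pow, one_mul, pow_one]
  refine ⟨z ^ j * r, mul_ne_zero (pow_ne_zero _ hz) hr0, ?_⟩
  have he' : sc (z ^ j * r) (mul_ne_zero (pow_ne_zero _ hz) hr0) * u₀ = sc (z ^ j) (pow_ne_zero _ hz) * u₁ := by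
    ext v; simp [hu₁, mul_apply, sc_apply, smul_smul, mul_comm]
  rw [he']
  refine ⟨?_, ?_, ?_⟩
  · rw [(sc_comm _ _ _).mul_pow, sc_pow, hu1, mul_one]
    ext v
    rw [sc_apply, one_apply, ← pow_mul, mul_comm, pow_mul, hz1, one_pow, one_smul]
  · intro h1
    refine hσ1 (eq_one_of_central hn hX hne hσs ((hu.sc_mul r hr0).sc_mul _ (pow_ne_zero j hz)) fun c _ => ?_)
    rw [h1]; exact Commute.one_left _
  · clear_value u₁
    calc g * (sc (z ^ j) (pow_ne_zero _ hz) * u₁) * g⁻¹
        = sc (z ^ j) (pow_ne_zero _ hz) * (g * u₁ * g⁻¹) := by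
          rw [← mul_assoc g, ← (sc_comm (z ^ j) (pow_ne_zero _ hz) g).eq]; group
      _ = (sc (z ^ j) (pow_ne_zero _ hz) * u₁) ^ e := by
          rw [e2, (sc_comm (z ^ j) (pow_ne_zero _ hz) u₁).mul_pow, sc_pow]
          generalize u₁ ^ e = w
          ext v
          simp [mul_apply, sc_apply, hη, smul_smul, mul_comm]

section Spec

variable [FiniteDimensional k V]

/-- An automorphism of finite order prime to the characteristic is diagonalisable. -/
theorem eig_span [IsAlgClosed k] {u : V ≃ₗ[k] V} {ℓ : ℕ} (hu : u ^ ℓ = 1) (hℓ : (ℓ : k) ≠ 0) :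
    ⨆ a : k, eig u a = ⊤ := by
  have hp : ∀ t : ℕ, (u.toLinearMap : Module.End k V) ^ t = (u ^ t).toLinearMap := by
    intro t
    induction t with
    | zero => rfl
    | succ t ih => rw [pow_succ, pow_succ, ih]; rfl
  have hs : Module.End.IsSemisimple (u.toLinearMap : Module.End k V) := by
    refine isSemisimple_of_squarefree_aeval_eq_zero (p := Polynomial.X ^ ℓ - 1)
      (Polynomial.X_pow_sub_one_separable_iff.2 hℓ).squarefree ?_
    rw [map_sub, map_pow, Polynomial.aeval_X, map_one, hp, hu]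
    exact sub_self _
  have := Module.End.iSup_maxGenEigenspace_eq_top (u.toLinearMap : Module.End k V)
  simpa only [hs.isFinitelySemisimple.maxGenEigenspace_eq_eigenspace] using this

/-- An eigenvalue of an automorphism of finite order is a root of unity. -/
theorem eig_pow {u : V ≃ₗ[k] V} {ℓ : ℕ} (hu : u ^ ℓ = 1) {a : k} (h : eig u a ≠ ⊥) : a ^ ℓ = 1 := by
  obtain ⟨v, hv, hv0⟩ := Submodule.exists_mem_ne_zero_of_ne_bot h
  have h2 := pow_apply_eig (mem_eig.1 hv) ℓ
  rw [hu, one_apply] at h2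
  by_contra hne
  exact hv0 ((smul_eq_zero.1 (by rw [sub_smul, one_smul, ← h2, sub_self] : (a ^ ℓ - 1) • v = 0)).resolve_left
    (sub_ne_zero.2 hne))

/-- The dimensions of finitely many eigenspaces add up to at most the dimension. -/
theorem eig_sum_le (u : V ≃ₗ[k] V) (s : Finset k) : ∑ a ∈ s, finrank k (eig u a) ≤ finrank k V := by
  classical
  suffices h : finrank k ↥(⨆ a ∈ s, eig u a) = ∑ a ∈ s, finrank k (eig u a) from h ▸ Submodule.finrank_le _
  induction s using Finset.induction_on with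
  | empty => simp
  | @insert a s ha ih =>
    rw [Finset.iSup_insert, Finset.sum_insert ha]
    have hd : eig u a ⊓ (⨆ b ∈ s, eig u b) = ⊥ := by
      rw [← disjoint_iff]
      exact (Module.End.eigenspaces_iSupIndep (u.toLinearMap : Module.End k V)).disjoint_biSup
        (y := (↑s : Set k)) (by simpa using ha)
    have := Submodule.finrank_sup_add_finrank_inf_eq (eig u a) (⨆ b ∈ s, eig u b)
    rw [hd, finrank_bot, add_zero, ih] at this
    exact this

/-- A map commuting with an automorphism and killing its nontrivial eigenspaces has range in the fixed space. -/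
theorem range_le_fixed {u : V ≃ₗ[k] V} (hspan : ⨆ a : k, eig u a = ⊤) (f : V →ₗ[k] V)
    (hf : ∀ v, f (u v) = u (f v)) (hkill : ∀ a, a ≠ 1 → ∀ v ∈ eig u a, f v = 0) :
    LinearMap.range f ≤ eig u 1 := by
  rw [LinearMap.range_eq_map, ← hspan, Submodule.map_iSup]
  refine iSup_le fun a => ?_
  rintro _ ⟨v, hv, rfl⟩
  rcases eq_or_ne a 1 with rfl | ha
  · rw [mem_eig, ← hf, mem_eig.1 hv, map_smul]
  · rw [hkill a ha v hv]; exact zero_mem _

theorem finrank_eig_le_of_map {u h : V ≃ₗ[k] V} {a b : k} (hm : ∀ v, u v = a • v → u (h v) = b • h v) :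
    finrank k (eig u a) ≤ finrank k (eig u b) := by
  rw [← LinearEquiv.finrank_map_eq h (eig u a)]
  exact Submodule.finrank_mono (by rintro _ ⟨v, hv, rfl⟩; exact mem_eig.2 (hm v (mem_eig.1 hv)))

/-- If an automorphism is conjugate to its power, its nontrivial eigenspaces along the powers have equal dimensions. -/
theorem eig_le_pow {u g : V ≃ₗ[k] V} {e : ℕ} (hg : g * u * g⁻¹ = u ^ e) (a : k) (t : ℕ) :
    finrank k (eig u a) ≤ finrank k (eig u (a ^ e ^ t)) := by
  induction t with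
  | zero => rw [pow_zero, pow_one]
  | succ t ih =>
    refine ih.trans ?_
    rw [pow_succ e t, pow_mul]
    refine finrank_eig_le_of_map (h := g⁻¹) fun v hv => ?_
    have h2 : u * g⁻¹ = g⁻¹ * u ^ e := by rw [← hg]; group
    have h3 := congrArg (fun w : V ≃ₗ[k] V => w v) h2
    simp only [mul_apply] at h3
    rw [h3, pow_apply_eig hv, map_smul]

end Spec

end Cfsg.Agent.Lib.AltSectGL
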