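import Cfsg.Agent.Lib.AltSectGL.Rank
import Cfsg.Agent.Lib.AltSectGL.Eigen

/-!
The commutator image of a three-cycle carries the system of the complement.
-/

set_option autoImplicit false
set_option linter.unusedSectionVars false

namespace Cfsg.Agent.Lib.AltSectGL

open Equiv Equiv.Perm Module

universe u

variable {α : Type*} [Fintype α] [DecidableEq α] {k : Type*} [Field k] {V : Type u} [AddCommGroup V] [Module k V]
variable {X : Perm α → (V ≃ₗ[k] V)}

/-- A lower bound for the degrees of nontrivial systems on a set of points. -/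
def Bd (α : Type*) [Fintype α] [DecidableEq α] (k : Type*) [Field k] (B : ℕ) : Prop :=
  ∀ (W : Type u) [AddCommGroup W] [Module k W] [FiniteDimensional k W] (Y : Perm α → (W ≃ₗ[k] W)),
    Sys Y → NonTriv Y → B ≤ finrank k W

/-- A one-dimensional system on at least five points is trivial. -/
theorem bd_two (hn : 5 ≤ Fintype.card α) : Bd.{u} α k 2 := by
  intro W _ _ _ Y hY hne
  by_contra h
  obtain ⟨c, hc, hc1⟩ := hne
  refine hc1 (eq_one_of_comm hn hY (fun a b _ _ => ?_) c hc)
  show Y a * Y b = Y b * Y a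
  ext v
  obtain ⟨w, hw⟩ := finrank_le_one_iff.1 (show finrank k W ≤ 1 by omega)
  obtain ⟨x, hx⟩ := hw v
  obtain ⟨s, hs⟩ := hw (Y a w)
  obtain ⟨t, ht⟩ := hw (Y b w)
  simp [mul_apply, ← hx, ← hs, ← ht, smul_smul, mul_comm, mul_left_comm]

theorem co_nontriv (hn : 5 ≤ Fintype.card α) (hX : Sys X) (hne : NonTriv X) (s : Finset α)
    (hs : s.card + 3 ≤ Fintype.card α) : NonTriv (coX X s) := by
  obtain ⟨c, hc⟩ : ∃ c : Perm {x // x ∉ s}, IsThreeCycle c := by
    have h3 : 3 ≤ Fintype.card {x // x ∉ s} := by rw [card_co]; omega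
    obtain ⟨f⟩ : Nonempty (Fin 3 ↪ {x // x ∉ s}) :=
      Function.Embedding.nonempty_of_card_le (by rw [Fintype.card_fin]; exact h3)
    exact ⟨tc (f 0) (f 1) (f 2), tc_three (f.injective.ne (by decide)) (f.injective.ne (by decide))
      (f.injective.ne (by decide))⟩
  exact ⟨c, hc, hne.all hn hX (three_ofSubtype hc)⟩

/-- A bound on fewer points holds on more. -/
theorem bd_mono (hn : 5 ≤ Fintype.card α) (s : Finset α) (hs : s.card + 3 ≤ Fintype.card α) {B : ℕ}
    (hB : Bd.{u} {x // x ∉ s} k B) : Bd.{u} α k B :=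
  fun W _ _ _ Y hY hne => hB W _ (coX_sys hY s) (co_nontriv hn hY hne s hs)

theorem commute_co (hX : Sys X) {c : Perm α} (hc : IsThreeCycle c) {s : Finset α} (hs : c.support ⊆ s)
    {d : Perm {x // x ∉ s}} (hd : IsThreeCycle d) : Commute (X c) (coX X s d) :=
  hX.comm_of_disjoint hc (three_ofSubtype hd) (disjoint_co hs d)

theorem invt_range {Y : Perm α → (V ≃ₗ[k] V)} {g : V ≃ₗ[k] V} (hg : ∀ c, IsThreeCycle c → Commute g (Y c)) :
    Invt Y (LinearMap.range (N g)) := by
  rintro c hc _ ⟨v, rfl⟩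
  refine ⟨Y c v, ?_⟩
  have h := congrArg (fun e : V ≃ₗ[k] V => e v) (hg c hc).eq
  simp only [mul_apply] at h
  simp [h]

theorem invt_eig {Y : Perm α → (V ≃ₗ[k] V)} {g : V ≃ₗ[k] V} (hg : ∀ c, IsThreeCycle c → Commute g (Y c)) (a : k) :
    Invt Y (eig g a) := by
  intro c hc v hv
  have h := congrArg (fun e : V ≃ₗ[k] V => e v) (hg c hc).eq
  simp only [mul_apply] at h
  rw [mem_eig, h, mem_eig.1 hv, map_smul]

theorem not_II (hX : Sys X) (h : ¬ II X) : ∃ c, IsThreeCycle c ∧ ∃ d : Perm {x // x ∉ c.support}, IsThreeCycle d ∧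
    ∃ v, coX X c.support d (N (X c) v) ≠ N (X c) v := by
  simp only [II, not_forall] at h
  obtain ⟨c, d, hc, hd, hcd, v, hv⟩ := h
  have hmem : ∀ x, d x ≠ x → x ∉ c.support := fun x hx hx' => by
    rcases hcd x with h | h
    · exact Perm.mem_support.1 hx' h
    · exact hx h
  have hinv : ∀ x, d x ∉ c.support ↔ x ∉ c.support := fun x => by
    by_cases hx : d x = x
    · rw [hx]
    · exact iff_of_true (hmem (d x) fun e => hx (d.injective e)) (hmem x hx)
  have hsub : Perm.ofSubtype (d.subtypePerm hinv) = d := Perm.ofSubtype_subtypePerm hinv hmem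
  refine ⟨c, hc, d.subtypePerm hinv, by rw [IsThreeCycle, ← cycleType_ofSubtype, hsub]; exact hd, v, fun e => hv ?_⟩
  rw [coX, hsub] at e
  have hcm := hX.comm_of_disjoint hc hd hcd
  have h1 := congrArg (fun g : V ≃ₗ[k] V => g v) hcm.eq
  have h2 := congrArg (fun g : V ≃ₗ[k] V => g (X d v)) hcm.eq
  simp only [mul_apply, N_apply, map_sub] at h1 h2 e ⊢
  rw [h1]; linear_combination (norm := abel) e

theorem exists_omega [IsAlgClosed k] : ∃ w : k, w ^ 2 + w + 1 = 0 := by
  obtain ⟨w, hw⟩ := IsAlgClosed.exists_root (Polynomial.X ^ 2 + Polynomial.X + 1 : Polynomial k)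
    (by
      rw [show (Polynomial.X ^ 2 + Polynomial.X + 1 : Polynomial k).degree = 2 by compute_degree!]
      norm_num)
  exact ⟨w, by simpa [Polynomial.IsRoot] using hw⟩

/-- Characteristic not three: doubling. -/
theorem double_ne [IsAlgClosed k] [FiniteDimensional k V] (h3 : (3 : k) ≠ 0) (hn : 5 ≤ Fintype.card α)
    (hX : Sys X) (h : ¬ II X) {B : ℕ} (hB : ∀ s : Finset α, s.card = 3 → Bd.{u} {x // x ∉ s} k B)
    {e : Perm α} (he : IsThreeCycle e) : 2 * B ≤ finrank k (LinearMap.range (N (X e))) := by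
  obtain ⟨c, hc, d, hd, v, hv⟩ := not_II hX h
  rw [finrank_range_N_conj hX hn he hc]
  obtain ⟨w, hw⟩ := exists_omega (k := k)
  have hw3 : w ^ 3 = 1 := by linear_combination (w - 1) * hw
  have hw1 : w ≠ 1 := fun e => h3 (by rw [e] at hw; linear_combination hw)
  have hw21 : w ^ 2 ≠ 1 := fun e => hw1 (by linear_combination hw3 - w * e)
  have hne : w - w ^ 2 ≠ 0 := fun e => hw21 (by linear_combination hw3 + w * e)
  set g := X c with hgdef
  set P := eig g w with hPdef
  set Q := eig g (w ^ 2) with hQdef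
  have hsub : ∀ a : k, a ≠ 1 → eig g a ≤ LinearMap.range (N g) := fun a ha x hx =>
    ⟨(a - 1)⁻¹ • x, by rw [map_smul, N_apply, mem_eig.1 hx]; rw [smul_sub, smul_smul, ← sub_smul, ← mul_sub_one,
      inv_mul_cancel₀ (sub_ne_zero.2 ha), one_smul]⟩
  have hW : LinearMap.range (N g) = P ⊔ Q := by
    refine le_antisymm ?_ (sup_le (hsub w hw1) (hsub _ hw21))
    rintro _ ⟨x, rfl⟩
    have h0 := congrArg (fun f : V ≃ₗ[k] V => f x) (hX.cube c hc)
    simp only [pow_succ, pow_zero, one_mul, mul_apply, one_apply, ← hgdef] at h0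
    refine Submodule.mem_sup.2 ⟨(w - w ^ 2)⁻¹ • (g (N g x) - w ^ 2 • N g x), ?_,
      (w - w ^ 2)⁻¹ • (w • N g x - g (N g x)), ?_, ?_⟩
    · refine Submodule.smul_mem _ _ (mem_eig.2 ?_)
      simp only [N_apply, map_sub, map_smul, h0]
      match_scalars <;> grind
    · refine Submodule.smul_mem _ _ (mem_eig.2 ?_)
      simp only [N_apply, map_sub, map_smul, h0]
      match_scalars <;> grind
    · rw [← smul_add, show g (N g x) - w ^ 2 • N g x + (w • N g x - g (N g x)) = (w - w ^ 2) • N g x by
        rw [sub_smul]; abel, smul_smul, inv_mul_cancel₀ hne, one_smul]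
  have hPQ : P ⊓ Q = ⊥ := by
    rw [eq_bot_iff]
    rintro x ⟨hx1, hx2⟩
    have := (mem_eig.1 hx1).symm.trans (mem_eig.1 hx2)
    rw [Submodule.mem_bot]
    exact (smul_eq_zero.1 (by rw [sub_smul, this, sub_self] : (w - w ^ 2) • x = 0)).resolve_left hne
  have hdim := Submodule.finrank_sup_add_finrank_inf_eq P Q
  rw [hPQ, finrank_bot, add_zero, ← hW] at hdim
  obtain ⟨σ, hσ, hσc⟩ := exists_even_conj hn hc (three_inv hc)
  obtain ⟨t, _, ht⟩ := exists_lift hX hσ
  have hswap : ∀ a b : k, a * b = 1 → finrank k (eig g a) ≤ finrank k (eig g b) := fun a b hab =>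
    finrank_eig_le_of_map (h := t) fun x hx => by
      have h1 := ht c hc
      rw [hσc, hX.inv c hc, ← hgdef] at h1
      have h2 := congrArg (fun f : V ≃ₗ[k] V => g (f (t x))) h1
      simp only [mul_apply, self_apply_inv, inv_apply_self, hx, map_smul] at h2
      conv_rhs => rw [h2]
      rw [smul_smul, mul_comm b a, hab, one_smul]
  have heq : finrank k P = finrank k Q :=
    le_antisymm (hswap _ _ (by rw [← hw3]; ring)) (hswap _ _ (by rw [← hw3]; ring))
  have hs : c.support.card = 3 := hc.card_support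
  have hcm : ∀ e, IsThreeCycle e → Commute g (coX X c.support e) := fun e he => commute_co hX hc subset_rfl he
  by_contra hlt
  have hfix : ∀ a : k, finrank k (eig g a) < B → ∀ x ∈ eig g a, coX X c.support d x = x := fun a ha x hx =>
    not_not.1 fun hx' => absurd (hB _ hs _ _ (subX_sys (coX_sys hX _) (invt_eig hcm a))
      (subX_nontriv (coX_sys hX _) (invt_eig hcm a) hd hx hx')) (by omega)
  obtain ⟨y, hy, z, hz, hyz⟩ := Submodule.mem_sup.1 (hW ▸ LinearMap.mem_range_self (N g) v)
  apply hv
  rw [← hyz, map_add, hfix w (show finrank k P < B by omega) y hy, hfix _ (show finrank k Q < B by omega) z hz]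

/-- Characteristic three: doubling. -/
theorem double_eq [FiniteDimensional k V] (h3 : (3 : k) = 0) (hn : 8 ≤ Fintype.card α) (hX : Sys X) (h : ¬ II X)
    {B : ℕ} (hB : ∀ s : Finset α, s.card = 3 → Bd.{u} {x // x ∉ s} k B) :
    (∀ e, IsThreeCycle e → B ≤ finrank k (LinearMap.range (N (X e)))) ∧ 2 * B ≤ finrank k V := by
  obtain ⟨c, hc, d, hd, v, hv⟩ := not_II hX h
  have hs : c.support.card = 3 := hc.card_support
  have hcm : ∀ e, IsThreeCycle e → Commute (X c) (coX X c.support e) := fun e he => commute_co hX hc subset_rfl he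
  set W := LinearMap.range (N (X c)) with hW
  have hP := invt_range hcm
  have hco := coX_sys hX c.support
  have hnt := subX_nontriv hco hP hd (LinearMap.mem_range_self _ v) hv
  have hrank : B ≤ finrank k W := hB _ hs _ _ (subX_sys hco hP) hnt
  refine ⟨fun e he => finrank_range_N_conj hX (by omega) he hc ▸ hrank, ?_⟩
  have hnull := LinearMap.finrank_range_add_finrank_ker (N (X c))
  rw [← hW] at hnull
  set f := (N (X c)).domRestrict W with hf
  have hfn := LinearMap.finrank_range_add_finrank_ker f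
  have hker : finrank k (LinearMap.ker f) ≤ finrank k (LinearMap.ker (N (X c))) := by
    rw [(Submodule.equivMapOfInjective W.subtype W.injective_subtype (LinearMap.ker f)).finrank_eq]
    exact Submodule.finrank_mono (by rintro _ ⟨x, hx, rfl⟩; exact hx)
  have hran : LinearMap.range f ≤ LinearMap.ker (N (X c)) := by
    rintro _ ⟨⟨_, y, rfl⟩, rfl⟩
    show N (X c) (N (X c) (N (X c) y)) = 0
    have h0 := congrArg (fun g : V ≃ₗ[k] V => g y) (hX.cube c hc)
    simp only [pow_succ, pow_zero, one_mul, mul_apply, one_apply] at h0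
    simp only [N_apply, map_sub, h0]
    have e3 : ∀ x : V, x + x + x = 0 := fun x => by
      rw [show x + x + x = (3 : k) • x by module, h3, zero_smul]
    linear_combination (norm := abel) e3 (X c y) - e3 (X c (X c y))
  have hran2 := Submodule.finrank_mono hran
  set P2 := (LinearMap.range f).comap W.subtype with hP2
  have hinv2 : Invt (subX hco hP) P2 := by
    intro e he x hx
    obtain ⟨y, hy⟩ := hx
    refine ⟨subX hco hP e y, ?_⟩
    show N (X c) (subX hco hP e y : V) = (subX hco hP e x : V)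
    rw [subX_coe hco hP he, subX_coe hco hP he, show (x : V) = N (X c) y from hy.symm]
    have h1 := congrArg (fun g : V ≃ₗ[k] V => g (y : V)) (hcm e he).eq
    simp only [mul_apply] at h1
    simp only [N_apply, map_sub, h1]
  by_contra hlt
  have hle : finrank k P2 ≤ finrank k (LinearMap.range f) := by
    rw [(Submodule.equivMapOfInjective W.subtype W.injective_subtype P2).finrank_eq]
    exact Submodule.finrank_mono (Submodule.map_comap_le _ _)
  have hge : finrank k (LinearMap.range f) ≤ finrank k P2 := by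
    rw [(Submodule.equivMapOfInjective W.subtype W.injective_subtype P2).finrank_eq]
    refine Submodule.finrank_mono fun x hx => ⟨⟨x, ?_⟩, hx, rfl⟩
    obtain ⟨y, rfl⟩ := hx
    exact LinearMap.mem_range_self _ _
  have hq := P2.finrank_quotient_add_finrank
  refine split_trivial (subX_sys hco hP) hinv2 (by rw [card_co]; omega) (fun h1 => ?_) (fun h2 => ?_) hnt
  · have : B ≤ finrank k P2 := hB _ hs _ _ (subX_sys (subX_sys hco hP) hinv2) h1
    omega
  · have : B ≤ finrank k (W ⧸ P2) := hB _ hs _ _ (quotX_sys (subX_sys hco hP) hinv2) h2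
    omega

end Cfsg.Agent.Lib.AltSectGL
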