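import Cfsg.Agent.Lib.AltSectGL.Tools

/-!
Generation by triples through two points; orthogonal systems.
-/

set_option autoImplicit false
set_option linter.unusedSectionVars false

namespace Cfsg.Agent.Lib.AltSectGL

open Equiv Equiv.Perm Module

universe u

variable {α : Type*} [Fintype α] [DecidableEq α] {k : Type*} [Field k] {V : Type u} [AddCommGroup V] [Module k V]
variable {X : Perm α → (V ≃ₗ[k] V)}

theorem tc_rot {i j l : α} (hij : i ≠ j) (hil : i ≠ l) (hjl : j ≠ l) : tc i j l = tc j l i := by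
  ext x
  rcases eq_or_ne x i with rfl | hi
  · rw [tc_fst hij hil, tc_trd]
  rcases eq_or_ne x j with rfl | hj
  · rw [tc_snd hil hjl, tc_fst hjl hij.symm]
  rcases eq_or_ne x l with rfl | hl
  · rw [tc_trd, tc_snd hij.symm hil.symm]
  rw [tc_other hi hj hl, tc_other hj hl hi]

theorem tc_support {i j l : α} (S : Finset α) (hi : i ∈ S) (hj : j ∈ S) (hl : l ∈ S) : (tc i j l).support ⊆ S := by
  intro x hx
  by_contra h
  exact Perm.mem_support.1 hx
    (tc_other (fun e : x = i => h (e ▸ hi)) (fun e => h (e ▸ hj)) (fun e => h (e ▸ hl)))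

theorem disjoint_tc {a b c i j l : α} (h : ∀ x, x = a ∨ x = b ∨ x = c → x ≠ i ∧ x ≠ j ∧ x ≠ l) :
    Perm.Disjoint (tc a b c) (tc i j l) := by
  intro x
  by_cases hx : x = a ∨ x = b ∨ x = c
  · exact Or.inr (tc_other (h x hx).1 (h x hx).2.1 (h x hx).2.2)
  · simp only [not_or] at hx
    exact Or.inl (tc_other hx.1 hx.2.1 hx.2.2)

/-- Three-cycles closed under conjugation and containing all `tc a b x` are all three-cycles. -/
theorem all_of_gen (Q : Perm α → Prop) (hconj : ∀ c d, IsThreeCycle c → IsThreeCycle d → Q c → Q d → Q (c * d * c⁻¹))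
    (hinv : ∀ c, IsThreeCycle c → Q c → Q c⁻¹) {a b : α} (hab : a ≠ b)
    (hgen : ∀ x, x ≠ a → x ≠ b → Q (tc a b x)) (hn : 5 ≤ Fintype.card α) : ∀ c, IsThreeCycle c → Q c := by
  have hf : ∀ x, x ≠ a → x ≠ b → IsThreeCycle (tc a b x) := fun x h1 h2 => tc_three hab h1.symm h2.symm
  -- triples through `a`
  have ha : ∀ y w, y ≠ a → w ≠ a → y ≠ w → Q (tc a y w) := by
    intro y w hy hw hyw
    by_cases hyb : y = b
    · subst hyb; exact hgen w hw hyw.symm
    by_cases hwb : w = b
    · subst hwb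
      have := hinv _ (hf y hy hyb) (hgen y hy hyb)
      rw [tc_inv hab hy.symm (Ne.symm hyb), tc_rot hyb hy (Ne.symm hab), tc_rot (Ne.symm hab) (Ne.symm hyb) hy.symm] at this
      exact this
    have hq := hconj _ _ (three_inv (hf w hw hwb)) (hf y hy hyb) (hinv _ (hf w hw hwb) (hgen w hw hwb)) (hgen y hy hyb)
    rw [conj_tc, tc_inv hab hw.symm (Ne.symm hwb), tc_trd, tc_snd (Ne.symm (Ne.symm hw)) (Ne.symm hab),
      tc_other hyw hyb hy] at hq
    rwa [tc_rot hw (Ne.symm hyw) hy.symm] at hq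
  intro c hc
  obtain ⟨i, j, l, hij, hil, hjl, rfl⟩ := exists_tc hc
  by_cases hi : i = a
  · subst hi; exact ha j l hij.symm hil.symm hjl
  by_cases hj : j = a
  · subst hj; rw [tc_rot hij hil hjl]; exact ha l i hjl.symm hij hil.symm
  by_cases hl : l = a
  · subst hl; rw [tc_rot hij hil hjl, tc_rot hjl hij.symm hil.symm]; exact ha i j hil hjl hij
  -- conjugate a triple through `a` by `tc a i z`, which moves `a` to `i`
  obtain ⟨z, hz⟩ : ∃ z, z ∉ ({a, i, j, l} : Finset α) := by
    by_contra h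
    simp only [not_exists, not_not] at h
    have : Fintype.card α ≤ ({a, i, j, l} : Finset α).card := Finset.card_le_card fun x _ => h x
    have := (Finset.card_le_four : ({a, i, j, l} : Finset α).card ≤ 4)
    omega
  simp only [Finset.mem_insert, Finset.mem_singleton, not_or] at hz
  obtain ⟨za, zi, zj, zl⟩ := hz
  have hq := hconj _ _ (tc_three (Ne.symm hi) (Ne.symm za) (Ne.symm zi))
    (tc_three (Ne.symm hj) (Ne.symm hl) hjl) (ha i z hi za (Ne.symm zi)) (ha j l hj hl hjl)
  rw [conj_tc, tc_fst (Ne.symm hi) (Ne.symm za), tc_other hj hij.symm (Ne.symm zj),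
    tc_other hl hil.symm (Ne.symm zl)] at hq
  exact hq

theorem range_inv (g : V ≃ₗ[k] V) : LinearMap.range (N g⁻¹) = LinearMap.range (N g) := by
  refine le_antisymm ?_ ?_
  · rintro _ ⟨v, rfl⟩
    exact ⟨-(g⁻¹ v), by simp [self_apply_inv]; abel⟩
  · rintro _ ⟨v, rfl⟩
    exact ⟨-(g v), by simp [inv_apply_self]; abel⟩

/-- Disjoint three-cycles have orthogonal commutator maps. -/
def II (X : Perm α → (V ≃ₗ[k] V)) : Prop :=
  ∀ c d, IsThreeCycle c → IsThreeCycle d → Perm.Disjoint c d → ∀ v, N (X c) (N (X d) v) = 0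

end Cfsg.Agent.Lib.AltSectGL
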