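import Cfsg.Agent.Lib.AltSectGL.Eigen
import Cfsg.Agent.Lib.AltSectGL.Rank

/-!
No irreducible system on ten points in dimension eight with fixed-point-free three-cycles,
when five is invertible: lifts of two disjoint five-cycles.
-/

set_option autoImplicit false
set_option linter.unusedSectionVars false

namespace Cfsg.Agent.Lib.AltSectGL

open Equiv Equiv.Perm Module Module.End

universe u

variable {k : Type*} [Field k] {V : Type u} [AddCommGroup V] [Module k V]

namespace FiveFive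

theorem cover {a b : k} (ha : a ^ 5 = 1) (ha1 : a ≠ 1) (hb : b ^ 5 = 1) (hb1 : b ≠ 1) : ∃ t : ℕ, b = a ^ 2 ^ t := by
  haveI : Fact (Nat.Prime 5) := ⟨by norm_num⟩
  have hprim : IsPrimitiveRoot a 5 := by
    rw [← orderOf_eq_prime ha ha1]; exact IsPrimitiveRoot.orderOf a
  obtain ⟨i, hi, rfl⟩ := hprim.eq_pow_of_pow_eq_one hb
  interval_cases i
  · simp at hb1
  · exact ⟨0, by norm_num⟩
  · exact ⟨1, by norm_num⟩
  · exact ⟨3, by rw [show (2 : ℕ) ^ 3 = 5 + 3 by norm_num, pow_add, ha, one_mul]⟩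
  · exact ⟨2, by norm_num⟩

theorem pow_ne_one {a : k} (ha : a ^ 5 = 1) (ha1 : a ≠ 1) {i : ℕ} (hi : ¬ 5 ∣ i) : a ^ i ≠ 1 := by
  haveI : Fact (Nat.Prime 5) := ⟨by norm_num⟩
  rw [Ne, ← orderOf_dvd_iff_pow_eq_one, orderOf_eq_prime ha ha1]
  exact hi

theorem reduce {a : k} (ha : a ^ 5 = 1) (i : ℕ) : a ^ i = a ^ (i % 5) := pow_eq_pow_mod i ha

/-- Pieces in distinct eigenspaces are independent. -/
theorem sum_inf_le [FiniteDimensional k V] (u : V ≃ₗ[k] V) (P : Submodule k V) (s : Finset k) :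
    ∑ a ∈ s, finrank k ↥(eig u a ⊓ P) ≤ finrank k P := by
  classical
  suffices h : finrank k ↥(⨆ a ∈ s, eig u a ⊓ P) = ∑ a ∈ s, finrank k ↥(eig u a ⊓ P) from
    h ▸ Submodule.finrank_mono (iSup₂_le fun a _ => inf_le_right)
  induction s using Finset.induction_on with
  | empty => simp
  | @insert a s ha ih =>
    rw [Finset.iSup_insert, Finset.sum_insert ha]
    have hd : (eig u a ⊓ P) ⊓ (⨆ b ∈ s, eig u b ⊓ P) = ⊥ := by
      rw [← disjoint_iff]
      exact ((Module.End.eigenspaces_iSupIndep (u.toLinearMap : Module.End k V)).mono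
        fun b => inf_le_left).disjoint_biSup (y := (↑s : Set k)) (by simpa using ha)
    have := Submodule.finrank_sup_add_finrank_inf_eq (eig u a ⊓ P) (⨆ b ∈ s, eig u b ⊓ P)
    rw [hd, finrank_bot, add_zero, ih] at this
    exact this

theorem one_le_finrank [FiniteDimensional k V] {P : Submodule k V} {v : V} (hv : v ∈ P) (h0 : v ≠ 0) :
    1 ≤ finrank k P := by
  rw [Nat.one_le_iff_ne_zero]
  intro h
  rw [Submodule.finrank_eq_zero] at h
  rw [h] at hv
  exact h0 ((Submodule.mem_bot k).1 hv)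

/-- Two vectors in different eigenspaces give dimension two. -/
theorem two_le [FiniteDimensional k V] (u : V ≃ₗ[k] V) {P : Submodule k V} {a a' : k} (hne : a ≠ a') {v v' : V}
    (hv : v ∈ P) (hv' : v' ∈ P) (h : u v = a • v) (h' : u v' = a' • v') (h0 : v ≠ 0) (h0' : v' ≠ 0) :
    2 ≤ finrank k P := by
  classical
  have hs := sum_inf_le u P {a, a'}
  rw [Finset.sum_pair hne] at hs
  have h1 : 1 ≤ finrank k ↥(eig u a ⊓ P) := one_le_finrank (Submodule.mem_inf.2 ⟨mem_eig.2 h, hv⟩) h0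
  have h2 : 1 ≤ finrank k ↥(eig u a' ⊓ P) := one_le_finrank (Submodule.mem_inf.2 ⟨mem_eig.2 h', hv'⟩) h0'
  omega

theorem conj_eig {p u w : V ≃ₗ[k] V} {z : k} {hz : z ≠ 0} (h : p * u * p⁻¹ = sc z hz * w) {a : k} {v : V}
    (hv : u v = a • v) : w (p v) = (z⁻¹ * a) • p v := by
  have h1 := congrArg (fun e : V ≃ₗ[k] V => e (p v)) h
  simp only [mul_apply, inv_apply_self, sc_apply, hv, map_smul] at h1
  rw [mul_smul, h1, smul_smul, inv_mul_cancel₀ hz, one_smul]

theorem sq_eig {u g : V ≃ₗ[k] V} (hg : g * u * g⁻¹ = u ^ 2) {a : k} {v : V} (hv : u v = a • v) :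
    u (g⁻¹ v) = a ^ 2 • g⁻¹ v := by
  have h2 : u * g⁻¹ = g⁻¹ * u ^ 2 := by rw [← hg]; group
  have h3 := congrArg (fun w : V ≃ₗ[k] V => w v) h2
  simp only [mul_apply] at h3
  rw [h3, pow_apply_eig hv, map_smul]

/-- A joint eigenvector on ten points cannot be fixed up to scalars by the three-cycles of a five-point block. -/
theorem line_false {X : Perm (Fin 10) → (V ≃ₗ[k] V)} (hX : Sys X) {c d e : Perm (Fin 10)} (hc : IsThreeCycle c)
    (hd : IsThreeCycle d) (he : IsThreeCycle e) (hrel : e * (d * c * d⁻¹) * e⁻¹ = c⁻¹)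
    (hinj : ∀ v, X c v = v → v = 0) {v : V} (hv : v ≠ 0) (h1 : ∃ r : k, X c v = r • v) (h2 : ∃ r : k, X d v = r • v)
    (h3 : ∃ r : k, X e v = r • v) : False := by
  obtain ⟨r, hr⟩ := h1
  obtain ⟨s, hs⟩ := h2
  obtain ⟨t, ht⟩ := h3
  have key : ∀ (f : V ≃ₗ[k] V) (q m : k), f v = q • v → ∀ x : V ≃ₗ[k] V, x v = m • v → (f * x * f⁻¹) v = m • v := by
    intro f q m hf x hx
    have hq : q ≠ 0 := fun h => hv (by rw [← inv_apply_self f v, hf, h, zero_smul, map_zero])
    have hfi : f⁻¹ v = q⁻¹ • v := by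
      have := congrArg (fun w => q⁻¹ • f⁻¹ w) hf
      simp only [inv_apply_self, map_smul, smul_smul, inv_mul_cancel₀ hq, one_smul] at this
      exact this.symm
    simp only [mul_apply, hfi, map_smul, hx, hf, smul_smul]
    congr 1
    field_simp
  have h4 : X c⁻¹ v = r • v := by
    rw [← hrel, hX.conj _ _ he (three_conj d hc), hX.conj _ _ hd hc]
    exact key _ t r ht _ (key _ s r hs _ hr)
  rw [hX.inv c hc] at h4
  have h5 : v = (r * r) • v := by
    conv_lhs => rw [← self_apply_inv (X c) v, h4, map_smul, hr, smul_smul]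
  have h6 := congrArg (fun f : V ≃ₗ[k] V => f v) (hX.cube c hc)
  simp only [pow_succ, pow_zero, one_mul, mul_apply, one_apply, hr, map_smul, smul_smul] at h6
  refine hv (hinj v ?_)
  rw [hr]
  calc r • v = r • ((r * r) • v) := by rw [← h5]
    _ = v := by rw [smul_smul]; exact h6

/-- The nontrivial eigenspaces of a normalised five-cycle lift all have dimension two. -/
theorem dims [IsAlgClosed k] [FiniteDimensional k V] {X : Perm (Fin 10) → (V ≃ₗ[k] V)} (hX : Sys X)
    (h5 : (5 : k) ≠ 0) (hdim : finrank k V = 8) (hinj : ∀ c, IsThreeCycle c → ∀ v, X c v = v → v = 0)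
    {u g : V ≃ₗ[k] V} (hu : u ^ 5 = 1) (hu1 : u ≠ 1) (hg : g * u * g⁻¹ = u ^ 2)
    {c d e : Perm (Fin 10)} (hc : IsThreeCycle c) (hd : IsThreeCycle d) (he : IsThreeCycle e)
    (hrel : e * (d * c * d⁻¹) * e⁻¹ = c⁻¹) (hcu : Commute u (X c)) (hdu : Commute u (X d)) (heu : Commute u (X e)) :
    eig u 1 = ⊥ ∧ ∀ a : k, a ^ 5 = 1 → a ≠ 1 → eig u a ≠ ⊥ := by
  classical
  have hspan := eig_span hu (by exact_mod_cast h5)
  obtain ⟨z, hz1, hzb⟩ : ∃ z : k, z ≠ 1 ∧ eig u z ≠ ⊥ := by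
    by_contra h
    simp only [not_exists, not_and, not_not] at h
    have hle : (⊤ : Submodule k V) ≤ eig u 1 := by
      rw [← hspan]
      refine iSup_le fun a => ?_
      rcases eq_or_ne a 1 with rfl | ha
      · exact le_rfl
      · rw [h a ha]; exact bot_le
    apply hu1
    ext v
    rw [mem_eig.1 (hle Submodule.mem_top), one_smul, one_apply]
  have hz := eig_pow hu hzb
  have hall : ∀ a : k, a ^ 5 = 1 → a ≠ 1 → finrank k (eig u a) = finrank k (eig u z) := by
    intro a ha ha1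
    obtain ⟨t, rfl⟩ := cover hz hz1 ha ha1
    refine le_antisymm ?_ (eig_le_pow hg z t)
    obtain ⟨t', ht'⟩ := cover ha ha1 hz hz1
    exact (eig_le_pow hg _ t').trans_eq (by rw [← ht'])
  have hpos : 1 ≤ finrank k (eig u z) := by
    rw [Nat.one_le_iff_ne_zero]; exact fun h => hzb (Submodule.finrank_eq_zero.1 h)
  have h2 : 2 ≤ finrank k (eig u z) := by
    by_contra hlt
    obtain ⟨v, hv, hv0⟩ := Submodule.exists_mem_ne_zero_of_ne_bot hzb
    have hline : ∀ f : Perm (Fin 10), Commute u (X f) → ∃ r : k, X f v = r • v := by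
      intro f hf
      have hmem : X f v ∈ eig u z := by
        rw [mem_eig, ← mul_apply, hf.eq, mul_apply, mem_eig.1 hv, map_smul]
      have h1 : Submodule.span k {v} = eig u z := by
        refine Submodule.eq_of_le_of_finrank_le (by rwa [Submodule.span_singleton_le_iff_mem]) ?_
        rw [finrank_span_singleton hv0]; omega
      rw [← h1] at hmem
      obtain ⟨r, hr⟩ := Submodule.mem_span_singleton.1 hmem
      exact ⟨r, hr.symm⟩
    exact line_false hX hc hd he hrel (hinj c hc) hv0 (hline c hcu) (hline d hdu) (hline e heu)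
  have hprim : IsPrimitiveRoot z 5 := by
    haveI : Fact (Nat.Prime 5) := ⟨by norm_num⟩
    rw [← orderOf_eq_prime hz hz1]; exact IsPrimitiveRoot.orderOf z
  have hinjOn : Set.InjOn (fun i : ℕ => z ^ i) (↑(Finset.range 5) : Set ℕ) := fun i hi j hj h =>
    hprim.pow_inj (by simpa using hi) (by simpa using hj) h
  have hs := eig_sum_le u ((Finset.range 5).image fun i : ℕ => z ^ i)
  rw [Finset.sum_image hinjOn, hdim] at hs
  simp only [Finset.sum_range_succ, Finset.sum_range_zero, zero_add, pow_zero, pow_one] at hs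
  have e2 := hall _ (show (z ^ 2) ^ 5 = 1 by rw [← pow_mul, reduce hz]; norm_num) (pow_ne_one hz hz1 (by norm_num))
  have e3 := hall _ (show (z ^ 3) ^ 5 = 1 by rw [← pow_mul, reduce hz]; norm_num) (pow_ne_one hz hz1 (by norm_num))
  have e4 := hall _ (show (z ^ 4) ^ 5 = 1 by rw [← pow_mul, reduce hz]; norm_num) (pow_ne_one hz hz1 (by norm_num))
  have e0 : finrank k (eig u (z ^ 0)) = finrank k (eig u 1) := by rw [pow_zero]
  have e1 : finrank k (eig u (z ^ 1)) = finrank k (eig u z) := by rw [pow_one]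
  refine ⟨Submodule.finrank_eq_zero.1 (by omega), fun a ha ha1 h => ?_⟩
  have := hall a ha ha1
  rw [h, finrank_bot] at this
  omega

/-- Four eigenvalues of multiplicity at least two in dimension eight leave no room. -/
theorem le_two [FiniteDimensional k V] (hdim : finrank k V = 8) {z : k} (hz : z ^ 5 = 1) (hz1 : z ≠ 1)
    (w : V ≃ₗ[k] V) (h : ∀ b : k, b ^ 5 = 1 → b ≠ 1 → 2 ≤ finrank k (eig w b)) (c : k) :
    finrank k (eig w c) ≤ 2 := by
  classical
  have hprim : IsPrimitiveRoot z 5 := by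
    haveI : Fact (Nat.Prime 5) := ⟨by norm_num⟩
    rw [← orderOf_eq_prime hz hz1]; exact IsPrimitiveRoot.orderOf z
  set S := (Finset.Icc 1 4).image fun i : ℕ => z ^ i with hS
  have hcard : S.card = 4 := by
    rw [hS, Finset.card_image_of_injOn]
    · simp
    · intro i hi j hj hij
      simp only [Finset.coe_Icc, Set.mem_Icc] at hi hj
      exact hprim.pow_inj (by omega) (by omega) hij
  have hmem : ∀ b ∈ S, 2 ≤ finrank k (eig w b) := by
    intro b hb
    rw [hS, Finset.mem_image] at hb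
    obtain ⟨i, hi, rfl⟩ := hb
    simp only [Finset.mem_Icc] at hi
    refine h _ (by rw [← pow_mul, mul_comm, pow_mul, hz, one_pow]) (pow_ne_one hz hz1 ?_)
    omega
  have hs := eig_sum_le w (insert c S)
  rw [hdim] at hs
  by_cases hc : c ∈ S
  · rw [Finset.insert_eq_of_mem hc, ← Finset.add_sum_erase _ _ hc] at hs
    have := Finset.card_nsmul_le_sum (S.erase c) (fun b => finrank k (eig w b)) 2
      fun b hb => hmem b (Finset.mem_of_mem_erase hb)
    rw [Finset.card_erase_of_mem hc, hcard, smul_eq_mul] at this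
    omega
  · rw [Finset.sum_insert hc] at hs
    have := Finset.card_nsmul_le_sum S (fun b => finrank k (eig w b)) 2 hmem
    rw [hcard, smul_eq_mul] at this
    omega

theorem four_le [FiniteDimensional k V] {z : k} (hz : z ^ 5 = 1) (hz1 : z ≠ 1) (u : V ≃ₗ[k] V) (P : Submodule k V)
    (h : ∀ a : k, a ^ 5 = 1 → a ≠ 1 → ∃ v ∈ P, v ≠ 0 ∧ u v = a • v) : 4 ≤ finrank k P := by
  classical
  have hprim : IsPrimitiveRoot z 5 := by
    haveI : Fact (Nat.Prime 5) := ⟨by norm_num⟩
    rw [← orderOf_eq_prime hz hz1]; exact IsPrimitiveRoot.orderOf z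
  have hs := sum_inf_le u P ((Finset.Icc 1 4).image fun i : ℕ => z ^ i)
  rw [Finset.sum_image (by
    intro i hi j hj hij
    simp only [Finset.coe_Icc, Set.mem_Icc] at hi hj
    exact hprim.pow_inj (by omega) (by omega) hij)] at hs
  have := Finset.card_nsmul_le_sum (Finset.Icc 1 4) (fun i => finrank k ↥(eig u (z ^ i) ⊓ P)) 1 fun i hi => by
    simp only [Finset.mem_Icc] at hi
    obtain ⟨v, hvP, hv0, hv⟩ := h (z ^ i) (by rw [← pow_mul, mul_comm, pow_mul, hz, one_pow])
      (pow_ne_one hz hz1 (by omega))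
    exact one_le_finrank (Submodule.mem_inf.2 ⟨mem_eig.2 hv, hvP⟩) hv0
  simp at this
  omega

end FiveFive

open FiveFive in
set_option maxRecDepth 8000 in
/-- No irreducible system of full-rank commutator maps on ten points in dimension eight. -/
theorem not_eight [IsAlgClosed k] [FiniteDimensional k V] {X : Perm (Fin 10) → (V ≃ₗ[k] V)} (h5 : (5 : k) ≠ 0)
    (h3 : (3 : k) ≠ 0) (hX : Sys X) (hne : NonTriv X) (hirr : Irr X)
    (hrank : ∀ c, IsThreeCycle c → finrank k (LinearMap.range (N (X c))) = 8) : finrank k V ≠ 8 := by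
  intro hdim
  classical
  haveI : Nontrivial V := Module.nontrivial_of_finrank_eq_succ hdim
  have hn : 5 ≤ Fintype.card (Fin 10) := by simp
  have hinj : ∀ c, IsThreeCycle c → ∀ v, X c v = v → v = 0 := by
    intro c hc v hv
    have h1 : LinearMap.range (N (X c)) = ⊤ := Submodule.eq_top_of_finrank_eq (by rw [hrank c hc, hdim])
    have h2 : Function.Injective (N (X c)) :=
      LinearMap.injective_iff_surjective.2 (LinearMap.range_eq_top.1 h1)
    exact h2 (by simp [hv])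
  have lc : ∀ c, IsThreeCycle c → Lifts X c (X c) := fun c hc d hd => hX.conj c d hc hd
  have t1 : IsThreeCycle (tc (0 : Fin 10) 1 2) := tc_three (by decide) (by decide) (by decide)
  have t2 : IsThreeCycle (tc (2 : Fin 10) 3 4) := tc_three (by decide) (by decide) (by decide)
  have t3 : IsThreeCycle (tc (5 : Fin 10) 6 7) := tc_three (by decide) (by decide) (by decide)
  have t4 : IsThreeCycle (tc (7 : Fin 10) 8 9) := tc_three (by decide) (by decide) (by decide)
  have a1 : IsThreeCycle (tc (2 : Fin 10) 3 4) := t2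
  have a2 : IsThreeCycle (tc (0 : Fin 10) 2 3) := tc_three (by decide) (by decide) (by decide)
  have b1 : IsThreeCycle (tc (5 : Fin 10) 9 6) := tc_three (by decide) (by decide) (by decide)
  have b2 : IsThreeCycle (tc (9 : Fin 10) 6 8) := tc_three (by decide) (by decide) (by decide)
  set σ : Perm (Fin 10) := tc 0 1 2 * tc 2 3 4 with hσdef
  set σ' : Perm (Fin 10) := tc 5 6 7 * tc 7 8 9 with hσ'def
  have hu₀ : Lifts X σ (X (tc 0 1 2) * X (tc 2 3 4)) := (lc _ t1).mul (lc _ t2)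
  have hu₀' : Lifts X σ' (X (tc 5 6 7) * X (tc 7 8 9)) := (lc _ t3).mul (lc _ t4)
  set τ : Perm (Fin 10) := swap 1 2 * swap 2 4 * swap 4 3 * (swap 6 7 * swap 7 9 * swap 9 8) with hτdef
  have hτs : sign τ = 1 := by
    simp only [hτdef, map_mul]
    rw [sign_swap (by decide), sign_swap (by decide), sign_swap (by decide), sign_swap (by decide),
      sign_swap (by decide), sign_swap (by decide)]
    decide
  obtain ⟨g, -, hg⟩ := exists_lift hX hτs
  have hσs : sign σ = 1 := by rw [map_mul, t1.sign, t2.sign, one_mul]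
  have hσ's : sign σ' = 1 := by rw [map_mul, t3.sign, t4.sign, one_mul]
  obtain ⟨r, hr, hu5, hu1, hgu⟩ := exists_cycle_lift hn hX hne hirr hu₀ hg hσs (by decide) (ℓ := 5) (e := 2) (j := 1)
    (by decide) (by norm_num) (by norm_num) (by norm_num) (by decide)
  obtain ⟨r', hr', hu5', hu1', hgu'⟩ := exists_cycle_lift hn hX hne hirr hu₀' hg hσ's (by decide) (ℓ := 5) (e := 2)
    (j := 1) (by decide) (by norm_num) (by norm_num) (by norm_num) (by decide)
  set u := sc r hr * (X (tc 0 1 2) * X (tc 2 3 4)) with hu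
  set u' := sc r' hr' * (X (tc 5 6 7) * X (tc 7 8 9)) with hu'
  have lu : Lifts X σ u := hu₀.sc_mul r hr
  have lu' : Lifts X σ' u' := hu₀'.sc_mul r' hr'
  have cu : ∀ d, IsThreeCycle d → Perm.Disjoint (tc 0 1 2) d → Perm.Disjoint (tc 2 3 4) d → Commute u (X d) :=
    fun d hd e1 e2 => (sc_comm r hr (X d)).mul_left
      ((hX.comm_of_disjoint t1 hd e1).mul_left (hX.comm_of_disjoint t2 hd e2))
  have cu' : ∀ d, IsThreeCycle d → Perm.Disjoint (tc 5 6 7) d → Perm.Disjoint (tc 7 8 9) d → Commute u' (X d) :=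
    fun d hd e1 e2 => (sc_comm r' hr' (X d)).mul_left
      ((hX.comm_of_disjoint t3 hd e1).mul_left (hX.comm_of_disjoint t4 hd e2))
  have huu : Commute u u' := by
    refine Commute.mul_right (sc_comm r' hr' u).symm ?_
    exact (cu _ t3 (by unfold Perm.Disjoint; decide) (by unfold Perm.Disjoint; decide)).mul_right
      (cu _ t4 (by unfold Perm.Disjoint; decide) (by unfold Perm.Disjoint; decide))
  obtain ⟨hfix', hall'⟩ := dims hX h5 hdim hinj hu5' hu1' hgu' t1 a1 a2 (by decide)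
    (cu' _ t1 (by unfold Perm.Disjoint; decide) (by unfold Perm.Disjoint; decide))
    (cu' _ a1 (by unfold Perm.Disjoint; decide) (by unfold Perm.Disjoint; decide))
    (cu' _ a2 (by unfold Perm.Disjoint; decide) (by unfold Perm.Disjoint; decide))
  -- the inversion on the second block
  set h := X (tc 5 9 6) * X (tc 9 6 8) with hh
  have hhu : Commute u h := (cu _ b1 (by unfold Perm.Disjoint; decide) (by unfold Perm.Disjoint; decide)).mul_right
      (cu _ b2 (by unfold Perm.Disjoint; decide) (by unfold Perm.Disjoint; decide))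
  have lh : Lifts X (tc 5 9 6 * tc 9 6 8) h := (lc _ b1).mul (lc _ b2)
  have eh : tc 5 9 6 * tc 9 6 8 * σ' * (tc 5 9 6 * tc 9 6 8)⁻¹ = σ'⁻¹ := by decide
  obtain ⟨z, hz0, ez⟩ := Lifts.scalar hirr lu'.inv (eh ▸ (lh.mul lu').mul lh.inv)
  have hmap : ∀ (b : k) (v : V), u' v = b • v → u' (h v) = (z * b⁻¹) • h v := by
    intro b v hv
    rcases eq_or_ne b 0 with rfl | hb
    · have : v = 0 := u'.injective (by rw [hv, zero_smul, map_zero])
      simp [this]
    have h1 := conj_eig ez hv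
    have h2 := congrArg (fun x => (z * b⁻¹) • u' x) h1
    simp only [self_apply_inv, map_smul, smul_smul] at h2
    rw [show z * b⁻¹ * (z⁻¹ * b) = 1 by field_simp, one_smul] at h2
    exact h2.symm
  have hz1 : z = 1 := by
    by_contra hz
    obtain ⟨b, hb, hb1⟩ : ∃ b : k, b ^ 5 = 1 ∧ b ≠ 1 := by
      by_contra hc
      simp only [not_exists, not_and, not_not] at hc
      have hspan := eig_span hu5' (by exact_mod_cast h5)
      have htop : (⊤ : Submodule k V) ≤ ⊥ := by
        rw [← hspan]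
        refine iSup_le fun a => ?_
        by_contra ha
        have ha' : eig u' a ≠ ⊥ := fun e => ha (le_of_eq e)
        rw [hc a (eig_pow hu5' ha'), hfix'] at ha'
        exact ha' rfl
      exact not_subsingleton V ⟨fun x y => by
        rw [(Submodule.mem_bot k).1 (htop (Submodule.mem_top : x ∈ ⊤)),
          (Submodule.mem_bot k).1 (htop (Submodule.mem_top : y ∈ ⊤))]⟩
    obtain ⟨v, hv, hv0⟩ := Submodule.exists_mem_ne_zero_of_ne_bot (hall' b hb hb1)
    have hv' := hmap b v (mem_eig.1 hv)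
    have hhv : h v ≠ 0 := fun e => hv0 (by rw [← inv_apply_self h v, e, map_zero])
    have hz5 : z ^ 5 = 1 := by
      have := eig_pow hu5' (a := z * b⁻¹) (fun e => hhv ((Submodule.mem_bot k).1 (e ▸ mem_eig.2 hv')))
      rwa [mul_pow, inv_pow, hb, inv_one, mul_one] at this
    obtain ⟨x, hx, hx0⟩ := Submodule.exists_mem_ne_zero_of_ne_bot (hall' z hz5 hz)
    have hx' := hmap z x (mem_eig.1 hx)
    rw [mul_inv_cancel₀ hz0] at hx'
    have : h x ∈ eig u' 1 := mem_eig.2 hx'
    rw [hfix', Submodule.mem_bot] at this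
    exact hx0 (by rw [← inv_apply_self h x, this, map_zero])
  subst hz1
  -- a joint eigenvector
  obtain ⟨ζ, hζ1, hζb⟩ : ∃ ζ : k, ζ ≠ 1 ∧ eig u ζ ≠ ⊥ := by
    by_contra hc
    simp only [not_exists, not_and, not_not] at hc
    have hle : (⊤ : Submodule k V) ≤ eig u 1 := by
      rw [← eig_span hu5 (by exact_mod_cast h5)]
      refine iSup_le fun a => ?_
      rcases eq_or_ne a 1 with rfl | ha
      · exact le_rfl
      · rw [hc a ha]; exact bot_le
    exact hu1 (LinearEquiv.ext fun v => by rw [mem_eig.1 (hle Submodule.mem_top), one_smul, one_apply])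
  have hζ := eig_pow hu5 hζb
  let P : k → k → Prop := fun a b => ∃ v : V, v ≠ 0 ∧ u v = a • v ∧ u' v = b • v
  obtain ⟨ν, hν⟩ : ∃ ν : k, P ζ ν := by
    have hinv : ∀ v ∈ eig u ζ, u'.toLinearMap v ∈ eig u ζ := by
      intro v hv
      show u' v ∈ _
      rw [mem_eig, ← mul_apply, huu.eq, mul_apply, mem_eig.1 hv, map_smul]
    haveI : Nontrivial (eig u ζ) := Submodule.nontrivial_iff_ne_bot.2 hζb
    obtain ⟨ν, hν⟩ := Module.End.exists_eigenvalue (u'.toLinearMap.restrict hinv)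
    obtain ⟨v, hv⟩ := hν.exists_hasEigenvector
    refine ⟨ν, v, fun e => hv.2 (Subtype.ext e), mem_eig.1 v.2, ?_⟩
    simpa [LinearMap.restrict_apply] using congrArg Subtype.val hv.apply_eq_smul
  have hν5 : ν ^ 5 = 1 := by
    obtain ⟨v, hv0, -, hv⟩ := hν
    exact eig_pow hu5' fun e => hv0 ((Submodule.mem_bot k).1 (e ▸ mem_eig.2 hv))
  have hν1 : ν ≠ 1 := by
    rintro rfl
    obtain ⟨v, hv0, -, hv⟩ := hν
    exact hv0 ((Submodule.mem_bot k).1 (hfix' ▸ mem_eig.2 hv))
  have hνinv : P ζ ν⁻¹ := by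
    obtain ⟨v, hv0, hv, hv'⟩ := hν
    refine ⟨h v, fun e => hv0 (by rw [← inv_apply_self h v, e, map_zero]), ?_, ?_⟩
    · rw [← mul_apply, hhu.eq, mul_apply, hv, map_smul]
    · rw [hmap ν v hv', one_mul]
  have hPg : ∀ a b, P a b → P (a ^ 2) (b ^ 2) := by
    rintro a b ⟨v, hv0, hv, hv'⟩
    exact ⟨g⁻¹ v, fun e => hv0 (by rw [← self_apply_inv g v, e, map_zero]), sq_eig hgu hv, sq_eig hgu' hv'⟩
  have hspread : ∀ m : ℕ, P ζ (ζ ^ m) → ∀ a : k, a ^ 5 = 1 → a ≠ 1 → P a (a ^ m) := by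
    intro m hm a ha ha1
    obtain ⟨t, rfl⟩ := cover hζ hζ1 ha ha1
    clear ha ha1
    induction t with
    | zero => simpa using hm
    | succ t ih =>
      have := hPg _ _ ih
      rw [← pow_mul, ← pow_mul, ← pow_mul] at this
      rw [← pow_mul, pow_succ 2 t, show 2 ^ t * 2 * m = 2 ^ t * (m * 2) by ring]
      exact this
  -- the exponent
  have hj : ((∀ a : k, a ^ 5 = 1 → a ≠ 1 → P a (a ^ 1)) ∧ (∀ a : k, a ^ 5 = 1 → a ≠ 1 → P a (a ^ 4))) ∨
      ((∀ a : k, a ^ 5 = 1 → a ≠ 1 → P a (a ^ 2)) ∧ (∀ a : k, a ^ 5 = 1 → a ≠ 1 → P a (a ^ 3))) := by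
    haveI : Fact (Nat.Prime 5) := ⟨by norm_num⟩
    have hprim : IsPrimitiveRoot ζ 5 := by
      rw [← orderOf_eq_prime hζ hζ1]; exact IsPrimitiveRoot.orderOf ζ
    obtain ⟨i, hi, rfl⟩ := hprim.eq_pow_of_pow_eq_one hν5
    have hi0 : i ≠ 0 := by rintro rfl; exact hν1 (pow_zero ζ)
    have hinv : (ζ ^ i)⁻¹ = ζ ^ (5 - i) :=
      inv_eq_of_mul_eq_one_right (by rw [← pow_add, Nat.add_sub_cancel' hi.le, hζ])
    rw [hinv] at hνinv
    interval_cases i
    · exact absurd rfl hi0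
    · exact Or.inl ⟨hspread _ hν, hspread _ hνinv⟩
    · exact Or.inr ⟨hspread _ hν, hspread _ hνinv⟩
    · exact Or.inr ⟨hspread _ hνinv, hspread _ hν⟩
    · exact Or.inl ⟨hspread _ hνinv, hspread _ hν⟩
  -- the swap of the blocks
  set ρ : Perm (Fin 10) :=
    swap 0 5 * (swap 1 7 * swap 7 2 * swap 2 9 * swap 9 4 * swap 4 8 * swap 8 3 * swap 3 6) with hρdef
  have hρs : sign ρ = 1 := by
    simp only [hρdef, map_mul]
    rw [sign_swap (by decide), sign_swap (by decide), sign_swap (by decide), sign_swap (by decide),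
      sign_swap (by decide), sign_swap (by decide), sign_swap (by decide), sign_swap (by decide)]
    decide
  obtain ⟨g₂, -, hg₂⟩ := exists_lift hX hρs
  have er1 : ρ * σ * ρ⁻¹ = σ' * σ' := by decide
  have er2 : ρ * σ' * ρ⁻¹ = σ := by decide
  obtain ⟨c₁, hc₁, e₁⟩ := Lifts.scalar hirr (lu'.mul lu') (er1 ▸ (hg₂.mul lu).mul hg₂.inv)
  obtain ⟨c₂, hc₂, e₂⟩ := Lifts.scalar hirr lu (er2 ▸ (hg₂.mul lu').mul hg₂.inv)
  set w := u * u' with hw
  set w' := u * (u' * u') with hw'
  have ew : g₂ * w * g₂⁻¹ = sc (c₁ * c₂) (mul_ne_zero hc₁ hc₂) * w' := by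
    have hcm : Commute u (u' * u') := huu.mul_right huu
    calc g₂ * w * g₂⁻¹ = (g₂ * u * g₂⁻¹) * (g₂ * u' * g₂⁻¹) := by rw [hw]; group
      _ = sc c₁ hc₁ * (u' * u') * (sc c₂ hc₂ * u) := by rw [e₁, e₂]
      _ = sc (c₁ * c₂) (mul_ne_zero hc₁ hc₂) * w' := by
        rw [hw', hcm.eq]
        ext v
        simp [mul_apply, sc_apply, smul_smul, mul_comm]
  have up : ∀ a : k, finrank k (eig w a) ≤ finrank k (eig w' ((c₁ * c₂)⁻¹ * a)) := by
    intro a
    rw [← LinearEquiv.finrank_map_eq g₂ (eig w a)]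
    exact Submodule.finrank_mono (by
      rintro _ ⟨v, hv, rfl⟩
      exact mem_eig.2 (conj_eig ew (mem_eig.1 hv)))
  have down : ∀ b : k, finrank k (eig w' b) ≤ finrank k (eig w (c₁ * c₂ * b)) := by
    intro b
    rw [← LinearEquiv.finrank_map_eq g₂⁻¹ (eig w' b)]
    refine Submodule.finrank_mono ?_
    rintro _ ⟨v, hv, rfl⟩
    refine mem_eig.2 ?_
    have h1 := congrArg (fun f : V ≃ₗ[k] V => g₂⁻¹ (f v)) ew
    simp only [mul_apply, inv_apply_self, sc_apply, mem_eig.1 hv, map_smul, smul_smul] at h1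
    rwa [mul_comm] at h1
  have pw : ∀ a b, P a b → ∃ v : V, v ≠ 0 ∧ u v = a • v ∧ v ∈ eig w (a * b) ∧ v ∈ eig w' (a * b ^ 2) := by
    rintro a b ⟨v, hv0, hv, hv'⟩
    refine ⟨v, hv0, hv, mem_eig.2 ?_, mem_eig.2 ?_⟩
    · simp [hw, mul_apply, hv, hv', smul_smul, mul_comm]
    · simp [hw', mul_apply, hv, hv', smul_smul, pow_two]; ring_nf
  have hb2 : ∀ b : k, b ^ 5 = 1 → ∀ i : ℕ, (b ^ i) ^ 5 = 1 := fun b hb i => by
    rw [← pow_mul, mul_comm, pow_mul, hb, one_pow]
  have hne24 : ∀ b : k, b ^ 5 = 1 → b ≠ 1 → b ^ 2 ≠ b ^ 4 := fun b hb hb1 e => by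
    have h0 : b ^ 2 ≠ 0 := pow_ne_zero _ (fun h => by rw [h] at hb; simp at hb)
    refine pow_ne_one hb hb1 (i := 2) (by norm_num) ?_
    rw [show b ^ 4 = b ^ 2 * b ^ 2 by rw [← pow_add]] at e
    exact (left_eq_mul₀ h0).1 e
  rcases hj with ⟨h1, h4⟩ | ⟨h2, h3'⟩
  · have big : 4 ≤ finrank k (eig w 1) := by
      refine four_le hζ hζ1 u _ fun a ha ha1 => ?_
      obtain ⟨v, hv0, hv, hvw, -⟩ := pw _ _ (h4 a ha ha1)
      rw [← pow_succ', ha] at hvw
      exact ⟨v, hvw, hv0, hv⟩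
    have small : ∀ b : k, b ^ 5 = 1 → b ≠ 1 → 2 ≤ finrank k (eig w' b) := by
      intro b hb hb1
      obtain ⟨v, hv0, hv, -, hvw⟩ := pw _ _ (h1 _ (hb2 b hb 2) (pow_ne_one hb hb1 (by norm_num)))
      obtain ⟨x, hx0, hx, -, hxw⟩ := pw _ _ (h4 _ (hb2 b hb 4) (pow_ne_one hb hb1 (by norm_num)))
      rw [← pow_mul, ← pow_mul, ← pow_add, reduce hb, pow_one] at hvw hxw
      exact two_le u (hne24 b hb hb1) hvw hxw hv hx hv0 hx0
    have := (up 1).trans (le_two hdim hζ hζ1 w' small _)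
    omega
  · have big : 4 ≤ finrank k (eig w' 1) := by
      refine four_le hζ hζ1 u _ fun a ha ha1 => ?_
      obtain ⟨v, hv0, hv, -, hvw⟩ := pw _ _ (h2 a ha ha1)
      rw [← pow_mul, ← pow_succ', ha] at hvw
      exact ⟨v, hvw, hv0, hv⟩
    have small : ∀ b : k, b ^ 5 = 1 → b ≠ 1 → 2 ≤ finrank k (eig w b) := by
      intro b hb hb1
      obtain ⟨v, hv0, hv, hvw, -⟩ := pw _ _ (h2 _ (hb2 b hb 2) (pow_ne_one hb hb1 (by norm_num)))
      obtain ⟨x, hx0, hx, hxw, -⟩ := pw _ _ (h3' _ (hb2 b hb 4) (pow_ne_one hb hb1 (by norm_num)))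
      rw [← pow_mul, ← pow_add, reduce hb, pow_one] at hvw hxw
      exact two_le u (hne24 b hb hb1) hvw hxw hv hx hv0 hx0
    have := (down 1).trans (le_two hdim hζ hζ1 w small _)
    omega

end Cfsg.Agent.Lib.AltSectGL
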