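import Cfsg.Agent.Lib.AltSectGL.Rank

/-!
In an irreducible orthogonal system the commutator maps have rank at least two.
-/

set_option autoImplicit false
set_option linter.unusedSectionVars false
set_option linter.unusedSimpArgs false

namespace Cfsg.Agent.Lib.AltSectGL

open Equiv Equiv.Perm Module

universe u

variable {α : Type*} [Fintype α] [DecidableEq α] {k : Type*} [Field k] {V : Type u} [AddCommGroup V] [Module k V]
variable {X : Perm α → (V ≃ₗ[k] V)}

/-- When the commutator maps square to zero, no three-cycle fixes the range of a neighbour. -/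
theorem fix_false (hn : 6 ≤ Fintype.card α) (hX : Sys X) (hne : NonTriv X) (hirr : Irr X)
    (hsq : ∀ d, IsThreeCycle d → ∀ u, X d (N (X d) u) = N (X d) u)
    {x y z t : α} (hxy : x ≠ y) (hxz : x ≠ z) (hxt : x ≠ t) (hyz : y ≠ z) (hyt : y ≠ t) (hzt : z ≠ t)
    (hfix : ∀ u, X (tc x y z) (N (X (tc x y t)) u) = N (X (tc x y t)) u) : False := by
  let R : α → α → α → Submodule k V := fun i j l => LinearMap.range (N (X (tc i j l)))
  -- one move
  have h0 : R y z t = R x y t := by
    have e : tc x y z * tc x y t * (tc x y z)⁻¹ = tc y z t := by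
      rw [conj_tc, tc_fst hxy hxz, tc_snd hxz hyz, tc_other hxt.symm hyt.symm hzt.symm]
    have hc := tc_three hxy hxz hyz
    have hd := tc_three hxy hxt hyt
    have hl : Lifts X (tc x y z) (X (tc x y z)) := fun f hf => hX.conj _ f hc hf
    refine le_antisymm ?_ ?_
    · rintro _ ⟨u, rfl⟩
      refine ⟨(X (tc x y z))⁻¹ u, ?_⟩
      have := hl.N_apply' hd ((X (tc x y z))⁻¹ u)
      rw [hfix, e, self_apply_inv] at this
      exact this
    · rintro _ ⟨u, rfl⟩
      refine ⟨X (tc x y z) u, ?_⟩
      have := hl.N_apply' hd u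
      rw [hfix, e] at this
      exact this.symm
  -- all moves
  have hmove : ∀ i j l m, i ≠ j → i ≠ l → i ≠ m → j ≠ l → j ≠ m → l ≠ m → R j l m = R i j m := by
    intro i j l m h1 h2 h3 h4 h5 h6
    obtain ⟨σ, hσ, hv⟩ := exists_even ![x, y, z, t] ![i, j, l, m]
      (by intro a b h; fin_cases a <;> fin_cases b <;> simp_all)
      (by intro a b h; fin_cases a <;> fin_cases b <;> simp_all) (by omega)
    obtain ⟨g, -, hg⟩ := exists_lift hX hσ
    have key : ∀ a b c : α, IsThreeCycle (tc a b c) →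
        R (σ a) (σ b) (σ c) = (R a b c).map g.toLinearMap := by
      intro a b c habc
      refine le_antisymm ?_ ?_
      · rintro _ ⟨u, rfl⟩
        refine ⟨N (X (tc a b c)) (g⁻¹ u), ⟨_, rfl⟩, ?_⟩
        show g (N (X (tc a b c)) (g⁻¹ u)) = _
        rw [hg.N_apply' habc, conj_tc, self_apply_inv]
      · rintro _ ⟨_, ⟨u, rfl⟩, rfl⟩
        refine ⟨g u, ?_⟩
        show _ = g (N (X (tc a b c)) u)
        rw [hg.N_apply' habc, conj_tc]
    have e1 : σ x = i := hv 0
    have e2 : σ y = j := hv 1
    have e3 : σ z = l := hv 2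
    have e4 : σ t = m := hv 3
    have k1 := key y z t (tc_three hyz hyt hzt)
    have k2 := key x y t (tc_three hxy hxt hyt)
    rw [e2, e3, e4] at k1
    rw [e1, e2, e4] at k2
    rw [k1, k2, h0]
  -- the middle point does not matter
  have hmid : ∀ j l l' m, j ≠ l → j ≠ l' → j ≠ m → l ≠ m → l' ≠ m → R j l m = R j l' m := by
    intro j l l' m h1 h2 h3 h4 h5
    obtain ⟨i, hi⟩ : ∃ i, i ∉ ({j, l, l', m} : Finset α) := by
      by_contra h
      simp only [not_exists, not_not] at h
      have h7 : Fintype.card α ≤ ({j, l, l', m} : Finset α).card := Finset.card_le_card fun v _ => h v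
      have := (Finset.card_le_four : ({j, l, l', m} : Finset α).card ≤ 4)
      omega
    simp only [Finset.mem_insert, Finset.mem_singleton, not_or] at hi
    obtain ⟨i1, i2, i3, i4⟩ := hi
    rw [hmove i j l m i1 i2 i4 h1 h3 h4, hmove i j l' m i1 i3 i4 h2 h3 h5]
  have hfixall : ∀ d, IsThreeCycle d → ∀ v ∈ R x y z, X d v = v := by
    refine all_of_gen (fun d => ∀ v ∈ R x y z, X d v = v) ?_ ?_ hxy ?_ (by omega)
    · intro c d hc hd hQc hQd v hv
      show X (c * d * c⁻¹) v = v
      have h1 : (X c)⁻¹ v = v := by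
        nth_rewrite 1 [← hQc v hv]
        rw [inv_apply_self]
      rw [hX.conj c d hc hd, mul_apply, mul_apply, h1, hQd v hv, hQc v hv]
    · intro c hc hQc v hv
      show X c⁻¹ v = v
      nth_rewrite 1 [← hQc v hv]
      rw [hX.inv c hc, inv_apply_self]
    · intro w hwx hwy v hv
      have e : R x y z = R x y w := by
        show LinearMap.range (N (X (tc x y z))) = LinearMap.range (N (X (tc x y w)))
        rw [tc_rot hxy hxz hyz, tc_rot hxy (Ne.symm hwx) (Ne.symm hwy)]
        exact hmid y z w x hyz (Ne.symm hwy) hxy.symm hxz.symm hwx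
      rw [e] at hv
      obtain ⟨u, rfl⟩ := hv
      exact hsq _ (tc_three hxy (Ne.symm hwx) (Ne.symm hwy)) u
  have hc := tc_three hxy hxz hyz
  rcases hirr (R x y z) (fun d hd v hv => by rw [hfixall d hd v hv]; exact hv) with h | h
  · apply hne.all (by omega) hX hc
    ext v
    have : N (X (tc x y z)) v = 0 := by
      have hm : N (X (tc x y z)) v ∈ R x y z := ⟨v, rfl⟩
      rw [h] at hm
      exact (Submodule.mem_bot k).1 hm
    simpa [sub_eq_zero] using this
  · apply hne.all (by omega) hX hc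
    ext v
    exact hfixall _ hc v (h ▸ Submodule.mem_top)

theorem two_le_rank [IsAlgClosed k] [FiniteDimensional k V] (hn : 6 ≤ Fintype.card α)
    (h7 : 7 ≤ Fintype.card α ∨ (3 : k) ≠ 0) (hX : Sys X) (hne : NonTriv X) (hirr : Irr X) (hII : II X)
    {c : Perm α} (hc : IsThreeCycle c) : 2 ≤ finrank k (LinearMap.range (N (X c))) := by
  by_contra hlt
  have hnz : ∀ d, IsThreeCycle d → ∃ u, N (X d) u ≠ 0 := by
    intro d hd
    by_contra h
    simp only [not_exists, not_not] at h
    refine hne.all (by omega) hX hd ?_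
    ext v
    simpa [sub_eq_zero] using h v
  -- every range is a line
  have hline : ∀ d, IsThreeCycle d → ∀ v ∈ LinearMap.range (N (X d)), v ≠ 0 →
      ∀ u, ∃ r : k, N (X d) u = r • v := by
    intro d hd v hv hv0 u
    have h1 : Submodule.span k {v} = LinearMap.range (N (X d)) := by
      refine Submodule.eq_of_le_of_finrank_le (by rwa [Submodule.span_singleton_le_iff_mem]) ?_
      rw [finrank_span_singleton hv0, finrank_range_N_conj hX (by omega) hd hc]
      omega
    have h2 : N (X d) u ∈ Submodule.span k {v} := by rw [h1]; exact ⟨u, rfl⟩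
    obtain ⟨r, hr⟩ := Submodule.mem_span_singleton.1 h2
    exact ⟨r, hr.symm⟩
  -- each map fixes its line
  have hsq : ∀ d, IsThreeCycle d → ∀ u, X d (N (X d) u) = N (X d) u := by
    intro d hd
    obtain ⟨u₀, hu₀⟩ := hnz d hd
    set v := N (X d) u₀ with hv
    have hmem : v ∈ LinearMap.range (N (X d)) := ⟨u₀, rfl⟩
    obtain ⟨r, hr⟩ := hline d hd v hmem hu₀ v
    have hXv : X d v = (1 + r) • v := by
      rw [add_smul, one_smul, ← hr, N_apply]; abel
    set ω := 1 + r with hω
    obtain ⟨σ, hσ, e⟩ := exists_even_conj (by omega) hd (three_inv hd)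
    obtain ⟨g, -, hg⟩ := exists_lift hX hσ
    have hgv : g v ∈ LinearMap.range (N (X d)) := by
      rw [hv, hg.N_apply' hd, e, hX.inv d hd, ← range_inv]
      exact ⟨_, rfl⟩
    obtain ⟨w, hw⟩ := hgv
    obtain ⟨μ, hμ⟩ := hline d hd v hmem hu₀ w
    rw [hw] at hμ
    have hμ0 : μ ≠ 0 := fun h => hu₀ (by
      rw [h, zero_smul] at hμ
      rw [← inv_apply_self g v, hμ, map_zero])
    have h2 : ω * ω = 1 := by
      have h := congrArg (fun f : V ≃ₗ[k] V => f (g v)) (hg d hd)
      simp only [e, hX.inv d hd, mul_apply, inv_apply_self] at h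
      rw [hXv, map_smul, hμ, map_smul, smul_smul] at h
      have h' := congrArg (X d) h
      rw [map_smul, self_apply_inv, map_smul, hXv, smul_smul] at h'
      have h'' : (μ * (ω * ω)) • v = μ • v := by
        rw [h', ← sub_eq_zero, ← sub_smul]
        rw [show μ * (ω * ω) - ω * μ * ω = 0 by ring, zero_smul]
      have := smul_left_injective k hu₀ h''
      exact mul_left_cancel₀ hμ0 (by rw [this, mul_one])
    have h3 : ω * ω * ω = 1 := by
      have h := congrArg (fun f : V ≃ₗ[k] V => f v) (hX.cube d hd)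
      simp only [pow_succ, pow_zero, one_mul, mul_apply, one_apply, hXv, map_smul, smul_smul] at h
      exact smul_left_injective k hu₀ (by simpa [mul_assoc] using h)
    have hω1 : ω = 1 := by rw [h2, one_mul] at h3; exact h3
    intro u
    obtain ⟨s, hs⟩ := hline d hd v hmem hu₀ u
    rw [hs, map_smul, hXv, hω1, one_smul]
  have h30 : (3 : k) = 0 := by
    obtain ⟨u, hu⟩ := hnz c hc
    have h := congrArg (fun f : V ≃ₗ[k] V => f u) (hX.cube c hc)
    simp only [pow_succ, pow_zero, one_mul, mul_apply, one_apply] at h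
    have e : X c u = u + N (X c) u := by rw [N_apply]; abel
    rw [e, map_add, hsq c hc, e, map_add, map_add, hsq c hc, e] at h
    have h' : (3 : k) • N (X c) u = 0 := by
      rw [show (3 : k) = 1 + 1 + 1 by norm_num, add_smul, add_smul, one_smul]
      have := sub_eq_zero.2 h
      rw [← this]; abel
    exact (smul_eq_zero.1 h').resolve_right hu
  have h7' : 7 ≤ Fintype.card α := h7.resolve_right (fun h => h h30)
  obtain ⟨p⟩ := Function.Embedding.nonempty_of_card_le (α := Fin 7) (β := α) (by simpa using h7')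
  have hp : ∀ i j : Fin 7, i ≠ j → p i ≠ p j := fun i j h => p.injective.ne h
  have ha := tc_three (hp 0 1 (by decide)) (hp 0 2 (by decide)) (hp 1 2 (by decide))
  have hb := tc_three (hp 0 1 (by decide)) (hp 0 3 (by decide)) (hp 1 3 (by decide))
  have hd := tc_three (hp 4 5 (by decide)) (hp 4 6 (by decide)) (hp 5 6 (by decide))
  set a := tc (p 0) (p 1) (p 2) with hadef
  set b := tc (p 0) (p 1) (p 3) with hbdef
  obtain ⟨u1, hu1⟩ := hnz a ha
  obtain ⟨u2, hu2⟩ := hnz b hb
  obtain ⟨u3, hu3⟩ := hnz _ hd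
  set v := N (X a) u1 with hv
  set v' := N (X b) u2 with hv'
  set w := N (X (tc (p 4) (p 5) (p 6))) u3 with hw
  obtain ⟨s, hs⟩ := hline a ha v ⟨u1, rfl⟩ hu1 v'
  obtain ⟨t, ht⟩ := hline b hb v' ⟨u2, rfl⟩ hu2 v
  rw [N_apply, sub_eq_iff_eq_add] at hs ht
  have hs0 : s ≠ 0 := by
    intro h
    refine fix_false hn hX hne hirr hsq (hp 0 1 (by decide)) (hp 0 2 (by decide)) (hp 0 3 (by decide))
      (hp 1 2 (by decide)) (hp 1 3 (by decide)) (hp 2 3 (by decide)) fun u => ?_
    obtain ⟨r, hr⟩ := hline b hb v' ⟨u2, rfl⟩ hu2 u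
    rw [← hbdef, hr, map_smul, ← hadef, hs, h, zero_smul, zero_add]
  have ht0 : t ≠ 0 := by
    intro h
    refine fix_false hn hX hne hirr hsq (hp 0 1 (by decide)) (hp 0 3 (by decide)) (hp 0 2 (by decide))
      (hp 1 3 (by decide)) (hp 1 2 (by decide)) (hp 3 2 (by decide)) fun u => ?_
    obtain ⟨r, hr⟩ := hline a ha v ⟨u1, rfl⟩ hu1 u
    rw [← hadef, hr, map_smul, ← hbdef, ht, h, zero_smul, zero_add]
  -- the lift of the square of the involution `a * b`
  have hab : a * b * (a * b) = 1 := by
    have h01 := hp 0 1 (by decide); have h02 := hp 0 2 (by decide); have h03 := hp 0 3 (by decide)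
    have h12 := hp 1 2 (by decide); have h13 := hp 1 3 (by decide); have h23 := hp 2 3 (by decide)
    have b0 : b (p 0) = p 1 := tc_fst h01 h03
    have b1 : b (p 1) = p 3 := tc_snd h03 h13
    have b2 : b (p 2) = p 2 := tc_other h02.symm h12.symm h23
    have b3 : b (p 3) = p 0 := tc_trd
    have a0 : a (p 0) = p 1 := tc_fst h01 h02
    have a1 : a (p 1) = p 2 := tc_snd h02 h12
    have a2 : a (p 2) = p 0 := tc_trd
    have a3 : a (p 3) = p 3 := tc_other h03.symm h13.symm h23.symm
    ext x
    simp only [Perm.mul_apply, Perm.one_apply]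
    by_cases e0 : x = p 0
    · rw [e0, b0, a1, b2, a2]
    by_cases e1 : x = p 1
    · rw [e1, b1, a3, b3, a0]
    by_cases e2 : x = p 2
    · rw [e2, b2, a2, b0, a1]
    by_cases e3 : x = p 3
    · rw [e3, b3, a0, b1, a3]
    have bx : b x = x := tc_other e0 e1 e3
    have ax : a x = x := tc_other e0 e1 e2
    rw [bx, ax, bx, ax]
  set g := X a * X b * (X a * X b) with hg
  have hla : Lifts X a (X a) := fun f hf => hX.conj a f ha hf
  have hlb : Lifts X b (X b) := fun f hf => hX.conj b f hb hf
  have hlg : Lifts X 1 g := hab ▸ (hla.mul hlb).mul (hla.mul hlb)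
  have : Nontrivial V := ⟨⟨v, 0, hu1⟩⟩
  obtain ⟨z, hz⟩ := schur hirr g.toLinearMap fun f hf u => by
    have h := hlg f hf
    rw [one_mul, inv_one, mul_one] at h
    show g (X f u) = X f (g u)
    conv_rhs => rw [h]
    simp [mul_apply, inv_apply_self]
  have hdis : ∀ i j l : Fin 7, (∀ r, r = i ∨ r = j ∨ r = l → r ≠ 4 ∧ r ≠ 5 ∧ r ≠ 6) →
      Perm.Disjoint (tc (p i) (p j) (p l)) (tc (p 4) (p 5) (p 6)) := by
    intro i j l h
    refine disjoint_tc fun x hx => ?_
    rcases hx with rfl | rfl | rfl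
    · exact ⟨hp _ _ (h i (Or.inl rfl)).1, hp _ _ (h i (Or.inl rfl)).2.1, hp _ _ (h i (Or.inl rfl)).2.2⟩
    · exact ⟨hp _ _ (h j (Or.inr (Or.inl rfl))).1, hp _ _ (h j (Or.inr (Or.inl rfl))).2.1,
        hp _ _ (h j (Or.inr (Or.inl rfl))).2.2⟩
    · exact ⟨hp _ _ (h l (Or.inr (Or.inr rfl))).1, hp _ _ (h l (Or.inr (Or.inr rfl))).2.1,
        hp _ _ (h l (Or.inr (Or.inr rfl))).2.2⟩
  have haw : X a w = w := by
    have := hII a _ ha hd (hdis 0 1 2 (by decide)) u3
    rwa [← hw, N_apply, sub_eq_zero] at this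
  have hbw : X b w = w := by
    have := hII b _ hb hd (hdis 0 1 3 (by decide)) u3
    rwa [← hw, N_apply, sub_eq_zero] at this
  have hgw : g w = w := by rw [hg]; simp only [mul_apply, haw, hbw]
  have hz1 : z = 1 := by
    have h : g w = z • w := hz w
    rw [hgw] at h
    exact (smul_left_injective k hu3 (by simpa using h)).symm
  have hgv : g v = v := by
    have h : g v = z • v := hz v
    rwa [hz1, one_smul] at h
  have hav : X a v = v := hsq a ha u1
  have hbv : X b v' = v' := hsq b hb u2
  rw [hg] at hgv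
  simp only [mul_apply, ht, map_add, map_smul, hbv, hs, hav, smul_add, smul_smul] at hgv
  -- coefficients
  have hind : ∀ x y : k, x • v + y • v' = 0 → y = 0 := by
    intro x y h
    by_contra hy
    have e : v' = (-(y⁻¹ * x)) • v := by
      rw [neg_smul, ← smul_smul, eq_neg_of_add_eq_zero_left h, smul_neg, smul_smul, inv_mul_cancel₀ hy, one_smul,
        neg_neg]
    have : X a v' = v' := by rw [e, map_smul, hav]
    rw [this] at hs
    exact hs0 ((smul_eq_zero.1 (add_eq_right.1 hs.symm)).resolve_right hu1)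
  have key : ((1 + t * s) * (1 + t * s) + t * s - 1) • v + (t * (2 + t * s)) • v' = 0 := by
    have := sub_eq_zero.2 hgv
    rw [← this]; module
  have h1 : t * (2 + t * s) = 0 := hind _ _ key
  rw [h1, zero_smul, add_zero] at key
  have h2 : (1 + t * s) * (1 + t * s) + t * s - 1 = 0 := (smul_eq_zero.1 key).resolve_right hu1
  have h4 : t * s * (t * s) = 0 := by linear_combination h2 - t * s * h30
  exact mul_ne_zero (mul_ne_zero ht0 hs0) (mul_ne_zero ht0 hs0) h4

end Cfsg.Agent.Lib.AltSectGL
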