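import Cfsg.Agent.Lib.AltSectGL.Six
import Cfsg.Agent.Lib.AltSectGL.RankTwo
import Cfsg.Agent.Lib.AltSectGL.ChainII
import Cfsg.Agent.Lib.AltSectGL.FiveFive

/-!
The lower bound for the degrees of nontrivial systems.
-/

set_option autoImplicit false
set_option linter.unusedSectionVars false
set_option maxRecDepth 8000

namespace Cfsg.Agent.Lib.AltSectGL

open Equiv Equiv.Perm Module

universe u

theorem bd_congr {α β : Type*} [Fintype α] [DecidableEq α] [Fintype β] [DecidableEq β] {k : Type*} [Field k]
    (e : α ≃ β) {B : ℕ} (h : Bd.{u} α k B) : Bd.{u} β k B := by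
  intro W _ _ _ Y hY hne
  have hsw : ∀ a b : α, e.permCongrHom (swap a b) = swap (e a) (e b) := fun a b => Equiv.symm_trans_swap_trans a b e
  have h3 : ∀ c : Perm α, IsThreeCycle c → IsThreeCycle (e.permCongrHom c) := by
    intro c hc
    obtain ⟨i, j, l, hij, hil, hjl, rfl⟩ := exists_tc hc
    rw [tc, map_mul, hsw, hsw]
    exact tc_three (e.injective.ne hij) (e.injective.ne hil) (e.injective.ne hjl)
  refine h W (fun c => Y (e.permCongrHom c)) ⟨fun c hc => hY.cube _ (h3 c hc), fun c hc => ?_, fun c d hc hd => ?_⟩ ?_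
  · show Y (e.permCongrHom c⁻¹) = (Y (e.permCongrHom c))⁻¹
    rw [map_inv]; exact hY.inv _ (h3 c hc)
  · show Y (e.permCongrHom (c * d * c⁻¹)) = _
    rw [map_mul, map_mul, map_inv]; exact hY.conj _ _ (h3 c hc) (h3 d hd)
  · obtain ⟨c, hc, hc1⟩ := hne
    obtain ⟨i, j, l, hij, hil, hjl, rfl⟩ := exists_tc hc
    refine ⟨tc (e.symm i) (e.symm j) (e.symm l),
      tc_three (e.symm.injective.ne hij) (e.symm.injective.ne hil) (e.symm.injective.ne hjl), ?_⟩
    show Y (e.permCongrHom _) ≠ 1
    rw [tc, map_mul, hsw, hsw, e.apply_symm_apply, e.apply_symm_apply, e.apply_symm_apply]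
    exact hc1

variable {k : Type*} [Field k] [IsAlgClosed k]

theorem bd_four {α : Type*} [Fintype α] [DecidableEq α] (h3 : (3 : k) ≠ 0) (hn : 6 ≤ Fintype.card α) :
    Bd.{u} α k 4 := by
  refine bound_of_irr (by omega) 4 fun W _ _ _ Y hY hne hirr => ?_
  by_cases h : II Y
  · have := bound_II hY hne hirr h (fun c hc => two_le_rank hn (Or.inr h3) hY hne hirr h hc) hn
    omega
  · exact six_not_II h3 hn hY hne h

theorem bd_four_three {α : Type*} [Fintype α] [DecidableEq α] (h3 : (3 : k) = 0) (hn : 8 ≤ Fintype.card α) :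
    Bd.{u} α k 4 := by
  refine bound_of_irr (by omega) 4 fun W _ _ _ Y hY hne hirr => ?_
  by_cases h : II Y
  · have := bound_II hY hne hirr h (fun c hc => two_le_rank (by omega) (Or.inl (by omega)) hY hne hirr h hc) (by omega)
    omega
  · exact (double_eq h3 hn hY h (B := 2) fun s hs => bd_two (by rw [card_co]; omega)).2

/-- Orthogonal systems satisfy the bound. -/
theorem II_case {α : Type*} [Fintype α] [DecidableEq α] {q : ℕ} [CharP k q] (hn : 9 ≤ Fintype.card α)
    {V : Type u} [AddCommGroup V] [Module k V] [FiniteDimensional k V] {X : Perm α → (V ≃ₗ[k] V)}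
    (hX : Sys X) (hne : NonTriv X) (hirr : Irr X) (h : II X) :
    Fintype.card α - 1 - (if q ∣ Fintype.card α then 1 else 0) ≤ finrank k V := by
  have h2 : ∀ c, IsThreeCycle c → 2 ≤ finrank k (LinearMap.range (N (X c))) := fun c hc =>
    two_le_rank (by omega) (Or.inl (by omega)) hX hne hirr h hc
  have hb := bound_II hX hne hirr h h2 (by omega)
  split_ifs with hq
  · omega
  · rcases Nat.lt_or_ge (finrank k V) (Fintype.card α - 1) with hlt | hge
    · exact absurd ((CharP.cast_eq_zero_iff k q _).1 (rel_II hX hne hirr h h2 hn (by omega))) hq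
    · omega

/-- Nine points. -/
theorem bd_nine {q : ℕ} [CharP k q] : Bd.{u} (Fin 9) k (9 - 1 - (if q ∣ 9 then 1 else 0)) := by
  refine bound_of_irr (by simp) _ fun W _ _ _ Y hY hne hirr => ?_
  by_cases hII : II Y
  · simpa using II_case (q := q) (by simp) hY hne hirr hII
  by_cases h3 : (3 : k) = 0
  · rw [if_pos (dvd_trans ((CharP.cast_eq_zero_iff k q 3).1 (by exact_mod_cast h3)) (by norm_num))]
    have h5 : ((5 : ℕ) : k) ≠ 0 := fun e => one_ne_zero (α := k) (by push_cast at e; linear_combination 2 * h3 - e)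
    have hB := (double_eq h3 (by simp) hY hII (B := 2) fun s hs => bd_two (by rw [card_co, hs]; simp)).1
    have hd : IsThreeCycle (tc (5 : Fin 9) 6 7) := tc_three (by decide) (by decide) (by decide)
    rcases small_three h3 (by simp) hY hne hirr (σ := tc (0 : Fin 9) 1 2 * tc 2 3 4)
      (τ := swap (5 : Fin 9) 6 * (swap 1 2 * swap 2 4 * swap 4 3)) (ℓ := 5) (e := 2) (j := 1) (by norm_num) h5
      (by decide) (by decide) (by decide) (by decide) (by decide) (by decide) (by decide) (by decide) hd
      (fun x => by revert x; decide) with h | h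
    · omega
    · have := hB _ hd; omega
  · have := double_ne h3 (by simp) hY hII (B := 4) (fun s hs => bd_four h3 (by rw [card_co, hs]; simp))
      (e := tc 0 1 2) (tc_three (by decide) (by decide) (by decide))
    have := (LinearMap.range (N (Y (tc 0 1 2)))).finrank_le
    omega

/-- Ten points. -/
theorem bd_ten {q : ℕ} [CharP k q] : Bd.{u} (Fin 10) k (10 - 1 - (if q ∣ 10 then 1 else 0)) := by
  refine bound_of_irr (by simp) _ fun W _ _ _ Y hY hne hirr => ?_
  by_cases hII : II Y
  · simpa using II_case (q := q) (by simp) hY hne hirr hII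
  by_cases h3 : (3 : k) = 0
  · have h7 : ((7 : ℕ) : k) ≠ 0 := fun e => one_ne_zero (α := k) (by push_cast at e; linear_combination e - 2 * h3)
    have hB := (double_eq h3 (by simp) hY hII (B := 2) fun s hs => bd_two (by rw [card_co, hs]; simp)).1
    have hd : IsThreeCycle (tc (7 : Fin 10) 8 9) := tc_three (by decide) (by decide) (by decide)
    rcases small_three h3 (by simp) hY hne hirr (σ := tc (0 : Fin 10) 1 2 * tc 2 3 4 * tc 4 5 6)
      (τ := swap (7 : Fin 10) 8 * (swap 1 3 * swap 3 2 * swap 2 6 * swap 6 4 * swap 4 5)) (ℓ := 7) (e := 3) (j := 4)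
      (by norm_num) h7
      (by decide) (by decide) (by decide) (by decide) (by decide) (by decide) (by decide) (by decide) hd
      (fun x => by revert x; decide) with h | h
    · omega
    · have := hB _ hd; omega
  · have hr : ∀ c : Perm (Fin 10), IsThreeCycle c → 8 ≤ finrank k (LinearMap.range (N (Y c))) := fun c hc =>
      double_ne h3 (by simp) hY hII (B := 4) (fun s hs => bd_four h3 (by rw [card_co, hs]; simp)) hc
    have hle : ∀ c : Perm (Fin 10), finrank k (LinearMap.range (N (Y c))) ≤ finrank k W := fun c =>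
      (LinearMap.range (N (Y c))).finrank_le
    have := hr _ (tc_three (i := (0 : Fin 10)) (j := 1) (l := 2) (by decide) (by decide) (by decide))
    have := hle (tc 0 1 2)
    by_cases hq : q ∣ 10
    · rw [if_pos hq]; omega
    rw [if_neg hq]
    rcases Nat.lt_or_ge (finrank k W) 9 with hlt | hge
    · refine absurd (show finrank k W = 8 by omega) (not_eight (fun e => hq ?_) h3 hY hne hirr fun c hc => ?_)
      · exact dvd_trans ((CharP.cast_eq_zero_iff k q 5).1 (by exact_mod_cast e)) (by norm_num)
      · have := hr c hc; have := hle c; omega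
    · omega

/-- Eleven points. -/
theorem bd_eleven {q : ℕ} [CharP k q] : Bd.{u} (Fin 11) k (11 - 1 - (if q ∣ 11 then 1 else 0)) := by
  refine bound_of_irr (by simp) _ fun W _ _ _ Y hY hne hirr => ?_
  by_cases hII : II Y
  · simpa using II_case (q := q) (by simp) hY hne hirr hII
  suffices 10 ≤ finrank k W by omega
  by_cases h3 : (3 : k) = 0
  · have h7 : ((7 : ℕ) : k) ≠ 0 := fun e => one_ne_zero (α := k) (by push_cast at e; linear_combination e - 2 * h3)
    have hB := (double_eq h3 (by simp) hY hII (B := 4) fun s hs => bd_four_three h3 (by rw [card_co, hs]; simp)).1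
    have hd : IsThreeCycle (tc (7 : Fin 11) 8 9) := tc_three (by decide) (by decide) (by decide)
    rcases small_three h3 (by simp) hY hne hirr (σ := tc (0 : Fin 11) 1 2 * tc 2 3 4 * tc 4 5 6)
      (τ := swap (7 : Fin 11) 8 * (swap 1 3 * swap 3 2 * swap 2 6 * swap 6 4 * swap 4 5)) (ℓ := 7) (e := 3) (j := 4)
      (by norm_num) h7
      (by decide) (by decide) (by decide) (by decide) (by decide) (by decide) (by decide) (by decide) hd
      (fun x => by revert x; decide) with h | h
    · omega
    · have := hB _ hd; omega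
  have hr : ∀ c : Perm (Fin 11), IsThreeCycle c → 8 ≤ finrank k (LinearMap.range (N (Y c))) := fun c hc =>
    double_ne h3 (by simp) hY hII (B := 4) (fun s hs => bd_four h3 (by rw [card_co, hs]; simp)) hc
  by_cases h5 : (5 : k) = 0
  · have h7 : (7 : k) ≠ 0 := fun e => one_ne_zero (α := k) (by linear_combination 3 * h5 - 2 * e)
    exact small_seven (by simp) hY hne hirr (σ := tc (0 : Fin 11) 1 2 * tc 2 3 4 * tc 4 5 6)
      (τ := swap (7 : Fin 11) 8 * (swap 1 3 * swap 3 2 * swap 2 6 * swap 6 4 * swap 4 5))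
      (a := 7) (b := 8) (c := 9) (d := 10) h7 (by decide) (by decide) (by decide) (by decide) (by decide)
      (by decide) (by decide) (by simp) hr
  · obtain ⟨d, hd, -⟩ := co_nontriv (by simp) hY hne ({0, 1, 2, 3, 4} : Finset (Fin 11)) (by decide)
    rcases small_block (by simp) hY hne hirr (σ := tc (0 : Fin 11) 1 2 * tc 2 3 4)
      (τ := swap (5 : Fin 11) 6 * (swap 1 2 * swap 2 4 * swap 4 3)) (ℓ := 5) (e := 2) (j := 1) (by norm_num)
      (by exact_mod_cast h5) (by decide) (by decide) (by decide) (by decide) (by decide) (by decide) (by decide)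
      (by decide) ({0, 1, 2, 3, 4} : Finset (Fin 11)) (by decide)
      (B := 4) (bd_four h3 (by rw [card_co]; decide)) hd with h | h
    · omega
    · have : 8 ≤ finrank k (LinearMap.range (N (coX Y ({0, 1, 2, 3, 4} : Finset (Fin 11)) d))) :=
        hr _ (three_ofSubtype hd)
      omega

/-- The bound. -/
theorem bd_main {q : ℕ} [Fact q.Prime] [CharP k q] (r : ℕ) :
    ∀ (α : Type) [Fintype α] [DecidableEq α], Fintype.card α = r → 9 ≤ r →
      Bd.{u} α k (r - 1 - (if q ∣ r then 1 else 0)) := by
  induction r using Nat.strong_induction_on with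
  | _ r ih =>
    intro α _ _ hcard hr
    have e := Fintype.equivFinOfCardEq hcard
    rcases Nat.lt_or_ge r 12 with hlt | hge
    · refine bd_congr e.symm ?_
      interval_cases r
      exacts [bd_nine, bd_ten, bd_eleven]
    refine bound_of_irr (by omega) _ fun W _ _ _ Y hY hne hirr => ?_
    by_cases hII : II Y
    · exact hcard ▸ II_case (q := q) (by omega) hY hne hirr hII
    have hB : ∀ s : Finset α, s.card = 3 → Bd.{u} {x // x ∉ s} k (r - 3 - 1 - (if q ∣ r - 3 then 1 else 0)) :=
      fun s hs => ih (r - 3) (by omega) _ (by rw [card_co, hcard, hs]) (by omega)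
    suffices 2 * (r - 3 - 1 - (if q ∣ r - 3 then 1 else 0)) ≤ finrank k W by split_ifs at this ⊢ <;> omega
    by_cases h3 : (3 : k) = 0
    · exact (double_eq h3 (by omega) hY hII hB).2
    · obtain ⟨c, hc, -⟩ := hne
      exact le_trans (double_ne h3 (by omega) hY hII hB hc) (Submodule.finrank_le _)

/-- The bound in coordinates. -/
theorem main {r : ℕ} (hr : 9 ≤ r) (q : ℕ) [Fact q.Prime] (k : Type) [Field k] [IsAlgClosed k] [CharP k q] (m : ℕ)
    (X : Perm (Fin r) → ((Fin m → k) ≃ₗ[k] (Fin m → k))) (hX : Sys X) (hne : NonTriv X) :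
    r - 1 - (if q ∣ r then 1 else 0) ≤ m := by
  have := bd_main (q := q) r (Fin r) (Fintype.card_fin r) hr (Fin m → k) X hX hne
  rwa [Module.finrank_fin_fun] at this

end Cfsg.Agent.Lib.AltSectGL
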