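import Cfsg.Agent.Lib.AltSectGL.Basic

/-!
Reduction of alternating sections of finite linear groups to systems on three-cycles.
-/

set_option autoImplicit false
set_option linter.unusedSectionVars false

namespace Cfsg.Agent.Lib.AltSectGL

open Equiv Equiv.Perm
open scoped commutatorElement

namespace Reduce

section LinearAlgebra

variable {k V : Type*} [Field k] [AddCommGroup V] [Module k V]

theorem indep_of_eigen {ι μ W : Type*} [Fintype ι] [AddCommGroup W] [Module k W] (v : ι → W)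
    (hv : ∀ i, v i ≠ 0) (T : μ → W →ₗ[k] W) (χ : ι → μ → k) (he : ∀ i m, T m (v i) = χ i m • v i)
    (hd : ∀ i j, i ≠ j → ∃ m, χ i m ≠ χ j m) : LinearIndependent k v := by
  classical
  rw [Fintype.linearIndependent_iff]
  intro c hc i0
  choose m hm using fun j : {j // j ≠ i0} => hd i0 j j.2.symm
  have hL : ∀ s : Finset {j // j ≠ i0}, ∃ L : W →ₗ[k] W,
      ∀ i, L (v i) = (∏ j ∈ s, (χ i (m j) - χ j (m j))) • v i := by
    intro s
    induction s using Finset.induction_on with
    | empty => exact ⟨LinearMap.id, fun i => by simp⟩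
    | insert a s ha ih =>
      obtain ⟨L, hL⟩ := ih
      refine ⟨(T (m a) - χ a (m a) • LinearMap.id).comp L, fun i => ?_⟩
      rw [LinearMap.comp_apply, hL, map_smul, LinearMap.sub_apply, he, LinearMap.smul_apply,
        LinearMap.id_apply, ← sub_smul, smul_smul, Finset.prod_insert ha, mul_comm]
  obtain ⟨L, hL⟩ := hL Finset.univ
  have h0 := congrArg L hc
  rw [map_sum, map_zero, Finset.sum_eq_single i0] at h0
  · rw [map_smul, hL, smul_smul] at h0
    rcases mul_eq_zero.1 ((smul_eq_zero.1 h0).resolve_right (hv i0)) with h | h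
    · exact h
    · obtain ⟨j, _, hj⟩ := Finset.prod_eq_zero_iff.1 h
      exact absurd (sub_eq_zero.1 hj) (hm j)
  · intro b _ hb
    rw [map_smul, hL, Finset.prod_eq_zero (Finset.mem_univ (⟨b, hb⟩ : {j // j ≠ i0})) (sub_self _),
      zero_smul, smul_zero]
  · intro h; exact absurd (Finset.mem_univ i0) h

variable [IsAlgClosed k] [FiniteDimensional k V]

theorem scalar_of_min (S : Set (V ≃ₗ[k] V)) (P : Submodule k V) (hP : P ≠ ⊥)
    (hinv : ∀ s ∈ S, ∀ v ∈ P, s v ∈ P)
    (hmin : ∀ Q : Submodule k V, Q ≠ ⊥ → Q ≤ P → (∀ s ∈ S, ∀ v ∈ Q, s v ∈ Q) → Q = P)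
    (g : V ≃ₗ[k] V) (hg : ∀ v ∈ P, g v ∈ P) (hcomm : ∀ s ∈ S, Commute g s) :
    ∃ c : k, ∀ v ∈ P, g v = c • v := by
  let f : Module.End k P := g.toLinearMap.restrict hg
  haveI : Nontrivial P := Submodule.nontrivial_iff_ne_bot.2 hP
  obtain ⟨c, hc⟩ := Module.End.exists_eigenvalue f
  obtain ⟨v, hv⟩ := hc.exists_hasEigenvector
  have hfv : g (v : V) = c • (v : V) := congrArg Subtype.val hv.apply_eq_smul
  have hv0 : (v : V) ≠ 0 := fun h => hv.2 (Subtype.ext h)
  let Q : Submodule k V := P ⊓ LinearMap.ker (g.toLinearMap - c • LinearMap.id)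
  have hQ : ∀ w, w ∈ Q ↔ w ∈ P ∧ g w = c • w := fun w => by
    simp [Q, sub_eq_zero]
  have hQ0 : Q ≠ ⊥ := fun h => hv0 ((Submodule.mem_bot k).1 (h ▸ (hQ _).2 ⟨v.2, hfv⟩))
  have hQP : Q = P := hmin Q hQ0 inf_le_left fun s hs w hw => by
    obtain ⟨h1, h2⟩ := (hQ w).1 hw
    refine (hQ _).2 ⟨hinv s hs w h1, ?_⟩
    rw [← mul_apply, (hcomm s hs).eq, mul_apply, h2, map_smul]
  exact ⟨c, fun w hw => ((hQ w).1 (by rw [hQP]; exact hw)).2⟩

theorem exists_min (S : Set (V ≃ₗ[k] V)) [Nontrivial V] :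
    ∃ P : Submodule k V, P ≠ ⊥ ∧ (∀ s ∈ S, ∀ v ∈ P, s v ∈ P) ∧
      ∀ Q : Submodule k V, Q ≠ ⊥ → Q ≤ P → (∀ s ∈ S, ∀ v ∈ Q, s v ∈ Q) → Q = P := by
  obtain ⟨P, hP, hmin⟩ := (wellFounded_lt : WellFounded (α := Submodule k V) (· < ·)).has_min
    {P | P ≠ ⊥ ∧ ∀ s ∈ S, ∀ v ∈ P, s v ∈ P} ⟨⊤, top_ne_bot, fun _ _ _ _ => trivial⟩
  exact ⟨P, hP.1, hP.2, fun Q h0 hle hi => hle.eq_of_not_lt (hmin Q ⟨h0, hi⟩)⟩

end LinearAlgebra

section Descend

theorem descend {G A L : Type*} [Group G] [Group A] [Group L] (π : G →* A) (hπ : Function.Surjective π)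
    (φ : G →* L) (h : φ.ker ≤ π.ker) : ∃ π' : φ.range →* A, Function.Surjective π' := by
  refine ⟨(QuotientGroup.lift φ.ker π h).comp (QuotientGroup.quotientKerEquivRange φ).symm.toMonoidHom, ?_⟩
  intro a
  obtain ⟨g, rfl⟩ := hπ a
  exact ⟨QuotientGroup.quotientKerEquivRange φ (QuotientGroup.mk g), by simp⟩

end Descend

variable {r : ℕ}

theorem alt_simple (hr : 9 ≤ r) : IsSimpleGroup ↥(alternatingGroup (Fin r)) :=
  alternatingGroup.isSimpleGroup (by rw [Nat.card_eq_fintype_card, Fintype.card_fin]; omega)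

theorem alt_not_comm (hr : 9 ≤ r) : ¬ ∀ a b : ↥(alternatingGroup (Fin r)), a * b = b * a := by
  intro h
  let i : Fin 4 → Fin r := Fin.castLE (by omega)
  have hi : Function.Injective i := Fin.castLE_injective _
  have h01 : i 0 ≠ i 1 := hi.ne (by decide)
  have h02 : i 0 ≠ i 2 := hi.ne (by decide)
  have h03 : i 0 ≠ i 3 := hi.ne (by decide)
  have h12 : i 1 ≠ i 2 := hi.ne (by decide)
  have h13 : i 1 ≠ i 3 := hi.ne (by decide)
  have h23 : i 2 ≠ i 3 := hi.ne (by decide)
  have hc := tc_three h01 h02 h12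
  have hd := tc_three h12 h13 h23
  have he := congrArg (fun x : ↥(alternatingGroup (Fin r)) => (x : Perm (Fin r)))
    (h ⟨_, hd.mem_alternatingGroup⟩ ⟨_, hc.mem_alternatingGroup⟩)
  simp only [Subgroup.coe_mul] at he
  have he2 : tc (i 1) (i 2) (i 3) * tc (i 0) (i 1) (i 2) * (tc (i 1) (i 2) (i 3))⁻¹ = tc (i 0) (i 1) (i 2) := by
    rw [he, mul_inv_cancel_right]
  rw [conj_tc, tc_other h01 h02 h03, tc_fst h12 h13, tc_snd h13 h23] at he2
  have := congrArg (fun σ : Perm (Fin r) => σ (i 0)) he2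
  simp only [tc_fst h02 h03, tc_fst h01 h02] at this
  exact h12 this.symm

section Group

variable {G : Type*} [Group G] [Finite G] (π : G →* ↥(alternatingGroup (Fin r))) (hπ : Function.Surjective π)

/-- No proper subgroup maps onto the alternating group. -/
def Minimal : Prop := ∀ S : Subgroup G, S.map π = ⊤ → S = ⊤

include hπ

theorem not_comm (hr : 9 ≤ r) : ¬ ∀ a b : G, a * b = b * a := fun h => alt_not_comm hr fun a b => by
  obtain ⟨x, rfl⟩ := hπ a
  obtain ⟨y, rfl⟩ := hπ b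
  rw [← map_mul, ← map_mul, h]

theorem ker_ne_top (hr : 9 ≤ r) : π.ker ≠ ⊤ := fun h => alt_not_comm hr fun a b => by
  obtain ⟨x, rfl⟩ := hπ a
  obtain ⟨y, rfl⟩ := hπ b
  rw [← map_mul, ← map_mul]
  have e : ∀ g : G, π g = 1 := fun g => (h ▸ Subgroup.mem_top g : g ∈ π.ker)
  rw [e, e]

theorem normal_le_ker (hr : 9 ≤ r) (hmin : Minimal π) {N : Subgroup G} [hN : N.Normal] (h : N ≠ ⊤) : N ≤ π.ker := by
  haveI := alt_simple hr
  rcases (hN.map π hπ).eq_bot_or_eq_top with h1 | h1
  · exact (Subgroup.map_eq_bot_iff _).1 h1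
  · exact absurd (hmin N h1) h

theorem perfect (hr : 9 ≤ r) (hmin : Minimal π) : commutator G = ⊤ := by
  by_contra h
  apply alt_not_comm hr
  intro a b
  obtain ⟨x, rfl⟩ := hπ a
  obtain ⟨y, rfl⟩ := hπ b
  haveI : (commutator G).Normal := inferInstance
  have hk : ⁅x, y⁆ ∈ π.ker := normal_le_ker π hπ hr hmin h
    (by rw [commutator_def]; exact Subgroup.commutator_mem_commutator trivial trivial)
  rw [MonoidHom.mem_ker, map_commutatorElement, commutatorElement_eq_one_iff_mul_comm] at hk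
  exact hk

theorem hom_trivial (hr : 9 ≤ r) (hmin : Minimal π) {A : Type*} [Group A] (f : G →* A)
    (hA : ∀ x y, f x * f y = f y * f x) (g : G) : f g = 1 := by
  have hle : commutator G ≤ f.ker := by
    rw [commutator_def, Subgroup.commutator_le]
    intro x _ y _
    rw [MonoidHom.mem_ker, map_commutatorElement, commutatorElement_eq_one_iff_mul_comm]
    exact hA x y
  exact hle (by rw [perfect π hπ hr hmin]; trivial)

theorem ker_nilpotent (hmin : Minimal π) : Group.IsNilpotent π.ker := by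
  refine ((Group.isNilpotent_of_finite_tfae (G := π.ker)).out 0 3 rfl rfl).2 fun q hq P => ?_
  have h := Sylow.normalizer_sup_eq_top P
  have h2 := congrArg (Subgroup.map π) h
  rw [Subgroup.map_sup, (Subgroup.map_eq_bot_iff _).2 le_rfl, sup_bot_eq, Subgroup.map_top_of_surjective π hπ] at h2
  have h3 := hmin _ h2
  haveI : ((P : Subgroup π.ker).map π.ker.subtype).Normal := Subgroup.normalizer_eq_top_iff.1 h3
  have e : ((P : Subgroup π.ker).map π.ker.subtype).subgroupOf π.ker = (P : Subgroup π.ker) :=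
    Subgroup.comap_map_eq_self_of_injective π.ker.subtype_injective _
  rw [← e]
  infer_instance

end Group

section Special

variable {G : Type*} [Group G] [Finite G] (π : G →* ↥(alternatingGroup (Fin r))) (hπ : Function.Surjective π)
  (hc : π.ker ≤ Subgroup.center G)

/-- A lift of order dividing three conjugate to its inverse. -/
def Special (c : Perm (Fin r)) (x : G) : Prop :=
  (π x : Perm (Fin r)) = c ∧ x ^ 3 = 1 ∧ ∃ h : G, h * x * h⁻¹ = x⁻¹

include hπ hc

theorem central_of_map_eq {a b : G} (h : π a = π b) : ∀ g, g * (a⁻¹ * b) = a⁻¹ * b * g :=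
  fun g => Subgroup.mem_center_iff.1 (hc (by rw [MonoidHom.mem_ker, map_mul, map_inv, h, inv_mul_cancel])) g

theorem commute_disjoint (hr : 9 ≤ r) {x : G} (hx3 : x ^ 3 = 1) {i j l : Fin r} (hij : i ≠ j) (hil : i ≠ l) (hjl : j ≠ l)
    (hx : (π x : Perm (Fin r)) = tc i j l) {a b e : Fin r} (hab : a ≠ b) (hae : a ≠ e) (hbe : b ≠ e)
    (ha : a ≠ i ∧ a ≠ j ∧ a ≠ l) (hb : b ≠ i ∧ b ≠ j ∧ b ≠ l) (he : e ≠ i ∧ e ≠ j ∧ e ≠ l)
    {y : G} (hy : (π y : Perm (Fin r)) = tc a b e) : Commute y x := by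
  obtain ⟨σ, hσ, hf⟩ := exists_even ![i, j, l, a, b, e] ![l, j, i, a, b, e]
    (by intro p q h; fin_cases p <;> fin_cases q <;> simp_all)
    (by intro p q h; fin_cases p <;> fin_cases q <;> simp_all) (by rw [Fintype.card_fin]; omega)
  have f0 : σ i = l := hf 0
  have f1 : σ j = j := hf 1
  have f2 : σ l = i := hf 2
  have f3 : σ a = a := hf 3
  have f4 : σ b = b := hf 4
  have f5 : σ e = e := hf 5
  obtain ⟨g, hg⟩ := hπ ⟨σ, mem_alternatingGroup.2 hσ⟩
  have hgv : (π g : Perm (Fin r)) = σ := by rw [hg]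
  have hd : tc a b e * tc i j l * (tc a b e)⁻¹ = tc i j l := by
    rw [conj_tc, tc_other ha.1.symm hb.1.symm he.1.symm, tc_other ha.2.1.symm hb.2.1.symm he.2.1.symm,
      tc_other ha.2.2.symm hb.2.2.symm he.2.2.symm]
  have hyx : π (y * x) = π (x * y) := Subtype.ext (by
    rw [map_mul, map_mul, Subgroup.coe_mul, Subgroup.coe_mul, hx, hy]
    exact mul_inv_eq_iff_eq_mul.1 hd)
  have hgy : π (g * y * g⁻¹) = π y := Subtype.ext (by
    rw [map_mul, map_mul, map_inv, Subgroup.coe_mul, Subgroup.coe_mul, Subgroup.coe_inv, hy, hgv, conj_tc, f3, f4, f5])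
  have hgx : π (g * x * g⁻¹) = π x⁻¹ := Subtype.ext (by
    rw [map_mul, map_mul, map_inv, map_inv, Subgroup.coe_mul, Subgroup.coe_mul, Subgroup.coe_inv, Subgroup.coe_inv,
      hx, hgv, conj_tc, f0, f1, f2, tc_inv hij hil hjl])
  set w : G := y * x * y⁻¹ * x⁻¹ with hw
  have hwc : w ∈ Subgroup.center G := hc (by
    rw [MonoidHom.mem_ker, hw]
    simp only [map_mul, map_inv] at hyx ⊢
    rw [hyx]
    group)
  have hwc' : ∀ g, g * w = w * g := Subgroup.mem_center_iff.1 hwc
  have e1 : y * x * y⁻¹ = w * x := by rw [hw]; group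
  have hw3 : w ^ 3 = 1 := by
    have h3 : (y * x * y⁻¹) ^ 3 = 1 := by rw [conj_pow, hx3, mul_one, mul_inv_cancel]
    rw [e1, (show Commute w x from (hwc' x).symm).mul_pow, hx3, mul_one] at h3
    exact h3
  have hu := central_of_map_eq π hπ hc hgy.symm
  have hv := central_of_map_eq π hπ hc hgx.symm
  have ey : g * y * g⁻¹ = y * (y⁻¹ * (g * y * g⁻¹)) := by group
  have ex : g * x * g⁻¹ = x⁻¹ * ((x⁻¹)⁻¹ * (g * x * g⁻¹)) := by group
  have e2 : (g * y * g⁻¹) * (g * x * g⁻¹) * (g * y * g⁻¹)⁻¹ = w * (g * x * g⁻¹) := by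
    rw [show (g * y * g⁻¹) * (g * x * g⁻¹) * (g * y * g⁻¹)⁻¹ = g * (y * x * y⁻¹) * g⁻¹ from by group, e1,
      ← mul_assoc, hwc' g]
    group
  rw [ey, ex] at e2
  generalize y⁻¹ * (g * y * g⁻¹) = u at hu e2
  generalize (x⁻¹)⁻¹ * (g * x * g⁻¹) = v at hv e2
  have e3 : y * u * (x⁻¹ * v) * (y * u)⁻¹ = (y * x⁻¹ * y⁻¹) * v := by
    rw [mul_inv_rev, mul_assoc y u (x⁻¹ * v), ← hu (x⁻¹ * v),
      show y * (x⁻¹ * v * u) * (u⁻¹ * y⁻¹) = y * x⁻¹ * (v * y⁻¹) from by group, ← hv y⁻¹]
    group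
  rw [e3, ← mul_assoc w] at e2
  have e4 : y * x⁻¹ * y⁻¹ = w * x⁻¹ := mul_right_cancel e2
  have e5 : y * x⁻¹ * y⁻¹ = w⁻¹ * x⁻¹ := by
    rw [show y * x⁻¹ * y⁻¹ = (y * x * y⁻¹)⁻¹ from by group, e1, mul_inv_rev]
    exact ((show Commute w x from (hwc' x).symm).inv_inv).eq.symm
  have hw2 : w * w = 1 := by
    have h6 : w = w⁻¹ := mul_right_cancel (e4.symm.trans e5)
    nth_rewrite 2 [h6]
    exact mul_inv_cancel w
  have hw1 : w = 1 := by rw [pow_three, hw2, mul_one] at hw3; exact hw3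
  rw [hw1, one_mul] at e1
  exact mul_inv_eq_iff_eq_mul.1 e1

theorem commute_of_proj (hr : 9 ≤ r) {c : Perm (Fin r)} (hct : IsThreeCycle c) {x : G} (hx3 : x ^ 3 = 1)
    (hx : (π x : Perm (Fin r)) = c) {a : G} (ha : Commute (π a : Perm (Fin r)) c) : Commute a x := by
  classical
  obtain ⟨i, j, l, hij, hil, hjl, rfl⟩ := exists_tc hct
  let U : Subgroup (Perm (Fin r)) :=
    (Subgroup.centralizer ({x} : Set G)).map ((alternatingGroup (Fin r)).subtype.comp π)
  have hcU : tc i j l ∈ U := ⟨x, Subgroup.mem_centralizer_singleton_iff.2 rfl, hx⟩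
  have hdU : ∀ d : Perm (Fin r), IsThreeCycle d → d i = i → d j = j → d l = l → d ∈ U := by
    intro d hd di dj dl
    obtain ⟨a, b, e, hab, hae, hbe, rfl⟩ := exists_tc hd
    obtain ⟨y, hy⟩ := hπ ⟨_, hd.mem_alternatingGroup⟩
    have hyv : (π y : Perm (Fin r)) = tc a b e := by rw [hy]
    have key : ∀ z, tc a b e z = z → z ≠ a ∧ z ≠ b ∧ z ≠ e := fun z hz =>
      ⟨fun h => by subst h; rw [tc_fst hab hae] at hz; exact hab hz.symm,
       fun h => by subst h; rw [tc_snd hae hbe] at hz; exact hbe hz.symm,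
       fun h => by subst h; rw [tc_trd] at hz; exact hae hz⟩
    refine ⟨y, Subgroup.mem_centralizer_singleton_iff.2 ?_, hyv⟩
    exact (commute_disjoint π hπ hc hr hx3 hij hil hjl hx hab hae hbe
      ⟨(key i di).1.symm, (key j dj).1.symm, (key l dl).1.symm⟩ ⟨(key i di).2.1.symm, (key j dj).2.1.symm, (key l dl).2.1.symm⟩
      ⟨(key i di).2.2.symm, (key j dj).2.2.symm, (key l dl).2.2.symm⟩ hyv).eq
  have hfix : ∀ τ : Perm (Fin r), sign τ = 1 → τ i = i → τ j = j → τ l = l → τ ∈ U := by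
    intro τ hτ ti tj tl
    let P : Fin r → Prop := fun z => z ≠ i ∧ z ≠ j ∧ z ≠ l
    have hmem : ∀ z, P (τ z) ↔ P z := fun z => by
      simp only [P]
      rw [← τ.injective.ne_iff (x := z) (y := i), ← τ.injective.ne_iff (x := z) (y := j),
        ← τ.injective.ne_iff (x := z) (y := l), ti, tj, tl]
    have hsupp : ∀ z, τ z ≠ z → P z := fun z hz =>
      ⟨fun h => hz (by rw [h]; exact ti), fun h => hz (by rw [h]; exact tj), fun h => hz (by rw [h]; exact tl)⟩
    have hof : Perm.ofSubtype (τ.subtypePerm hmem) = τ := Equiv.Perm.ofSubtype_subtypePerm hmem hsupp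
    have h1 : τ.subtypePerm hmem ∈ Subgroup.closure {s : Perm {z // P z} | IsThreeCycle s} := by
      rw [closure_three_cycles_eq_alternating, mem_alternatingGroup, ← sign_ofSubtype, hof, hτ]
    have h2 : Perm.ofSubtype (τ.subtypePerm hmem) ∈ U := by
      refine (Subgroup.closure_le (U.comap Perm.ofSubtype)).2 ?_ h1
      intro s hs
      refine hdU _ ?_ ?_ ?_ ?_
      · show (Perm.ofSubtype s).cycleType = {3}
        rw [cycleType_ofSubtype]; exact hs
      · exact Equiv.Perm.ofSubtype_apply_of_not_mem s fun h => h.1 rfl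
      · exact Equiv.Perm.ofSubtype_apply_of_not_mem s fun h => h.2.1 rfl
      · exact Equiv.Perm.ofSubtype_apply_of_not_mem s fun h => h.2.2 rfl
    rwa [hof] at h2
  have hσ : (π a : Perm (Fin r)) ∈ U := by
    have hs : sign (π a : Perm (Fin r)) = 1 := mem_alternatingGroup.1 (π a).2
    have hsc : sign (tc i j l) = 1 := (tc_three hij hil hjl).sign
    generalize (π a : Perm (Fin r)) = σ at ha hs ⊢
    have hsupp : ∀ z, tc i j l z ≠ z → z = i ∨ z = j ∨ z = l := fun z hz => by
      by_contra h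
      simp only [not_or] at h
      exact hz (tc_other h.1 h.2.1 h.2.2)
    have happ : ∀ z, tc i j l (σ z) = σ (tc i j l z) := fun z => by
      rw [← Perm.mul_apply, ← ha.eq, Perm.mul_apply]
    have hi : σ i = i ∨ σ i = j ∨ σ i = l := hsupp _ (by
      rw [happ, tc_fst hij hil]; exact σ.injective.ne hij.symm)
    obtain ⟨t, ht, hti⟩ : ∃ t : ℕ, t ≤ 2 ∧ ((tc i j l) ^ t) i = σ i := by
      rcases hi with h | h | h
      · exact ⟨0, by omega, by simp [h]⟩
      · exact ⟨1, by omega, by rw [pow_one, tc_fst hij hil, h]⟩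
      · exact ⟨2, le_rfl, by rw [pow_two, Perm.mul_apply, tc_fst hij hil, tc_snd hil hjl, h]⟩
    set τ := ((tc i j l) ^ t)⁻¹ * σ with hτ
    have hcom : Commute τ (tc i j l) := ((Commute.refl _).pow_left t).inv_left.mul_left ha
    have ti : τ i = i := by rw [hτ, Perm.mul_apply, ← hti, ← Perm.mul_apply, inv_mul_cancel, Perm.one_apply]
    have tj : τ j = j := by
      rw [← tc_fst hij hil, ← Perm.mul_apply, hcom.eq, Perm.mul_apply, ti]
    have tl : τ l = l := by
      rw [← tc_snd hil hjl, ← Perm.mul_apply, hcom.eq, Perm.mul_apply, tj]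
    have := hfix τ (by rw [hτ, map_mul, map_inv, map_pow, hsc, hs]; simp) ti tj tl
    have h3 : σ = (tc i j l) ^ t * τ := by rw [hτ, mul_inv_cancel_left]
    rw [h3]
    exact mul_mem (pow_mem hcU t) this
  obtain ⟨b, hb, hbe⟩ := hσ
  have hab := central_of_map_eq π hπ hc (Subtype.ext hbe : π b = π a)
  have hbx : Commute b x := Subgroup.mem_centralizer_singleton_iff.1 hb
  have := hbx.mul_left (show Commute (b⁻¹ * a) x from (hab x).symm)
  rwa [mul_inv_cancel_left] at this

theorem exists_special (hr : 9 ≤ r) {c : Perm (Fin r)} (hct : IsThreeCycle c) : ∃ x, Special π c x := by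
  obtain ⟨σ, hσ, hσc⟩ := exists_even_conj (by rw [Fintype.card_fin]; omega) hct (three_inv hct)
  obtain ⟨g, hg⟩ := hπ ⟨σ, mem_alternatingGroup.2 hσ⟩
  have hgv : (π g : Perm (Fin r)) = σ := by rw [hg]
  obtain ⟨x0, hx0⟩ := hπ ⟨c, hct.mem_alternatingGroup⟩
  have hxv : (π x0 : Perm (Fin r)) = c := by rw [hx0]
  have hgx : π x0⁻¹ = π (g * x0 * g⁻¹) := Subtype.ext (by
    rw [map_mul, map_mul, map_inv, map_inv, Subgroup.coe_mul, Subgroup.coe_mul, Subgroup.coe_inv, Subgroup.coe_inv,
      hxv, hgv, hσc])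
  set w : G := (x0⁻¹)⁻¹ * (g * x0 * g⁻¹) with hw
  have hwc : w ∈ Subgroup.center G := hc (by
    rw [hw, MonoidHom.mem_ker, map_mul, map_inv, ← hgx, inv_mul_cancel])
  have hzc : x0 ^ 3 ∈ Subgroup.center G := hc (by
    rw [MonoidHom.mem_ker]; apply Subtype.ext
    rw [map_pow, SubgroupClass.coe_pow, hxv, ← hct.orderOf, pow_orderOf_eq_one]; rfl)
  have e1 : g * x0 * g⁻¹ = x0⁻¹ * w := by rw [hw]; group
  have C : ∀ {z : G}, z ∈ Subgroup.center G → ∀ y, Commute z y := fun hz y => (Subgroup.mem_center_iff.1 hz y).symm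
  set z := x0 ^ 3 with hz
  have hw3 : w ^ 3 = z ^ 2 := by
    have h := congrArg (fun y => y ^ 3) e1
    simp only [conj_pow, (C hwc x0⁻¹).symm.mul_pow, inv_pow, ← hz] at h
    rw [← (C hzc g).eq, mul_inv_cancel_right] at h
    rw [pow_two]
    nth_rewrite 2 [h]
    rw [mul_inv_cancel_left]
  set s := w ^ 2 * z⁻¹ with hs
  have hsc : s ∈ Subgroup.center G := mul_mem (pow_mem hwc 2) (inv_mem hzc)
  have hs3 : s ^ 3 = z := by
    rw [hs, (C (pow_mem hwc 2) z⁻¹).mul_pow, ← pow_mul, show 2 * 3 = 3 * 2 from rfl, pow_mul, hw3, ← pow_mul,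
      inv_pow, ← div_eq_mul_inv, div_eq_iff_eq_mul, ← pow_succ']
  clear_value s
  set x1 := x0 * s⁻¹ with hx1
  have h13 : x1 ^ 3 = 1 := by
    rw [hx1, (C (inv_mem hsc) x0).symm.mul_pow, inv_pow, hs3, ← hz, mul_inv_cancel]
  set w' := w * (s⁻¹ * s⁻¹) with hw'
  have hw'c : w' ∈ Subgroup.center G := mul_mem hwc (mul_mem (inv_mem hsc) (inv_mem hsc))
  have hw'3 : w' ^ 3 = 1 := by
    rw [hw', (C hwc _).mul_pow, (Commute.refl s⁻¹).mul_pow, inv_pow, hs3, hw3, pow_two, ← mul_inv_rev, mul_inv_cancel]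
  have hconj : ∀ y, y ∈ Subgroup.center G → g * y * g⁻¹ = y := fun y hy => by
    rw [← (C hy g).eq, mul_inv_cancel_right]
  clear_value x1 w'
  clear_value w
  have e2 : g * x1 * g⁻¹ = x1⁻¹ * w' := by
    rw [hx1, show g * (x0 * s⁻¹) * g⁻¹ = (g * x0 * g⁻¹) * (g * s⁻¹ * g⁻¹) from by group, e1, hconj _ (inv_mem hsc),
      hw', mul_inv_rev, inv_inv, (C hsc x0⁻¹).eq, mul_assoc x0⁻¹ w, (C hwc s⁻¹).eq, (C hwc (s⁻¹ * s⁻¹)).eq]
    group
  have hw'2 : w' * w' = w'⁻¹ := eq_inv_of_mul_eq_one_left (by rw [← hw'3, pow_three, mul_assoc])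
  have hker : ∀ y, y ∈ Subgroup.center G → π y = 1 := fun y hy => by
    haveI := alt_simple hr
    have hmem : π y ∈ Subgroup.center ↥(alternatingGroup (Fin r)) := Subgroup.mem_center_iff.2 fun b => by
      obtain ⟨b, rfl⟩ := hπ b
      rw [← map_mul, ← map_mul, Subgroup.mem_center_iff.1 hy b]
    rcases (inferInstance : (Subgroup.center ↥(alternatingGroup (Fin r))).Normal).eq_bot_or_eq_top with h | h
    · rw [h] at hmem; exact Subgroup.mem_bot.1 hmem
    · exact absurd (fun a b => (Subgroup.mem_center_iff.1 (h ▸ Subgroup.mem_top b) a)) (alt_not_comm hr)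
  refine ⟨x1 * w', ?_, ?_, g, ?_⟩
  · rw [map_mul, hker _ hw'c, mul_one, hx1, map_mul, hker _ (inv_mem hsc), mul_one, hxv]
  · rw [(C hw'c x1).symm.mul_pow, h13, hw'3, one_mul]
  · rw [show g * (x1 * w') * g⁻¹ = (g * x1 * g⁻¹) * (g * w' * g⁻¹) from by group, e2, hconj _ hw'c, mul_assoc, hw'2,
      mul_inv_rev, ((C hw'c x1).inv_inv).eq]

theorem special_unique (hr : 9 ≤ r) {c : Perm (Fin r)} (hct : IsThreeCycle c) {x y : G}
    (hx : Special π c x) (hy : Special π c y) : x = y := by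
  obtain ⟨hxc, hx3, h, hh⟩ := hx
  obtain ⟨hyc, hy3, g, hg⟩ := hy
  have hw := central_of_map_eq π hπ hc (Subtype.ext (hxc.trans hyc.symm) : π x = π y)
  have hyw : y = x * (x⁻¹ * y) := by group
  generalize x⁻¹ * y = w at hw hyw
  subst hyw
  have hw3 : w ^ 3 = 1 := by rwa [(show Commute x w from hw x).mul_pow, hx3, one_mul] at hy3
  have key : Commute (h⁻¹ * g) x := by
    refine commute_of_proj π hπ hc hr hct hx3 hxc ?_
    have f1 : (π h : Perm (Fin r)) * c * (π h : Perm (Fin r))⁻¹ = c⁻¹ := by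
      have := congrArg (fun z => (π z : Perm (Fin r))) hh
      simpa [hxc] using this
    have f2 : (π g : Perm (Fin r)) * c * (π g : Perm (Fin r))⁻¹ = c⁻¹ := by
      have := congrArg (fun z => (π z : Perm (Fin r))) hg
      rw [map_mul, map_mul, map_inv, map_inv, Subgroup.coe_mul, Subgroup.coe_mul, Subgroup.coe_inv, Subgroup.coe_inv, hyc] at this
      exact this
    rw [map_mul, map_inv, Subgroup.coe_mul, Subgroup.coe_inv]
    show _ * c = c * _
    have : c⁻¹ * (π g : Perm (Fin r)) = (π h : Perm (Fin r)) * c * ((π h : Perm (Fin r))⁻¹ * (π g : Perm (Fin r))) := by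
      rw [← mul_assoc, f1]
    rw [← mul_inv_eq_iff_eq_mul.1 f2] at this
    calc (π h : Perm (Fin r))⁻¹ * (π g : Perm (Fin r)) * c = (π h : Perm (Fin r))⁻¹ * ((π g : Perm (Fin r)) * c) := mul_assoc _ _ _
      _ = (π h : Perm (Fin r))⁻¹ * ((π h : Perm (Fin r)) * c * ((π h : Perm (Fin r))⁻¹ * (π g : Perm (Fin r)))) := by rw [this]
      _ = c * ((π h : Perm (Fin r))⁻¹ * (π g : Perm (Fin r))) := by group
  have hgx : g * x * g⁻¹ = h * x * h⁻¹ := by
    rw [show g = h * (h⁻¹ * g) from by group, mul_assoc h, key.eq]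
    group
  rw [show g * (x * w) * g⁻¹ = (g * x * g⁻¹) * (g * w * g⁻¹) from by group, hgx, hh, hw g, mul_inv_cancel_right,
    mul_inv_rev, ← (show Commute x w from hw x).inv_inv.eq] at hg
  have hw1 : w = 1 := by
    have e : w = w⁻¹ := mul_left_cancel hg
    have : w * w = 1 := by nth_rewrite 2 [e]; exact mul_inv_cancel w
    rw [pow_three, this, mul_one] at hw3; exact hw3
  rw [hw1, mul_one]

end Special

section Rep

variable {k V : Type*} [Field k] [IsAlgClosed k] [AddCommGroup V] [Module k V] [FiniteDimensional k V]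
variable {G : Type*} [Group G] [Finite G] (ρ : G →* (V ≃ₗ[k] V)) (π : G →* ↥(alternatingGroup (Fin r)))
  (hπ : Function.Surjective π)

include hπ

/-- A central extension with a faithful representation gives a system. -/
theorem exists_sys (hc : π.ker ≤ Subgroup.center G) (hr : 9 ≤ r) (hρ : Function.Injective ρ) :
    ∃ X : Perm (Fin r) → (V ≃ₗ[k] V), Sys X ∧ NonTriv X := by
  classical
  choose x hx using fun c : {c : Perm (Fin r) // IsThreeCycle c} => exists_special π hπ hc hr c.2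
  refine ⟨fun c => if h : IsThreeCycle c then ρ (x ⟨c, h⟩) else 1, ⟨fun c h => ?_, fun c h => ?_, fun c d h h' => ?_⟩, ?_⟩
  · simp only [dif_pos h]
    rw [← map_pow, (hx ⟨c, h⟩).2.1, map_one]
  · simp only [dif_pos h, dif_pos (three_inv h)]
    rw [← map_inv]
    obtain ⟨h1, h2, g, h3⟩ := hx ⟨c, h⟩
    refine congrArg ρ (special_unique π hπ hc hr (three_inv h) (hx _) ⟨?_, ?_, g, ?_⟩)
    · rw [map_inv, Subgroup.coe_inv, h1]
    · rw [inv_pow, h2, inv_one]
    · rw [show g * (x ⟨c, h⟩)⁻¹ * g⁻¹ = (g * x ⟨c, h⟩ * g⁻¹)⁻¹ from by group, h3]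
  · simp only [dif_pos h, dif_pos h', dif_pos (three_conj c h')]
    obtain ⟨h1, -, -⟩ := hx ⟨c, h⟩
    obtain ⟨e1, e2, g, e3⟩ := hx ⟨d, h'⟩
    rw [← map_inv ρ, ← map_mul, ← map_mul]
    refine congrArg ρ (special_unique π hπ hc hr (three_conj c h') (hx _) ⟨?_, ?_, x ⟨c, h⟩ * g * (x ⟨c, h⟩)⁻¹, ?_⟩)
    · rw [map_mul, map_mul, map_inv, Subgroup.coe_mul, Subgroup.coe_mul, Subgroup.coe_inv, h1, e1]
    · rw [conj_pow, e2, mul_one, mul_inv_cancel]
    · generalize x ⟨c, h⟩ = a
      generalize x ⟨d, h'⟩ = b at e3 ⊢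
      rw [show a * g * a⁻¹ * (a * b * a⁻¹) * (a * g * a⁻¹)⁻¹ = a * (g * b * g⁻¹) * a⁻¹ from by group, e3]
      group
  · let i : Fin 3 → Fin r := Fin.castLE (by omega)
    have hi : Function.Injective i := Fin.castLE_injective _
    have h := tc_three (hi.ne (show (0 : Fin 3) ≠ 1 by decide)) (hi.ne (show (0 : Fin 3) ≠ 2 by decide))
      (hi.ne (show (1 : Fin 3) ≠ 2 by decide))
    refine ⟨_, h, fun e => ?_⟩
    simp only [dif_pos h] at e
    have e' : x ⟨_, h⟩ = 1 := hρ (e.trans (map_one ρ).symm)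
    have h1 := (hx ⟨_, h⟩).1
    rw [e', map_one] at h1
    exact h.ne_one h1.symm

omit hπ in
/-- No invariant subspace other than the trivial ones. -/
def Irred : Prop := ∀ P : Submodule k V, (∀ g, ∀ v ∈ P, ρ g v ∈ P) → P = ⊥ ∨ P = ⊤

omit hπ in
theorem scalar_of_commute [Nontrivial V] (hirr : Irred ρ) (g : G) (hg : ∀ x, Commute (ρ g) (ρ x)) :
    ∃ c : k, ∀ v, ρ g v = c • v := by
  obtain ⟨c, hc⟩ := scalar_of_min (Set.range ρ) (⊤ : Submodule k V) top_ne_bot (fun _ _ _ _ => trivial)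
    (fun Q h0 _ hQ => (hirr Q fun x => hQ _ ⟨x, rfl⟩).resolve_left h0) (ρ g) (fun _ _ => trivial)
    (by rintro _ ⟨x, rfl⟩; exact hg x)
  exact ⟨c, fun v => hc v trivial⟩

/-- Abelian normal subgroups are central. -/
theorem abelian_central [Nontrivial V] (hr : 9 ≤ r) (hmin : Minimal π) (hρ : Function.Injective ρ)
    (hirr : Irred ρ) (hd : Module.finrank k V + 2 ≤ r) (A : Subgroup G) [hA : A.Normal]
    (hab : ∀ a ∈ A, ∀ b ∈ A, a * b = b * a) : A ≤ Subgroup.center G := by
  classical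
  let Φ : Set (↥A → k) := {χ | ∃ v : V, v ≠ 0 ∧ ∀ a : A, ρ (a : G) v = χ a • v}
  have hcard : ∀ s : Finset (↥A → k), (∀ χ ∈ s, χ ∈ Φ) → s.card ≤ Module.finrank k V := by
    intro s hs
    choose v hv0 hv using fun χ : {χ // χ ∈ s} => hs χ χ.2
    have hli := indep_of_eigen v hv0 (fun a : A => (ρ (a : G)).toLinearMap) (fun χ a => χ.1 a) hv
      (fun χ χ' hne => by
        by_contra hc
        simp only [not_exists, not_not] at hc
        exact hne (Subtype.ext (funext hc)))
    have := hli.fintype_card_le_finrank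
    rwa [Fintype.card_coe] at this
  have hfin : Φ.Finite := by
    by_contra h
    obtain ⟨s, hs, hsc⟩ := Set.Infinite.exists_subset_card_eq h (Module.finrank k V + 1)
    have := hcard s hs
    omega
  haveI : Finite ↥Φ := hfin.to_subtype
  have hΦc : Nat.card ↥Φ ≤ Module.finrank k V := by
    rw [Nat.card_coe_set_eq, Set.ncard_eq_toFinset_card _ hfin]
    exact hcard _ fun χ hχ => (Set.Finite.mem_toFinset hfin).1 hχ
  have hmem : ∀ (g : G) (χ : ↥Φ), (fun a : A => χ.1 ⟨g⁻¹ * a * g, by simpa using hA.conj_mem a.1 a.2 g⁻¹⟩) ∈ Φ := by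
    rintro g ⟨χ, v, hv0, hv⟩
    refine ⟨ρ g v, (LinearEquiv.map_ne_zero_iff _).2 hv0, fun a => ?_⟩
    have h1 := hv ⟨g⁻¹ * a * g, by simpa using hA.conj_mem a.1 a.2 g⁻¹⟩
    simp only [map_mul, map_inv, mul_apply] at h1
    have h2 := congrArg (ρ g) h1
    rw [self_apply_inv, map_smul] at h2
    exact h2
  let act : G → ↥Φ → ↥Φ := fun g χ => ⟨_, hmem g χ⟩
  have act_apply : ∀ g χ (a : A), (act g χ).1 a = χ.1 ⟨g⁻¹ * a * g, by simpa using hA.conj_mem a.1 a.2 g⁻¹⟩ :=
    fun _ _ _ => rfl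
  letI : MulAction G ↥Φ :=
    { smul := act
      one_smul := fun χ => Subtype.ext (funext fun a => by
        show (act 1 χ).1 a = χ.1 a
        rw [act_apply]
        exact congrArg χ.1 (Subtype.ext (show (1 : G)⁻¹ * (a : G) * 1 = a by group)))
      mul_smul := fun g h χ => Subtype.ext (funext fun a => by
        show (act (g * h) χ).1 a = (act g (act h χ)).1 a
        rw [act_apply, act_apply, act_apply]
        exact congrArg χ.1 (Subtype.ext (show (g * h)⁻¹ * (a : G) * (g * h) = h⁻¹ * (g⁻¹ * a * g) * h by group))) }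
  have hker : (MulAction.toPermHom G ↥Φ).ker = ⊤ := by
    by_contra h
    have hle := normal_le_ker π hπ hr hmin h
    have h1 : π.ker.index = Nat.card ↥(alternatingGroup (Fin r)) := by
      rw [Subgroup.index_ker, MonoidHom.range_eq_top.2 hπ, Subgroup.card_top]
    have h2 : (MulAction.toPermHom G ↥Φ).ker.index ≤ (Nat.card ↥Φ).factorial := by
      rw [Subgroup.index_ker, ← Nat.card_perm]
      exact Subgroup.card_le_card_group _
    have h3 := Nat.le_of_dvd (Nat.pos_of_ne_zero Subgroup.index_ne_zero_of_finite) (Subgroup.index_dvd_of_le hle)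
    rw [h1] at h3
    have h4 : (Nat.card ↥Φ).factorial ≤ (r - 2).factorial := Nat.factorial_le (by omega)
    have h5 : 2 * Nat.card ↥(alternatingGroup (Fin r)) = r.factorial := by
      haveI : Nontrivial (Fin r) := Fin.nontrivial_iff_two_le.2 (by omega)
      rw [Nat.card_eq_fintype_card, two_mul_card_alternatingGroup, Fintype.card_perm, Fintype.card_fin]
    obtain ⟨r', rfl⟩ : ∃ r', r = r' + 2 := ⟨r - 2, by omega⟩
    rw [Nat.add_sub_cancel] at h4
    rw [show (r' + 2).factorial = (r' + 2) * ((r' + 1) * r'.factorial) from by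
      rw [Nat.factorial_succ, Nat.factorial_succ]] at h5
    have h6 := Nat.factorial_pos r'
    nlinarith [Nat.mul_le_mul (show 7 ≤ r' + 2 by omega) (show 1 ≤ r' + 1 by omega)]
  obtain ⟨P, hP0, hPinv, hPmin⟩ := exists_min (k := k) (V := V) (ρ '' (A : Set G))
  have hsc : ∀ a : A, ∃ c : k, ∀ v ∈ P, ρ (a : G) v = c • v := fun a =>
    scalar_of_min _ P hP0 hPinv hPmin _ (hPinv _ ⟨a, a.2, rfl⟩) (by
      rintro _ ⟨b, hb, rfl⟩
      show _ * _ = _ * _
      rw [← map_mul, ← map_mul, hab _ a.2 _ hb])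
  choose χ hχ using hsc
  obtain ⟨v0, hv0P, hv0⟩ := Submodule.exists_mem_ne_zero_of_ne_bot hP0
  have hχΦ : χ ∈ Φ := ⟨v0, hv0, fun a => hχ a v0 hv0P⟩
  let W : Submodule k V := ⨅ a : A, LinearMap.ker ((ρ (a : G)).toLinearMap - χ a • LinearMap.id)
  have hW : ∀ v, v ∈ W ↔ ∀ a : A, ρ (a : G) v = χ a • v := fun v => by
    simp [W, sub_eq_zero]
  have hWinv : ∀ g, ∀ v ∈ W, ρ g v ∈ W := by
    intro g v hv
    refine (hW _).2 fun a => ?_
    have hfix : (act g ⟨χ, hχΦ⟩).1 a = χ a := by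
      have h : g ∈ (MulAction.toPermHom G ↥Φ).ker := hker ▸ Subgroup.mem_top g
      have h' := congrArg (fun σ : Perm ↥Φ => (σ ⟨χ, hχΦ⟩).1 a) (MonoidHom.mem_ker.1 h)
      exact h'
    rw [act_apply] at hfix
    have h1 := (hW v).1 hv ⟨g⁻¹ * a * g, by simpa using hA.conj_mem a.1 a.2 g⁻¹⟩
    replace h1 : ρ (g⁻¹ * a * g) v = χ a • v := h1.trans (congrArg (· • v) hfix)
    simp only [map_mul, map_inv, mul_apply] at h1
    have h2 := congrArg (ρ g) h1
    rw [self_apply_inv, map_smul] at h2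
    exact h2
  have hWtop : W = ⊤ := (hirr W hWinv).resolve_left fun h =>
    hv0 ((Submodule.mem_bot k).1 (h ▸ (hW v0).2 fun a => hχ a v0 hv0P))
  intro a ha
  refine Subgroup.mem_center_iff.2 fun g => hρ ?_
  have hs : ∀ v, ρ a v = χ ⟨a, ha⟩ • v := fun v => (hW v).1 (hWtop ▸ Submodule.mem_top) ⟨a, ha⟩
  rw [map_mul, map_mul]
  ext v
  simp only [mul_apply, hs, map_smul]

omit hπ in
/-- The kernel of the map to the alternating group is central. -/
theorem ker_central_of {G : Type} [Group G] [Finite G] (ρ : G →* (V ≃ₗ[k] V))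
    (π : G →* ↥(alternatingGroup (Fin r))) (hπ : Function.Surjective π) [Nontrivial V] (hr : 9 ≤ r) (hmin : Minimal π) (hρ : Function.Injective ρ)
    (hirr : Irred ρ) (hd : Module.finrank k V + 2 ≤ r)
    (hmod : ∀ (l : ℕ) [Fact l.Prime] (W : Type) [Group W] (D : ℕ) (_ : Nat.card W = l ^ D)
      (_ : ∀ a b : W, a * b = b * a) (_ : ∀ a : W, a ^ l = 1)
      (f : ↥(alternatingGroup (Fin r)) →* MulAut W), (∃ a, f a ≠ 1) → r - 2 ≤ D) :
    π.ker ≤ Subgroup.center G := by
  classical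
  set Z := Subgroup.center G with hZ
  by_contra hcon
  have hZker : Z ≤ π.ker := normal_le_ker π hπ hr hmin fun h => not_comm π hπ hr fun a b =>
    (Subgroup.mem_center_iff.1 (h ▸ Subgroup.mem_top b : b ∈ Z) a)
  let q := QuotientGroup.mk' Z
  have hqker : q.ker = Z := QuotientGroup.ker_mk' Z
  let K : Subgroup (G ⧸ Z) := π.ker.map q
  haveI hKn : K.Normal := (inferInstance : π.ker.Normal).map q (QuotientGroup.mk'_surjective Z)
  haveI := ker_nilpotent π hπ hmin
  haveI : Group.IsNilpotent ↥K :=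
    Group.nilpotent_of_surjective (q.subgroupMap π.ker) (q.subgroupMap_surjective π.ker)
  haveI hKnt : Nontrivial ↥K := (Subgroup.nontrivial_iff_ne_bot K).2 fun h => hcon (by
    rwa [Subgroup.map_eq_bot_iff, hqker] at h)
  let C : Subgroup (G ⧸ Z) := K ⊓ Subgroup.centralizer (K : Set (G ⧸ Z))
  have hC0 : C ≠ ⊥ := by
    haveI : Nontrivial (Subgroup.center ↥K) := (Subgroup.nontrivial_iff_ne_bot _).2 (Group.IsNilpotent.center_ne_bot _)
    obtain ⟨⟨z, hz⟩, hz1⟩ := exists_ne (1 : Subgroup.center ↥K)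
    intro h
    refine hz1 (Subtype.ext (Subtype.ext ((Subgroup.mem_bot).1 (h ▸ (⟨z.2, fun x hx => ?_⟩ : (z : G ⧸ Z) ∈ C)))))
    exact congrArg Subtype.val (Subgroup.mem_center_iff.1 hz ⟨x, hx⟩)
  obtain ⟨l, hl, hlC⟩ := Nat.exists_prime_and_dvd
    (show Nat.card ↥C ≠ 1 from fun h => hC0 (Subgroup.card_eq_one.1 h))
  haveI : Fact l.Prime := ⟨hl⟩
  let M : Subgroup (G ⧸ Z) :=
    { carrier := {y | y ∈ C ∧ y ^ l = 1}
      one_mem' := ⟨one_mem _, one_pow _⟩
      mul_mem' := fun {a b} ha hb => ⟨mul_mem ha.1 hb.1, by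
        rw [(show Commute a b from (Subgroup.mem_centralizer_iff.1 hb.1.2 a ha.1.1)).mul_pow, ha.2, hb.2, one_mul]⟩
      inv_mem' := fun {a} ha => ⟨inv_mem ha.1, by rw [inv_pow, ha.2, inv_one]⟩ }
  haveI hMn : M.Normal := ⟨fun y hy g => ⟨(inferInstance : C.Normal).conj_mem y hy.1 g, by
    rw [conj_pow, hy.2, mul_one, mul_inv_cancel]⟩⟩
  have hMab : ∀ a b : ↥M, a * b = b * a := fun a b =>
    Subtype.ext (Subgroup.mem_centralizer_iff.1 b.2.1.2 a a.2.1.1)
  have hMl : ∀ a : ↥M, a ^ l = 1 := fun a => Subtype.ext (by rw [SubgroupClass.coe_pow]; exact a.2.2)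
  obtain ⟨D, hD⟩ := (IsPGroup.iff_card (p := l)).1 (show IsPGroup l ↥M from fun a => ⟨1, by rw [pow_one]; exact hMl a⟩)
  let Mp : Subgroup G := M.comap q
  haveI hMpn : Mp.Normal := hMn.comap q
  have hMpker : Mp ≤ π.ker := fun x hx => by
    have : x ∈ K.comap q := hx.1.1
    rwa [Subgroup.comap_map_eq, hqker, sup_eq_left.2 hZker] at this
  have hZM : ∀ x ∈ Mp, (∀ y ∈ Mp, x * y = y * x) → x ∈ Z := by
    intro x hx hxy
    exact abelian_central ρ π hπ hr hmin hρ hirr hd (Mp ⊓ Subgroup.centralizer (Mp : Set G))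
      (fun a ha b hb => Subgroup.mem_centralizer_iff.1 hb.2 a ha.1) ⟨hx, fun y hy => (hxy y hy).symm⟩
  -- linear independence of the operators of a transversal
  choose sec hsec using fun y : ↥M => QuotientGroup.mk'_surjective Z (y : G ⧸ Z)
  have hsecM : ∀ y, sec y ∈ Mp := fun y => by
    show q (sec y) ∈ M
    rw [show q (sec y) = (y : G ⧸ Z) from hsec y]; exact y.2
  have hcom : ∀ (y : ↥M) (m : ↥Mp), (m : G) * sec y * (m : G)⁻¹ * (sec y)⁻¹ ∈ Z := by
    intro y m
    rw [← QuotientGroup.eq_one_iff]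
    have h := congrArg Subtype.val (hMab ⟨q (m : G), m.2⟩ y)
    simp only [Subgroup.coe_mul] at h
    rw [show (y : G ⧸ Z) = q (sec y) from (hsec y).symm] at h
    show q _ = 1
    simp only [map_mul, map_inv]
    rw [show q (m : G) * q (sec y) = q (sec y) * q (m : G) from h]
    group
  have hscal : ∀ z, z ∈ Z → ∃ c : k, ∀ v, ρ z v = c • v := fun z hz =>
    scalar_of_commute ρ hirr z fun x => by
      show _ * _ = _ * _
      rw [← map_mul, ← map_mul, Subgroup.mem_center_iff.1 hz x]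
  choose ch hch using fun (y : ↥M) (m : ↥Mp) => hscal _ (hcom y m)
  let v : ↥M → Module.End k V := fun y => (ρ (sec y)).toLinearMap
  let T : ↥Mp → Module.End k V →ₗ[k] Module.End k V := fun m =>
    (LinearMap.mulLeft k (ρ (m : G)).toLinearMap).comp (LinearMap.mulRight k (ρ (m : G)⁻¹).toLinearMap)
  haveI : Fintype ↥M := Fintype.ofFinite _
  have hli : LinearIndependent k v := by
    refine indep_of_eigen v (fun y h => ?_) T ch (fun y m => ?_) (fun y y' hne => ?_)
    · obtain ⟨w, hw⟩ := exists_ne (0 : V)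
      exact hw ((ρ (sec y)).map_eq_zero_iff.1 (LinearMap.congr_fun h w))
    · ext w
      show ρ (m : G) (ρ (sec y) (ρ (m : G)⁻¹ w)) = ch y m • ρ (sec y) w
      rw [← hch y m, ← mul_apply, ← mul_apply, ← map_mul, ← map_mul, ← mul_apply, ← map_mul]
      congr 2; group
    · by_contra hall
      simp only [not_exists, not_not] at hall
      apply hne
      apply Subtype.ext
      rw [← hsec y, ← hsec y']
      show (QuotientGroup.mk (sec y) : G ⧸ Z) = QuotientGroup.mk (sec y')
      rw [QuotientGroup.eq]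
      refine hZM _ (mul_mem (inv_mem (hsecM y)) (hsecM y')) fun m hm => ?_
      have he : m * sec y * m⁻¹ * (sec y)⁻¹ = m * sec y' * m⁻¹ * (sec y')⁻¹ := hρ (by
        ext w; rw [hch y ⟨m, hm⟩, hch y' ⟨m, hm⟩, hall ⟨m, hm⟩])
      have hc' : ∀ g, g * (m * sec y * m⁻¹ * (sec y)⁻¹) = (m * sec y * m⁻¹ * (sec y)⁻¹) * g :=
        Subgroup.mem_center_iff.1 (hcom y ⟨m, hm⟩)
      generalize sec y = a at he hc' ⊢
      generalize sec y' = b at he ⊢
      have e1 : m * a * m⁻¹ = (m * a * m⁻¹ * a⁻¹) * a := by group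
      have e2 : m * b * m⁻¹ = (m * a * m⁻¹ * a⁻¹) * b := by rw [he]; group
      generalize m * a * m⁻¹ * a⁻¹ = z at e1 e2 hc'
      have e3 : m * (a⁻¹ * b) * m⁻¹ = a⁻¹ * b := by
        rw [show m * (a⁻¹ * b) * m⁻¹ = (m * a * m⁻¹)⁻¹ * (m * b * m⁻¹) from by group, e1, e2, mul_inv_rev,
          mul_assoc, inv_mul_cancel_left]
      exact (mul_inv_eq_iff_eq_mul.1 e3).symm
  have hle : l ^ D ≤ Module.finrank k V * Module.finrank k V := by
    have := hli.fintype_card_le_finrank
    rwa [← Nat.card_eq_fintype_card, hD, Module.finrank_linearMap] at this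
  -- the action of the alternating group on `M`
  let f0 : G →* MulAut ↥M := MulAut.conjNormal.comp q
  have hf0 : π.ker ≤ f0.ker := by
    intro x hx
    rw [MonoidHom.mem_ker]
    ext y
    show q x * (y : G ⧸ Z) * (q x)⁻¹ = y
    rw [Subgroup.mem_centralizer_iff.1 y.2.1.2 (q x) ⟨x, hx, rfl⟩, mul_inv_cancel_right]
  let f : ↥(alternatingGroup (Fin r)) →* MulAut ↥M :=
    (QuotientGroup.lift π.ker f0 hf0).comp (QuotientGroup.quotientKerEquivOfSurjective π hπ).symm.toMonoidHom
  have hf : ∀ g, f (π g) = f0 g := fun g => by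
    have : (QuotientGroup.quotientKerEquivOfSurjective π hπ).symm (π g) = QuotientGroup.mk g :=
      (MulEquiv.symm_apply_eq _).2 rfl
    simp [f, this]
  have hnt : ∃ a, f a ≠ 1 := by
    by_contra hall
    simp only [not_exists, not_not] at hall
    -- then every element of `Mp` is central
    have hMc : ∀ m ∈ Mp, m ∈ Z := by
      intro m hm
      have hcz : ∀ g : G, g * m * g⁻¹ * m⁻¹ ∈ Z := fun g => by
        rw [← QuotientGroup.eq_one_iff]
        show q _ = 1
        have := congrArg (fun e : MulAut ↥M => ((e ⟨q m, hm⟩ : ↥M) : G ⧸ Z)) ((hf g).symm.trans (hall _))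
        simp only [map_mul, map_inv]
        rw [show q g * q m * (q g)⁻¹ = q m from this, mul_inv_cancel]
      let ψ : G →* ↥Z := MonoidHom.mk' (fun g => ⟨g * m * g⁻¹ * m⁻¹, hcz g⟩) fun a b => Subtype.ext (by
        show a * b * m * (a * b)⁻¹ * m⁻¹ = (a * m * a⁻¹ * m⁻¹) * (b * m * b⁻¹ * m⁻¹)
        rw [show a * b * m * (a * b)⁻¹ * m⁻¹ = a * (b * m * b⁻¹ * m⁻¹) * (m * a⁻¹ * m⁻¹) from by group,
          Subgroup.mem_center_iff.1 (hcz b) a, mul_assoc, ← Subgroup.mem_center_iff.1 (hcz b)]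
        group)
      refine Subgroup.mem_center_iff.2 fun g => ?_
      have := congrArg Subtype.val (hom_trivial π hπ hr hmin ψ
        (fun a b => Subtype.ext (Subgroup.mem_center_iff.1 (ψ b).2 _)) g)
      exact mul_inv_eq_iff_eq_mul.1 (mul_inv_eq_one.1 this)
    obtain ⟨y, hy⟩ := exists_prime_orderOf_dvd_card' l hlC
    have hyM : (y : G ⧸ Z) ∈ M := ⟨y.2, by rw [← SubgroupClass.coe_pow, ← hy, pow_orderOf_eq_one]; rfl⟩
    obtain ⟨x, hx⟩ := QuotientGroup.mk'_surjective Z (y : G ⧸ Z)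
    have hxM : x ∈ Mp := by show q x ∈ M; rw [show q x = (y : G ⧸ Z) from hx]; exact hyM
    have hx1 : (y : G ⧸ Z) = 1 := by rw [← hx]; exact (QuotientGroup.eq_one_iff x).2 (hMc x hxM)
    rw [show y = 1 from Subtype.ext hx1, orderOf_one] at hy
    exact hl.one_lt.ne hy
  have hDr := hmod l ↥M D hD hMab hMl f hnt
  have h2 : 2 ^ (r - 2) ≤ l ^ D := (Nat.pow_le_pow_left hl.two_le _).trans (Nat.pow_le_pow_right hl.pos hDr)
  have h3 : ∀ t : ℕ, 5 ≤ t → t * t < 2 ^ t := by
    intro t ht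
    induction t, ht using Nat.le_induction with
    | base => norm_num
    | succ t ht ih =>
      rw [pow_succ]
      nlinarith
  have h4 := h3 (r - 2) (by omega)
  have h5 := Nat.mul_le_mul (show Module.finrank k V ≤ r - 2 by omega) (show Module.finrank k V ≤ r - 2 by omega)
  omega

end Rep

section Main

variable {k : Type} [Field k] [IsAlgClosed k]

/-- The system attached to a homomorphism. -/
theorem exists_sys_of_hom (hr : 9 ≤ r) {V : Type} [AddCommGroup V] [Module k V]
    (ψ : ↥(alternatingGroup (Fin r)) →* (V ≃ₗ[k] V)) (hne : ∃ a, ψ a ≠ 1) :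
    ∃ X : Perm (Fin r) → (V ≃ₗ[k] V), Sys X ∧ NonTriv X := by
  classical
  refine ⟨fun c => if h : IsThreeCycle c then ψ ⟨c, h.mem_alternatingGroup⟩ else 1,
    ⟨fun c h => ?_, fun c h => ?_, fun c d h h' => ?_⟩, ?_⟩
  · simp only [dif_pos h]
    rw [← map_pow, show (⟨c, h.mem_alternatingGroup⟩ : ↥(alternatingGroup (Fin r))) ^ 3 = 1 from Subtype.ext (by
      rw [SubgroupClass.coe_pow]; show c ^ 3 = 1; rw [← h.orderOf, pow_orderOf_eq_one]), map_one]
  · simp only [dif_pos h, dif_pos (three_inv h), ← map_inv]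
    rfl
  · simp only [dif_pos h, dif_pos h', dif_pos (three_conj c h')]
    rw [← map_inv ψ, ← map_mul, ← map_mul]
    rfl
  · by_contra hc
    simp only [NonTriv, not_exists, not_and, not_not] at hc
    obtain ⟨a, ha⟩ := hne
    apply ha
    have h : (a : Perm (Fin r)) ∈ Subgroup.closure {σ : Perm (Fin r) | IsThreeCycle σ} :=
      closure_three_cycles_eq_alternating.ge a.2
    obtain ⟨a', ha', he⟩ : (a : Perm (Fin r)) ∈ ψ.ker.map (alternatingGroup (Fin r)).subtype := by
      refine (Subgroup.closure_le _).2 (fun c hct => ?_) h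
      have := hc c hct
      simp only [dif_pos (show IsThreeCycle c from hct)] at this
      exact ⟨⟨c, IsThreeCycle.mem_alternatingGroup hct⟩, this, rfl⟩
    have ea : a' = a := Subtype.ext he
    subst ea
    exact MonoidHom.mem_ker.1 ha'

/-- Transport of a representation to coordinates. -/
def congrHom {V W : Type} [AddCommGroup V] [Module k V] [AddCommGroup W] [Module k W] (e : V ≃ₗ[k] W) :
    (V ≃ₗ[k] V) →* (W ≃ₗ[k] W) :=
  MonoidHom.mk' (fun f => e.symm.trans (f.trans e)) fun f g => by ext w; simp [mul_apply]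

/-- Automorphisms of a group of exponent `l` as linear maps. -/
def autLin {W : Type} [CommGroup W] (l : ℕ) [Module (ZMod l) (Additive W)] :
    MulAut W →* Module.End (ZMod l) (Additive W) where
  toFun e := (e.toMonoidHom.toAdditive).toZModLinearMap l
  map_one' := LinearMap.ext fun x => rfl
  map_mul' e e' := LinearMap.ext fun x => rfl

theorem bound_linear (hr : 9 ≤ r)
    (hmain : ∀ (q : ℕ) [Fact q.Prime] (k : Type) [Field k] [IsAlgClosed k] [CharP k q] (m : ℕ) (X : Equiv.Perm (Fin r) → ((Fin m → k) ≃ₗ[k] (Fin m → k))), Sys X → NonTriv X → r - 1 - (if q ∣ r then 1 else 0) ≤ m)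
    (l : ℕ) [Fact l.Prime] (W : Type) [CommGroup W] [Finite W] [Module (ZMod l) (Additive W)] (D : ℕ)
    (hD : Nat.card W = l ^ D) (f : ↥(alternatingGroup (Fin r)) →* MulAut W) (hne : ∃ a, f a ≠ 1) : r - 2 ≤ D := by
  classical
  haveI : Fintype (Additive W) := Fintype.ofFinite _
  have hfr : Module.finrank (ZMod l) (Additive W) = D := by
    have h := Module.card_eq_pow_finrank (K := ZMod l) (V := Additive W)
    rw [ZMod.card, ← Nat.card_eq_fintype_card, show Nat.card (Additive W) = Nat.card W from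
      (Nat.card_congr Additive.toMul), hD] at h
    exact (Nat.pow_right_injective (Fact.out : l.Prime).two_le h).symm
  let toLin := autLin (W := W) l
  haveI hfinite : Module.Finite (ZMod l) (Additive W) := Module.Finite.of_finite
  let b : Module.Basis (Fin D) (ZMod l) (Additive W) := (Module.finBasis (ZMod l) (Additive W)).reindex (finCongr hfr)
  let toMat : MulAut W →* Matrix (Fin D) (Fin D) (AlgebraicClosure (ZMod l)) :=
    ((algebraMap (ZMod l) (AlgebraicClosure (ZMod l))).mapMatrix.toMonoidHom.comp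
      (LinearMap.toMatrixAlgEquiv b).toMonoidHom).comp toLin
  let g : MulAut W →* ((Fin D → AlgebraicClosure (ZMod l)) ≃ₗ[AlgebraicClosure (ZMod l)] (Fin D → AlgebraicClosure (ZMod l))) :=
    ((LinearMap.GeneralLinearGroup.generalLinearEquiv _ _).toMonoidHom.comp
      (Matrix.GeneralLinearGroup.toLin).toMonoidHom).comp toMat.toHomUnits
  have hg : Function.Injective g := by
    intro e e' h
    have h1 : toMat e = toMat e' := congrArg Units.val
      ((Matrix.GeneralLinearGroup.toLin).injective ((LinearMap.GeneralLinearGroup.generalLinearEquiv _ _).injective h))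
    have h2 : toLin e = toLin e' := (LinearMap.toMatrixAlgEquiv b).injective
      (Matrix.map_injective (algebraMap (ZMod l) (AlgebraicClosure (ZMod l))).injective h1)
    ext w
    exact congrArg Additive.toMul (LinearMap.congr_fun h2 (Additive.ofMul w))
  obtain ⟨X, hX, hXn⟩ := exists_sys_of_hom hr (g.comp f) (hne.imp fun a ha h => ha (hg (h.trans (map_one g).symm)))
  have := hmain l (AlgebraicClosure (ZMod l)) D X hX hXn
  split_ifs at this <;> omega

theorem bound_of_hom (hr : 9 ≤ r)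
    (hmain : ∀ (q : ℕ) [Fact q.Prime] (k : Type) [Field k] [IsAlgClosed k] [CharP k q] (m : ℕ) (X : Equiv.Perm (Fin r) → ((Fin m → k) ≃ₗ[k] (Fin m → k))), Sys X → NonTriv X → r - 1 - (if q ∣ r then 1 else 0) ≤ m)
    (l : ℕ) [Fact l.Prime] (W : Type) [Group W] (D : ℕ) (hD : Nat.card W = l ^ D)
    (hab : ∀ a b : W, a * b = b * a) (hexp : ∀ a : W, a ^ l = 1)
    (f : ↥(alternatingGroup (Fin r)) →* MulAut W) (hne : ∃ a, f a ≠ 1) : r - 2 ≤ D := by
  classical
  letI : CommGroup W := { (inferInstance : Group W) with mul_comm := hab }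
  haveI : Finite W := Nat.finite_of_card_ne_zero (hD ▸ pow_ne_zero _ (Fact.out : l.Prime).ne_zero)
  exact @bound_linear r hr hmain l _ W _ _ (AddCommGroup.zmodModule fun a => hexp a.toMul) D hD f hne

theorem key (hr : 9 ≤ r)
    (hmain : ∀ (q : ℕ) [Fact q.Prime] (k : Type) [Field k] [IsAlgClosed k] [CharP k q] (m : ℕ) (X : Equiv.Perm (Fin r) → ((Fin m → k) ≃ₗ[k] (Fin m → k))), Sys X → NonTriv X → r - 1 - (if q ∣ r then 1 else 0) ≤ m)
    (p : ℕ) [Fact p.Prime] [CharP k p] :
    ∀ (d : ℕ) (V : Type) [AddCommGroup V] [Module k V] [FiniteDimensional k V], Module.finrank k V = d →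
      ∀ (c : ℕ) (G : Subgroup (V ≃ₗ[k] V)), Finite ↥G → Nat.card ↥G = c →
      ∀ π : ↥G →* ↥(alternatingGroup (Fin r)), Function.Surjective π → r - 1 - (if p ∣ r then 1 else 0) ≤ d := by
  intro d
  induction d using Nat.strong_induction_on with
  | _ d ihd =>
    intro V _ _ _ hV c
    induction c using Nat.strong_induction_on with
    | _ c ihc =>
      intro G hfin hc π hπ
      by_contra hlt
      have hd : Module.finrank k V + 2 ≤ r := by omega
      have hmin : Minimal π := by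
        intro S hS
        by_contra hne
        have hS' : Function.Surjective (π.comp S.subtype) := fun a => by
          obtain ⟨s, hs, rfl⟩ := (hS ▸ Subgroup.mem_top a : a ∈ S.map π)
          exact ⟨⟨s, hs⟩, rfl⟩
        let e := S.equivMapOfInjective G.subtype G.subtype_injective
        haveI : Finite ↥(S.map G.subtype) := Finite.of_equiv _ e.toEquiv
        refine hlt (ihc _ ?_ (S.map G.subtype) inferInstance rfl ((π.comp S.subtype).comp e.symm.toMonoidHom)
          (hS'.comp e.symm.surjective))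
        rw [← hc, Subgroup.card_map_of_injective G.subtype_injective]
        refine lt_of_le_of_ne (Subgroup.card_le_card_group S) fun h => hne (Subgroup.eq_top_of_card_eq S h)
      haveI : Nontrivial V := by
        by_contra hv
        rw [not_nontrivial_iff_subsingleton] at hv
        exact ker_ne_top π hπ hr (Subgroup.eq_top_iff' _ |>.2 fun x => by
          rw [show x = 1 from Subtype.ext (LinearEquiv.ext fun v => Subsingleton.elim _ _)]; exact one_mem _)
      have hirr : Irred G.subtype := by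
        intro P hP
        by_contra hne
        rw [not_or] at hne
        have hgP : ∀ g : ↥G, P.map (g : V ≃ₗ[k] V).toLinearMap = P := fun g =>
          Submodule.eq_of_le_of_finrank_eq (Submodule.map_le_iff_le_comap.2 fun v hv => hP g v hv)
            ((g : V ≃ₗ[k] V).finrank_map_eq P)
        let φ : ↥G →* (P ≃ₗ[k] P) := MonoidHom.mk' (fun g => (g : V ≃ₗ[k] V).ofSubmodules P P (hgP g))
          (fun a b => by ext v; rfl)
        let ψ : ↥G →* ((V ⧸ P) ≃ₗ[k] (V ⧸ P)) := MonoidHom.mk' (fun g => Submodule.Quotient.equiv P P (g : V ≃ₗ[k] V) (hgP g))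
          (fun a b => by
            apply LinearEquiv.toLinearMap_injective
            apply Submodule.linearMap_qext
            ext v; rfl)
        have hP1 : Module.finrank k P < d := hV ▸ Submodule.finrank_lt hne.2
        have hP2 : Module.finrank k (V ⧸ P) < d := by
          have h := P.finrank_quotient_add_finrank
          have h' : Module.finrank k P ≠ 0 := fun h0 => hne.1 (Submodule.finrank_eq_zero.1 h0)
          omega
        by_cases h1 : φ.ker = ⊤
        · by_cases h2 : ψ.ker = ⊤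
          · apply not_comm π hπ hr
            intro a b
            have hs : ∀ (g : ↥G), (∀ v ∈ P, (g : V ≃ₗ[k] V) v = v) ∧ ∀ v, (g : V ≃ₗ[k] V) v - v ∈ P := fun g => by
              constructor
              · intro v hv
                exact congrArg Subtype.val (LinearEquiv.congr_fun
                  (MonoidHom.mem_ker.1 (h1 ▸ Subgroup.mem_top g : g ∈ φ.ker)) ⟨v, hv⟩)
              · intro v
                exact (Submodule.Quotient.eq P).1 (LinearEquiv.congr_fun
                  (MonoidHom.mem_ker.1 (h2 ▸ Subgroup.mem_top g : g ∈ ψ.ker)) (Submodule.Quotient.mk v))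
            refine Subtype.ext (LinearEquiv.ext fun v => ?_)
            have ea := (hs a).1 _ ((hs b).2 v)
            have eb := (hs b).1 _ ((hs a).2 v)
            rw [map_sub] at ea eb
            simp only [Subgroup.coe_mul, mul_apply]
            rw [sub_eq_iff_eq_add] at ea eb
            rw [ea, eb]
            abel
          · obtain ⟨π', hπ'⟩ := descend π hπ ψ (normal_le_ker π hπ hr hmin h2)
            haveI : Finite ↥ψ.range := Finite.of_surjective ψ.rangeRestrict ψ.rangeRestrict_surjective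
            exact hlt ((ihd _ hP2 (V ⧸ P) rfl _ ψ.range inferInstance rfl π' hπ').trans hP2.le)
        · obtain ⟨π', hπ'⟩ := descend π hπ φ (normal_le_ker π hπ hr hmin h1)
          haveI : Finite ↥φ.range := Finite.of_surjective φ.rangeRestrict φ.rangeRestrict_surjective
          exact hlt ((ihd _ hP1 P rfl _ φ.range inferInstance rfl π' hπ').trans hP1.le)
      have hcen := ker_central_of G.subtype π hπ hr hmin G.subtype_injective hirr hd
        (fun l _ W _ D hD hab hexp f hne => bound_of_hom hr hmain l W D hD hab hexp f hne)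
      obtain ⟨X, hX, hXn⟩ := exists_sys
        ((congrHom (LinearEquiv.ofFinrankEq V (Fin d → k) (by rw [hV, Module.finrank_fin_fun]))).comp G.subtype)
        π hπ hcen hr (by
          intro a b h
          apply Subtype.ext
          apply LinearEquiv.ext
          intro v
          have h' := LinearEquiv.congr_fun h ((LinearEquiv.ofFinrankEq V (Fin d → k) (by rw [hV, Module.finrank_fin_fun])) v)
          simpa [congrHom] using h')
      exact hlt (hmain p k d X hX hXn)

end Main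

end Reduce

/-- Alternating sections of finite linear groups reduce to systems on three-cycles. -/
theorem section_bound (r : ℕ) (hr : 9 ≤ r)
    (hmain : ∀ (q : ℕ) [Fact q.Prime] (k : Type) [Field k] [IsAlgClosed k] [CharP k q] (m : ℕ) (X : Equiv.Perm (Fin r) → ((Fin m → k) ≃ₗ[k] (Fin m → k))), Sys X → NonTriv X → r - 1 - (if q ∣ r then 1 else 0) ≤ m)
    {F : Type*} [Field F] [Fintype F] (p : ℕ) [Fact p.Prime] [CharP F p] (n : ℕ) (H : Subgroup (GL (Fin n) F)) (K : Subgroup ↥H) [K.Normal] (h : Nonempty (↥H ⧸ K ≃* ↥(alternatingGroup (Fin r)))) :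
    r - 1 - (if p ∣ r then 1 else 0) ≤ n := by
  obtain ⟨e⟩ := h
  letI := ZMod.algebra F p
  let f : F →ₐ[ZMod p] AlgebraicClosure (ZMod p) := IsAlgClosed.lift
  let φ : ↥H →* ((Fin n → AlgebraicClosure (ZMod p)) ≃ₗ[AlgebraicClosure (ZMod p)] (Fin n → AlgebraicClosure (ZMod p))) :=
    (((LinearMap.GeneralLinearGroup.generalLinearEquiv _ _).toMonoidHom.comp
      (Matrix.GeneralLinearGroup.toLin).toMonoidHom).comp
      (Units.map f.toRingHom.mapMatrix.toMonoidHom)).comp H.subtype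
  have hφ : Function.Injective φ :=
    (((LinearMap.GeneralLinearGroup.generalLinearEquiv _ _).injective.comp
      (Matrix.GeneralLinearGroup.toLin).injective).comp
      (Units.map_injective (Matrix.map_injective f.toRingHom.injective))).comp H.subtype_injective
  obtain ⟨π, hπ⟩ := Reduce.descend (e.toMonoidHom.comp (QuotientGroup.mk' K))
    (e.surjective.comp (QuotientGroup.mk'_surjective K)) φ (by rw [φ.ker_eq_bot_iff.2 hφ]; exact bot_le)
  haveI : Finite ↥H := inferInstance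
  haveI : Finite ↥φ.range := Finite.of_surjective φ.rangeRestrict φ.rangeRestrict_surjective
  exact Reduce.key hr hmain p n _ (Module.finrank_fin_fun _) _ φ.range inferInstance rfl π hπ

end Cfsg.Agent.Lib.AltSectGL
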