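import Cfsg.Agent.Lib.AltSectGL.Small

/-!
Six points, characteristic not three: non-orthogonal systems have degree at least four.
-/

set_option autoImplicit false
set_option linter.unusedSectionVars false

namespace Cfsg.Agent.Lib.AltSectGL

open Equiv Equiv.Perm Module

universe u

variable {α : Type*} [Fintype α] [DecidableEq α] {k : Type*} [Field k] [IsAlgClosed k] {V : Type u}
variable [AddCommGroup V] [Module k V] [FiniteDimensional k V] {X : Perm α → (V ≃ₗ[k] V)}

theorem six_not_II (h3 : (3 : k) ≠ 0) (hn : 6 ≤ Fintype.card α) (hX : Sys X) (hne : NonTriv X) (h : ¬ II X) :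
    4 ≤ finrank k V := by
  simp only [II, not_forall] at h
  obtain ⟨c, d, hc, hd, hcd, v₀, hv₀⟩ := h
  have hB : ∀ s : Finset α, s.card = 3 → Bd.{u} {x // x ∉ s} k 1 := by
    intro s _ W _ _ _ Y _ hY
    by_contra h
    have := (Module.finrank_zero_iff (R := k) (M := W)).1 (by omega)
    obtain ⟨e, _, he⟩ := hY
    exact he (by ext x; exact Subsingleton.elim _ _)
  have hnII : ¬ II X := fun h => hv₀ (h c d hc hd hcd v₀)
  have hrd := double_ne h3 (by omega) hX hnII hB hd
  by_contra hlt
  set g := X c with hgdef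
  set f := X d with hfdef
  have hcm : Commute g f := hX.comm_of_disjoint hc hd hcd
  have h3c : ∀ v, g (g (g v)) = v := fun v => by
    have h0 := congrArg (fun e : V ≃ₗ[k] V => e v) (hX.cube c hc)
    simpa [pow_succ, mul_apply, one_apply] using h0
  have h3d : ∀ v, f (f (f v)) = v := fun v => by
    have h0 := congrArg (fun e : V ≃ₗ[k] V => e v) (hX.cube d hd)
    simpa [pow_succ, mul_apply, one_apply] using h0
  obtain ⟨w, hw⟩ := exists_omega (k := k)
  have hw3 : w ^ 3 = 1 := by linear_combination (w - 1) * hw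
  have hne' : w - w ^ 2 ≠ 0 := fun e => h3 (by grind)
  -- an even permutation inverting both
  obtain ⟨i, j, l, hij, hil, hjl, rfl⟩ := exists_tc hc
  obtain ⟨a, b, m, hab, ham, hbm, rfl⟩ := exists_tc hd
  have hout : ∀ x, x = i ∨ x = j ∨ x = l → x ≠ a ∧ x ≠ b ∧ x ≠ m := by
    intro x hx
    rcases hcd x with h | h
    · rcases hx with rfl | rfl | rfl
      · rw [tc_fst hij hil] at h; exact absurd h hij.symm
      · rw [tc_snd hil hjl] at h; exact absurd h hjl.symm
      · rw [tc_trd] at h; exact absurd h hil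
    · refine ⟨?_, ?_, ?_⟩ <;> rintro rfl
      · rw [tc_fst hab ham] at h; exact hab h.symm
      · rw [tc_snd ham hbm] at h; exact hbm h.symm
      · rw [tc_trd] at h; exact ham h
  obtain ⟨o1, o2, o3⟩ := hout i (Or.inl rfl)
  obtain ⟨o4, o5, o6⟩ := hout j (Or.inr (Or.inl rfl))
  obtain ⟨o7, o8, o9⟩ := hout l (Or.inr (Or.inr rfl))
  set π := swap i j * swap a b with hπ
  have hπs : sign π = 1 := by rw [hπ, map_mul, sign_swap hij, sign_swap hab]; decide
  have e1 : π * tc i j l * π⁻¹ = (tc i j l)⁻¹ := by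
    rw [conj_tc, tc_inv hij hil hjl, hπ]
    simp only [Perm.mul_apply]
    rw [swap_apply_of_ne_of_ne o1 o2, swap_apply_of_ne_of_ne o4 o5, swap_apply_of_ne_of_ne o7 o8, swap_apply_left,
      swap_apply_right, swap_apply_of_ne_of_ne hil.symm hjl.symm, tc_rot hjl.symm hil.symm hij.symm]
  have e2 : π * tc a b m * π⁻¹ = (tc a b m)⁻¹ := by
    rw [conj_tc, tc_inv hab ham hbm, hπ]
    simp only [Perm.mul_apply]
    rw [swap_apply_left, swap_apply_right, swap_apply_of_ne_of_ne ham.symm hbm.symm,
      swap_apply_of_ne_of_ne (Ne.symm o2) (Ne.symm o5), swap_apply_of_ne_of_ne (Ne.symm o1) (Ne.symm o4),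
      swap_apply_of_ne_of_ne (Ne.symm o3) (Ne.symm o6), tc_rot hbm.symm ham.symm hab.symm]
  obtain ⟨t, _, ht⟩ := exists_lift hX hπs
  have hgt : ∀ v, t (g v) = g⁻¹ (t v) := fun v => by
    have h1 := ht _ hc
    rw [e1, hX.inv _ hc, ← hgdef] at h1
    rw [h1]; simp [mul_apply, inv_apply_self]
  have hft : ∀ v, t (f v) = f⁻¹ (t v) := fun v => by
    have h1 := ht _ hd
    rw [e2, hX.inv _ hd, ← hfdef] at h1
    rw [h1]; simp [mul_apply, inv_apply_self]
  set P := eig g w with hP
  set Q := eig g (w ^ 2) with hQ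
  have hPQ : P ⊓ Q = ⊥ := by
    rw [eq_bot_iff]
    rintro x ⟨hx1, hx2⟩
    have := (mem_eig.1 hx1).symm.trans (mem_eig.1 hx2)
    rw [Submodule.mem_bot]
    exact (smul_eq_zero.1 (by rw [sub_smul, this, sub_self] : (w - w ^ 2) • x = 0)).resolve_left hne'
  have htP : ∀ x ∈ P, t x ∈ Q := fun x hx => mem_eig.2 (by
    have h1 := congrArg g (hgt x)
    rw [mem_eig.1 hx, map_smul, self_apply_inv, map_smul] at h1
    calc g (t x) = (w ^ 2 * w) • g (t x) := by rw [show w ^ 2 * w = 1 by rw [← hw3]; ring, one_smul]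
      _ = w ^ 2 • t x := by rw [mul_smul, h1])
  have htQ : ∀ x ∈ Q, t x ∈ P := fun x hx => mem_eig.2 (by
    have h1 := congrArg g (hgt x)
    rw [mem_eig.1 hx, map_smul, self_apply_inv, map_smul] at h1
    calc g (t x) = (w * w ^ 2) • g (t x) := by rw [show w * w ^ 2 = 1 by rw [← hw3]; ring, one_smul]
      _ = w • t x := by rw [mul_smul, h1])
  have hWle : LinearMap.range (N g) ≤ P ⊔ Q := by
    rintro _ ⟨x, rfl⟩
    refine Submodule.mem_sup.2 ⟨(w - w ^ 2)⁻¹ • (g (N g x) - w ^ 2 • N g x), ?_,
      (w - w ^ 2)⁻¹ • (w • N g x - g (N g x)), ?_, ?_⟩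
    · refine Submodule.smul_mem _ _ (mem_eig.2 ?_)
      simp only [N_apply, map_sub, map_smul, h3c]
      match_scalars <;> grind
    · refine Submodule.smul_mem _ _ (mem_eig.2 ?_)
      simp only [N_apply, map_sub, map_smul, h3c]
      match_scalars <;> grind
    · rw [← smul_add, show g (N g x) - w ^ 2 • N g x + (w • N g x - g (N g x)) = (w - w ^ 2) • N g x by
        rw [sub_smul]; abel, smul_smul, inv_mul_cancel₀ hne', one_smul]
  have hrc : 2 ≤ finrank k (LinearMap.range (N g)) := by
    rw [hgdef, finrank_range_N_conj hX (by omega) hc hd]; exact hrd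
  have hd1 := Submodule.finrank_sup_add_finrank_inf_eq P Q
  rw [hPQ, finrank_bot, add_zero] at hd1
  have hd2 := Submodule.finrank_mono hWle
  have hd3 := (P ⊔ Q).finrank_le
  have hPle : finrank k P ≤ finrank k Q := finrank_eig_le_of_map (h := t) fun x hx => mem_eig.1 (htP x (mem_eig.2 hx))
  have hQle : finrank k Q ≤ finrank k P := finrank_eig_le_of_map (h := t) fun x hx => mem_eig.1 (htQ x (mem_eig.2 hx))
  have hP1 : finrank k P = 1 := by omega
  have hQ1 : finrank k Q = 1 := by omega
  obtain ⟨r, hr⟩ := line_scalar hcm hP1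
  obtain ⟨s, hs⟩ := line_scalar hcm hQ1
  obtain ⟨x₁, hx₁, hx₁0⟩ := Submodule.exists_mem_ne_zero_of_ne_bot
    (show P ≠ ⊥ from fun e => by rw [e, finrank_bot] at hP1; omega)
  -- the scalars of the second map are inverse to each other
  have hrs : r * s = 1 := by
    have h1 := congrArg f (hft x₁)
    rw [self_apply_inv, hr x₁ hx₁, map_smul, map_smul, hs _ (htP x₁ hx₁), smul_smul] at h1
    have : (r * s - 1) • t x₁ = 0 := by rw [sub_smul, one_smul, h1, sub_self]
    exact sub_eq_zero.1 ((smul_eq_zero.1 this).resolve_right fun e => hx₁0 (t.injective (by rw [e, map_zero])))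
  have hr3 : r ^ 3 = 1 := by
    have h1 := h3d x₁
    simp only [hr x₁ hx₁, map_smul, smul_smul] at h1
    have : (r ^ 3 - 1) • x₁ = 0 := by rw [sub_smul, one_smul, show r ^ 3 = r * r * r by ring, h1, sub_self]
    exact sub_eq_zero.1 ((smul_eq_zero.1 this).resolve_right hx₁0)
  have hdeq : P ⊔ Q = LinearMap.range (N g) := (Submodule.eq_of_le_of_finrank_le hWle (by omega)).symm
  have hr1 : r ≠ 1 := by
    intro e
    have hs1 : s = 1 := by rwa [e, one_mul] at hrs
    apply hv₀
    obtain ⟨y, hy, z, hz, hyz⟩ := Submodule.mem_sup.1 (hdeq ▸ LinearMap.mem_range_self (N g) v₀)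
    have hcomm : N g (N f v₀) = N f (N g v₀) := by
      simp only [N_apply, map_sub, apply_of_commute hcm]; abel
    rw [hcomm, ← hyz, map_add, N_apply, N_apply, hr y hy, hs z hz, e, hs1, one_smul, one_smul, sub_self, sub_self,
      add_zero]
  have hs1 : s ≠ 1 := fun e => hr1 (by rwa [e, mul_one] at hrs)
  have hrf : finrank k (LinearMap.range (N f)) = finrank k (LinearMap.range (N g)) :=
    finrank_range_N_conj hX (by omega) hd hc
  have hPQf : P ⊔ Q ≤ LinearMap.range (N f) := by
    refine sup_le ?_ ?_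
    · intro x hx
      exact ⟨(r - 1)⁻¹ • x, by rw [map_smul, N_apply, hr x hx]; rw [smul_sub, smul_smul, ← sub_smul, ← mul_sub_one,
        inv_mul_cancel₀ (sub_ne_zero.2 hr1), one_smul]⟩
    · intro x hx
      exact ⟨(s - 1)⁻¹ • x, by rw [map_smul, N_apply, hs x hx]; rw [smul_sub, smul_smul, ← sub_smul, ← mul_sub_one,
        inv_mul_cancel₀ (sub_ne_zero.2 hs1), one_smul]⟩
  have hfeq : LinearMap.range (N f) = P ⊔ Q :=
    (Submodule.eq_of_le_of_finrank_le hPQf (by rw [hrf, hdeq])).symm
  have hfix : ∀ x, g x = x → f x = x := by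
    intro x hx
    have h1 : N f x ∈ LinearMap.range (N g) := hdeq ▸ hfeq ▸ LinearMap.mem_range_self (N f) x
    obtain ⟨y, hy⟩ := h1
    have h2 : g (N f x) = N f x := by simp only [N_apply, map_sub, apply_of_commute hcm, hx]
    have h4 : g (g y - y) = g y - y := by rw [← N_apply, hy, h2]
    rw [map_sub] at h4
    have h5 := congrArg g h4
    rw [map_sub, map_sub, h3c] at h5
    have h6 : (3 : k) • (g y - y) = 0 := by linear_combination (norm := module) (-2 : k) • h4 - h5
    rw [smul_eq_zero] at h6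
    rw [← sub_eq_zero, ← N_apply, ← hy, N_apply]
    exact h6.resolve_left h3
  have hcases : r = w ∨ r = w ^ 2 := by
    rcases mul_eq_zero.1 (show (r - w) * (r - w ^ 2) * (r - 1) = 0 by
      linear_combination hr3 + (r - r ^ 2) * hw + (r - 1) * hw3) with h | h
    · rcases mul_eq_zero.1 h with h | h
      · exact Or.inl (sub_eq_zero.1 h)
      · exact Or.inr (sub_eq_zero.1 h)
    · exact absurd (sub_eq_zero.1 h) hr1
  -- a lift of a nontrivial permutation fixing everything
  have hsup : P ⊔ Q ⊔ LinearMap.ker (N g) = ⊤ := by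
    apply Submodule.eq_top_of_finrank_eq
    have hn' := LinearMap.finrank_range_add_finrank_ker (N g)
    have hinf : (P ⊔ Q) ⊓ LinearMap.ker (N g) = ⊥ := by
      rw [eq_bot_iff]
      rintro x ⟨hx1, hx2⟩
      rw [hdeq] at hx1
      obtain ⟨y, rfl⟩ := hx1
      rw [SetLike.mem_coe, LinearMap.mem_ker, N_apply, N_apply, map_sub] at hx2
      have h5 := congrArg g hx2
      simp only [map_sub, map_zero, h3c] at h5
      rw [Submodule.mem_bot, N_apply]
      have h6 : (3 : k) • (g y - y) = 0 := by linear_combination (norm := module) (-2 : k) • hx2 - h5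
      exact (smul_eq_zero.1 h6).resolve_left h3
    have := Submodule.finrank_sup_add_finrank_inf_eq (P ⊔ Q) (LinearMap.ker (N g))
    rw [hinf, finrank_bot, add_zero, hdeq] at this
    rw [hdeq]; omega
  have key : ∀ (h : V ≃ₗ[k] V), (∀ x ∈ P, h x = x) → (∀ x ∈ Q, h x = x) → (∀ x, g x = x → h x = x) → h = 1 := by
    intro h h1 h2 h3'
    ext v
    obtain ⟨p, hp, z, hz, rfl⟩ := Submodule.mem_sup.1 (hsup ▸ Submodule.mem_top : v ∈ P ⊔ Q ⊔ LinearMap.ker (N g))
    obtain ⟨y, hy, y', hy', rfl⟩ := Submodule.mem_sup.1 hp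
    rw [one_apply, map_add, map_add, h1 y hy, h2 y' hy', h3' z (sub_eq_zero.1 (LinearMap.mem_ker.1 hz))]
  have hlc : Lifts X (tc i j l) g := fun e he => hX.conj _ e hc he
  have hld : Lifts X (tc a b m) f := fun e he => hX.conj _ e hd he
  have hw0 : w ≠ 0 := fun e => by rw [e] at hw3; simp at hw3
  have hs0 : s ≠ 0 := fun e => by rw [e, mul_zero] at hrs; exact zero_ne_one hrs
  rcases hcases with hrw | hrw
  · have hsw : s = w ^ 2 := by linear_combination (w ^ 2) * hrs - s * hw3 - (s * w ^ 2) * hrw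
    have hh : g * f⁻¹ = 1 := key _
      (fun x hx => by rw [mul_apply, show f⁻¹ x = r⁻¹ • x from ?_, map_smul, mem_eig.1 hx, smul_smul, hrw,
          inv_mul_cancel₀ (fun e => by rw [e] at hw3; simp at hw3), one_smul]
                      apply f.injective
                      rw [self_apply_inv, map_smul, hr x hx, smul_smul, inv_mul_cancel₀ (fun e => by rw [e] at hr3; simp at hr3),
                        one_smul])
      (fun x hx => by rw [mul_apply, show f⁻¹ x = s⁻¹ • x from ?_, map_smul, mem_eig.1 hx, smul_smul, hsw,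
          inv_mul_cancel₀ (pow_ne_zero 2 hw0), one_smul]
                      apply f.injective
                      rw [self_apply_inv, map_smul, hs x hx, smul_smul, inv_mul_cancel₀ hs0, one_smul])
      (fun x hx => by rw [mul_apply]; conv_lhs => rw [← hfix x hx, inv_apply_self, hx])
    have h1 := eq_one_of_central (by omega) hX hne (by rw [map_mul, map_inv, hc.sign, hd.sign]; rfl) (hlc.mul hld.inv)
      fun e _ => by rw [hh]; exact Commute.one_left _
    have := congrArg (fun p : Perm α => p i) h1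
    rw [tc_inv hab ham hbm] at this
    simp only [Perm.mul_apply, Perm.one_apply, tc_other o3 o2 o1, tc_fst hij hil] at this
    exact hij this.symm
  · have hsw : s = w := by linear_combination w * hrs - s * hw3 - (s * w) * hrw
    have hh : g * f = 1 := key _
      (fun x hx => by rw [mul_apply, hr x hx, map_smul, mem_eig.1 hx, smul_smul, hrw, ← pow_succ, hw3, one_smul])
      (fun x hx => by rw [mul_apply, hs x hx, map_smul, mem_eig.1 hx, smul_smul, hsw, ← pow_succ', hw3, one_smul])
      (fun x hx => by rw [mul_apply, hfix x hx, hx])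
    have h1 := eq_one_of_central (by omega) hX hne (by rw [map_mul, hc.sign, hd.sign]; rfl) (hlc.mul hld)
      fun e _ => by rw [hh]; exact Commute.one_left _
    have := congrArg (fun p : Perm α => p i) h1
    simp only [Perm.mul_apply, Perm.one_apply, tc_other o1 o2 o3, tc_fst hij hil] at this
    exact hij this.symm

end Cfsg.Agent.Lib.AltSectGL
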