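import Cfsg.Agent.Lib.AltSectGL.Double

/-!
Degrees six, nine, ten, eleven: arguments with lifts of cycles of length five and seven.
-/

set_option autoImplicit false
set_option linter.unusedSectionVars false

namespace Cfsg.Agent.Lib.AltSectGL

open Equiv Equiv.Perm Module

universe u

variable {α : Type*} [Fintype α] [DecidableEq α] {k : Type*} [Field k] [IsAlgClosed k] {V : Type u}
variable [AddCommGroup V] [Module k V] [FiniteDimensional k V] {X : Perm α → (V ≃ₗ[k] V)}

theorem NonTriv.nontrivial (hne : NonTriv X) : Nontrivial V := by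
  by_contra h
  rw [not_nontrivial_iff_subsingleton] at h
  obtain ⟨c, _, hc⟩ := hne
  exact hc (by ext v; exact Subsingleton.elim _ _)

theorem apply_of_commute {g h : V ≃ₗ[k] V} (e : Commute g h) (v : V) : g (h v) = h (g v) := by
  rw [← mul_apply, ← mul_apply, e.eq]

/-- The data of a normalised lift of a cycle. -/
theorem cycle_data (hn : 5 ≤ Fintype.card α) (hX : Sys X) (hne : NonTriv X) (hirr : Irr X) {σ τ : Perm α}
    {ℓ e j : ℕ} (hℓp : ℓ.Prime) (hℓk : (ℓ : k) ≠ 0) (hprim : ∀ i < ℓ, 1 ≤ i → ∃ t < ℓ, e ^ t % ℓ = i)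
    (hj : (j * (e - 1)) % ℓ = 1) (he : 1 ≤ e) (hσs : sign σ = 1) (hσ1 : σ ≠ 1) (hσℓ : σ ^ ℓ = 1)
    (hτs : sign τ = 1) (hτ : τ * σ * τ⁻¹ = σ ^ e) :
    ∃ (u : V ≃ₗ[k] V) (μ : ℕ), (∀ a, a ≠ 1 → eig u a ≠ ⊥ → finrank k (eig u a) = μ) ∧ 1 ≤ μ ∧
      (ℓ - 1) * μ + finrank k (eig u 1) ≤ finrank k V ∧
      (∀ d, IsThreeCycle d → Perm.Disjoint σ d → Commute u (X d)) ∧ ⨆ a : k, eig u a = ⊤ := by
  haveI := hne.nontrivial
  obtain ⟨u₀, _, hu₀⟩ := exists_lift hX hσs
  obtain ⟨g, _, hg⟩ := exists_lift hX hτs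
  obtain ⟨a, ha, h1, h2, h3⟩ := exists_cycle_lift hn hX hne hirr hu₀ hg hσs hσ1 hσℓ hℓp.pos hj he hτ
  have hlift := hu₀.sc_mul a ha
  generalize sc a ha * u₀ = u at h1 h2 h3 hlift
  have hspan := eig_span h1 hℓk
  obtain ⟨b, hb1, hb⟩ : ∃ b : k, b ≠ 1 ∧ eig u b ≠ ⊥ := by
    by_contra h
    simp only [not_exists, not_and, not_not] at h
    apply h2
    ext v
    have : v ∈ eig u 1 := by
      rw [← (show ⨆ b : k, eig u b = eig u 1 from le_antisymm (iSup_le fun b => by
        rcases eq_or_ne b 1 with rfl | hb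
        · exact le_rfl
        · rw [h b hb]; exact bot_le) (le_iSup (eig u) 1)), hspan]
      exact Submodule.mem_top
    rw [mem_eig.1 this, one_smul, one_apply]
  have hroot : ∀ x : k, x ≠ 1 → x ^ ℓ = 1 → orderOf x = ℓ := fun x hx1 hx =>
    haveI := Fact.mk hℓp
    orderOf_eq_prime hx hx1
  have hpow : ∀ x y : k, x ≠ 1 → x ^ ℓ = 1 → y ≠ 1 → y ^ ℓ = 1 →
      finrank k (eig u x) ≤ finrank k (eig u y) := by
    intro x y hx1 hx hy1 hy
    have hpr : IsPrimitiveRoot x ℓ := hroot x hx1 hx ▸ IsPrimitiveRoot.orderOf x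
    haveI : NeZero ℓ := ⟨hℓp.ne_zero⟩
    obtain ⟨i, hi, rfl⟩ := hpr.eq_pow_of_pow_eq_one hy
    obtain ⟨t, -, ht⟩ := hprim i hi (Nat.pos_of_ne_zero fun h0 => hy1 (by rw [h0, pow_zero]))
    have := eig_le_pow h3 x t
    rwa [← pow_mod_orderOf x (e ^ t), hroot x hx1 hx, ht] at this
  have hbℓ := eig_pow h1 hb
  refine ⟨u, finrank k (eig u b), fun c hc1 hc => ?_, ?_, ?_, fun d hd hdis => ?_, hspan⟩
  · exact le_antisymm (hpow c b hc1 (eig_pow h1 hc) hb1 hbℓ) (hpow b c hb1 hbℓ hc1 (eig_pow h1 hc))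
  · rw [Nat.one_le_iff_ne_zero]; exact fun e => hb (Submodule.finrank_eq_zero.1 e)
  · classical
    have hord := hroot b hb1 hbℓ
    set s : Finset k := (Finset.Ico 1 ℓ).image (b ^ ·) with hs
    have hcard : s.card = ℓ - 1 := by
      rw [hs, Finset.card_image_of_injOn, Nat.card_Ico]
      intro x hx y hy hxy
      simp only [Finset.coe_Ico, Set.mem_Ico] at hx hy
      exact pow_injOn_Iio_orderOf (by simp [hord]; omega) (by simp [hord]; omega) hxy
    have h1s : (1 : k) ∉ s := by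
      simp only [hs, Finset.mem_image, Finset.mem_Ico, not_exists, not_and, and_imp]
      intro x hx1 hx2
      exact pow_ne_one_of_lt_orderOf (by omega) (hord ▸ hx2)
    have hsum := eig_sum_le u (insert 1 s)
    rw [Finset.sum_insert h1s] at hsum
    have : (ℓ - 1) * finrank k (eig u b) ≤ ∑ x ∈ s, finrank k (eig u x) := by
      rw [← hcard, ← smul_eq_mul, ← Finset.sum_const]
      refine Finset.sum_le_sum fun x hx => hpow b x hb1 hbℓ (fun e => h1s (e ▸ hx)) ?_
      obtain ⟨i, -, rfl⟩ := Finset.mem_image.1 hx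
      rw [← pow_mul, mul_comm, pow_mul, hbℓ, one_pow]
    omega
  · have h := hlift d hd
    rw [hdis.commute.eq, mul_inv_cancel_right] at h
    exact (mul_inv_eq_iff_eq_mul.1 h.symm)

theorem line_scalar {u g : V ≃ₗ[k] V} {a : k} (hg : Commute u g) (h1 : finrank k (eig u a) = 1) :
    ∃ t : k, ∀ v ∈ eig u a, g v = t • v := by
  obtain ⟨w, hw, hspan⟩ := finrank_eq_one_iff'.1 h1
  obtain ⟨t, ht⟩ := hspan ⟨g w, mem_eig.2 (by rw [apply_of_commute hg, mem_eig.1 w.2, map_smul])⟩
  refine ⟨t, fun v hv => ?_⟩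
  obtain ⟨x, hx⟩ := hspan ⟨v, hv⟩
  have e1 : t • (w : V) = g w := congrArg Subtype.val ht
  have e2 : x • (w : V) = v := congrArg Subtype.val hx
  rw [← e2, map_smul, ← e1, smul_comm]

/-- Characteristic three: a cycle and a three-cycle disjoint from it. -/
theorem small_three (h3 : (3 : k) = 0) (hn : 5 ≤ Fintype.card α) (hX : Sys X) (hne : NonTriv X) (hirr : Irr X)
    {σ τ d : Perm α} {ℓ e j : ℕ} (hℓp : ℓ.Prime) (hℓk : (ℓ : k) ≠ 0)
    (hprim : ∀ i < ℓ, 1 ≤ i → ∃ t < ℓ, e ^ t % ℓ = i) (hj : (j * (e - 1)) % ℓ = 1) (he : 1 ≤ e)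
    (hσs : sign σ = 1) (hσ1 : σ ≠ 1) (hσℓ : σ ^ ℓ = 1) (hτs : sign τ = 1) (hτ : τ * σ * τ⁻¹ = σ ^ e)
    (hd : IsThreeCycle d) (hdis : Perm.Disjoint σ d) :
    2 * (ℓ - 1) ≤ finrank k V ∨ finrank k (LinearMap.range (N (X d))) + 1 + (ℓ - 1) ≤ finrank k V := by
  obtain ⟨u, μ, hμ, hμ1, hle, hcomm, hspan⟩ := cycle_data hn hX hne hirr hℓp hℓk hprim hj he hσs hσ1 hσℓ hτs hτ
  rcases Nat.lt_or_ge μ 2 with h | h
  swap
  · exact Or.inl (le_trans (by rw [mul_comm]; exact Nat.mul_le_mul_left _ h) (le_trans (Nat.le_add_right _ _) hle))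
  obtain rfl : μ = 1 := by omega
  rw [mul_one] at hle
  refine Or.inr ?_
  have hc := hcomm d hd hdis
  set f := N (X d) with hf
  have hkill : ∀ a, a ≠ 1 → ∀ v ∈ eig u a, f v = 0 := by
    intro a ha v hv
    by_cases hv0 : v = 0
    · simp [hv0]
    obtain ⟨t, ht⟩ := line_scalar hc (hμ a ha (fun e => hv0 (by simpa [e] using hv)))
    have h0 := congrArg (fun g : V ≃ₗ[k] V => g v) (hX.cube d hd)
    simp only [pow_succ, pow_zero, one_mul, mul_apply, one_apply, ht v hv, map_smul, smul_smul] at h0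
    have ht3 : t * t * t - 1 = 0 := (smul_eq_zero.1
      (by rw [sub_smul, one_smul, mul_assoc, h0, sub_self] : (t * t * t - 1) • v = 0)).resolve_right hv0
    have : t = 1 := sub_eq_zero.1 (pow_eq_zero_iff three_ne_zero |>.1
      (by linear_combination ht3 - (t * t - t) * h3 : (t - 1) ^ 3 = 0))
    rw [hf, N_apply, ht v hv, this, one_smul, sub_self]
  have hfu : ∀ v, f (u v) = u (f v) := fun v => by
    simp only [hf, N_apply, map_sub, apply_of_commute hc]
  have hsub := range_le_fixed hspan f hfu hkill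
  have hmap : LinearMap.range f ≤ (eig u 1).map f := by
    rw [LinearMap.range_eq_map, ← hspan, Submodule.map_iSup]
    refine iSup_le fun a => ?_
    rcases eq_or_ne a 1 with rfl | ha
    · exact le_rfl
    · rintro _ ⟨v, hv, rfl⟩
      rw [hkill a ha v hv]; exact zero_mem _
  by_contra hlt
  have heq : LinearMap.range f = eig u 1 := Submodule.eq_of_le_of_finrank_le hsub (by omega)
  rw [← heq] at hmap
  have h3z : ∀ v, f (f (f v)) = 0 := fun v => by
    have h0 := congrArg (fun g : V ≃ₗ[k] V => g v) (hX.cube d hd)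
    simp only [pow_succ, pow_zero, one_mul, mul_apply, one_apply] at h0
    simp only [hf, N_apply, map_sub, h0]
    have e3 : ∀ x : V, x + x + x = 0 := fun x => by
      rw [show x + x + x = (3 : k) • x by module, h3, zero_smul]
    linear_combination (norm := abel) e3 (X d v) - e3 (X d (X d v))
  refine hne.all hn hX hd ?_
  ext v
  obtain ⟨_, ⟨x, rfl⟩, hx⟩ := hmap ⟨v, rfl⟩
  obtain ⟨_, ⟨y, rfl⟩, hy⟩ := hmap ⟨x, rfl⟩
  rw [one_apply, ← sub_eq_zero]
  show f v = 0
  rw [← hx, ← hy, h3z]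

/-- A bound on the complement makes the lift of a cycle fix the image of every three-cycle there. -/
theorem small_block (hn : 5 ≤ Fintype.card α) (hX : Sys X) (hne : NonTriv X) (hirr : Irr X)
    {σ τ : Perm α} {ℓ e j : ℕ} (hℓp : ℓ.Prime) (hℓk : (ℓ : k) ≠ 0)
    (hprim : ∀ i < ℓ, 1 ≤ i → ∃ t < ℓ, e ^ t % ℓ = i) (hj : (j * (e - 1)) % ℓ = 1) (he : 1 ≤ e)
    (hσs : sign σ = 1) (hσ1 : σ ≠ 1) (hσℓ : σ ^ ℓ = 1) (hτs : sign τ = 1) (hτ : τ * σ * τ⁻¹ = σ ^ e)
    (s : Finset α) (hs : σ.support ⊆ s) {B : ℕ} (hB : Bd.{u} {x // x ∉ s} k B) {d : Perm {x // x ∉ s}}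
    (hd : IsThreeCycle d) :
    (ℓ - 1) * B ≤ finrank k V ∨ finrank k (LinearMap.range (N (coX X s d))) + (ℓ - 1) ≤ finrank k V := by
  obtain ⟨u, μ, hμ, hμ1, hle, hcomm, hspan⟩ := cycle_data hn hX hne hirr hℓp hℓk hprim hj he hσs hσ1 hσℓ hτs hτ
  rcases Nat.lt_or_ge μ B with h | h
  swap
  · exact Or.inl (le_trans (Nat.mul_le_mul_left _ h) (le_trans (Nat.le_add_right _ _) hle))
  have hc : ∀ e, IsThreeCycle e → Commute u (coX X s e) := fun e he =>
    hcomm _ (three_ofSubtype he) (disjoint_co hs e)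
  refine Or.inr ?_
  have hkill : ∀ a, a ≠ 1 → ∀ v ∈ eig u a, N (coX X s d) v = 0 := by
    intro a ha v hv
    by_contra hne'
    have hne2 : coX X s d v ≠ v := fun e => hne' (by rw [N_apply, e, sub_self])
    have := hB _ _ (subX_sys (coX_sys hX s) (invt_eig hc a))
      (subX_nontriv (coX_sys hX s) (invt_eig hc a) hd hv hne2)
    rw [hμ a ha (fun e => hne' (by simp [(by simpa [e] using hv : v = 0)]))] at this
    omega
  have := Submodule.finrank_mono (range_le_fixed hspan (N (coX X s d)) (fun v => by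
    simp only [N_apply, map_sub, apply_of_commute (hc d hd)]) hkill)
  have : ℓ - 1 ≤ (ℓ - 1) * μ := Nat.le_mul_of_pos_right _ hμ1
  omega

theorem range_conj (g i : V ≃ₗ[k] V) :
    finrank k (LinearMap.range (N (g * i * g⁻¹))) = finrank k (LinearMap.range (N i)) := by
  rw [show LinearMap.range (N (g * i * g⁻¹)) = (LinearMap.range (N i)).map g.toLinearMap from ?_,
    LinearEquiv.finrank_map_eq]
  refine le_antisymm ?_ ?_
  · rintro _ ⟨v, rfl⟩
    exact ⟨N i (g⁻¹ v), ⟨_, rfl⟩, by simp [mul_apply, self_apply_inv]⟩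
  · rintro _ ⟨_, ⟨v, rfl⟩, rfl⟩
    exact ⟨g v, by simp [mul_apply, inv_apply_self]⟩

theorem tc_mul_tc {a b c d : α} (hab : a ≠ b) (hac : a ≠ c) (had : a ≠ d) (hbc : b ≠ c) (hbd : b ≠ d) (hcd : c ≠ d) :
    tc a b c * tc b c d = swap a b * swap c d := by
  simp only [tc]
  rw [show swap a b * swap b c * (swap b c * swap c d) = swap a b * (swap b c * swap b c) * swap c d from by group,
    swap_mul_self, mul_one]

/-- The product of the lifts defining a double transposition. -/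
noncomputable def dt (X : Perm α → (V ≃ₗ[k] V)) (a b c d : α) : V ≃ₗ[k] V := X (tc a b c) * X (tc b c d)

theorem dt_lifts (hX : Sys X) {a b c d : α} (hab : a ≠ b) (hac : a ≠ c) (had : a ≠ d) (hbc : b ≠ c) (hbd : b ≠ d)
    (hcd : c ≠ d) : Lifts X (swap a b * swap c d) (dt X a b c d) := by
  rw [← tc_mul_tc hab hac had hbc hbd hcd]
  exact Lifts.mul (fun e he => hX.conj _ e (tc_three hab hac hbc) he)
    (fun e he => hX.conj _ e (tc_three hbc hbd hcd) he)

/-- Characteristic not three, seven-cycle: double transpositions give a fixed space for a three-cycle. -/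
theorem small_seven (hn : 5 ≤ Fintype.card α) (hX : Sys X) (hne : NonTriv X) (hirr : Irr X)
    {σ τ : Perm α} (h7k : (7 : k) ≠ 0) (hσs : sign σ = 1) (hσ1 : σ ≠ 1) (hσℓ : σ ^ 7 = 1) (hτs : sign τ = 1)
    (hτ : τ * σ * τ⁻¹ = σ ^ 3) {a b c d : α} (hinj : Function.Injective ![a, b, c, d])
    (hfix : σ a = a ∧ σ b = b ∧ σ c = c ∧ σ d = d) (h6 : 6 ≤ Fintype.card α)
    (hrank : ∀ e, IsThreeCycle e → 8 ≤ finrank k (LinearMap.range (N (X e)))) : 10 ≤ finrank k V := by
  haveI := hne.nontrivial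
  obtain ⟨u, μ, hμ, hμ1, hle, hcomm, hspan⟩ := cycle_data (j := 4) hn hX hne hirr (ℓ := 7) (e := 3)
    (by norm_num) (by exact_mod_cast h7k) (by decide) (by decide) (by decide) hσs hσ1 hσℓ hτs hτ
  by_contra hlt
  obtain rfl : μ = 1 := by omega
  obtain ⟨hab, hac, had, hbc, hbd, hcd⟩ : a ≠ b ∧ a ≠ c ∧ a ≠ d ∧ b ≠ c ∧ b ≠ d ∧ c ≠ d := by
    refine ⟨?_, ?_, ?_, ?_, ?_, ?_⟩
    · exact fun e => absurd (@hinj 0 1 e) (by decide)
    · exact fun e => absurd (@hinj 0 2 e) (by decide)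
    · exact fun e => absurd (@hinj 0 3 e) (by decide)
    · exact fun e => absurd (@hinj 1 2 e) (by decide)
    · exact fun e => absurd (@hinj 1 3 e) (by decide)
    · exact fun e => absurd (@hinj 2 3 e) (by decide)
  have hdis : ∀ x y z, σ x = x → σ y = y → σ z = z → Perm.Disjoint σ (tc x y z) := by
    intro x y z hx hy hz w
    by_cases hw : w = x ∨ w = y ∨ w = z
    · rcases hw with rfl | rfl | rfl <;> exact Or.inl ‹_›
    · simp only [not_or] at hw; exact Or.inr (tc_other hw.1 hw.2.1 hw.2.2)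
  have c1 := hcomm _ (tc_three hab hac hbc) (hdis a b c hfix.1 hfix.2.1 hfix.2.2.1)
  have c2 := hcomm _ (tc_three hbc hbd hcd) (hdis b c d hfix.2.1 hfix.2.2.1 hfix.2.2.2)
  have c3 := hcomm _ (tc_three hab had hbd) (hdis a b d hfix.1 hfix.2.1 hfix.2.2.2)
  have hconj : tc a b d * tc a b c * (tc a b d)⁻¹ = (tc b c d)⁻¹ := by
    rw [conj_tc, tc_fst hab had, tc_snd had hbd, tc_other hac.symm hbc.symm hcd, tc_inv hbc hbd hcd]
    exact tc_rot hbd hbc hcd.symm
  have hdt : finrank k (LinearMap.range (N (dt X a b c d))) + 6 ≤ finrank k V := by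
    have hkill : ∀ x, x ≠ 1 → ∀ v ∈ eig u x, N (dt X a b c d) v = 0 := by
      intro x hx v hv
      by_cases hv0 : v = 0
      · simp [hv0]
      have h1 := hμ x hx (fun e => hv0 (by simpa [e] using hv))
      obtain ⟨t, ht⟩ := line_scalar c1 h1
      obtain ⟨r, hr⟩ := line_scalar c2 h1
      obtain ⟨s, hs⟩ := line_scalar c3 h1
      have h2 := hX.conj _ _ (tc_three hab had hbd) (tc_three hab hac hbc)
      rw [hconj, hX.inv _ (tc_three hbc hbd hcd), eq_mul_inv_iff_mul_eq, inv_mul_eq_iff_eq_mul] at h2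
      have h3 := congrArg (fun g : V ≃ₗ[k] V => g v) h2
      simp only [mul_apply, hs v hv, ht v hv, hr v hv, map_smul, smul_smul] at h3
      have hs0 : s ≠ 0 := fun e => hv0 ((X (tc a b d)).injective (by rw [hs v hv, e, zero_smul, map_zero]))
      have : t * r = 1 := by
        have h4 : (s - t * s * r) • v = 0 := by rw [sub_smul, h3, sub_self]
        have := (smul_eq_zero.1 h4).resolve_right hv0
        exact mul_left_cancel₀ hs0 (by linear_combination -this)
      rw [N_apply, dt, mul_apply, hr v hv, map_smul, ht v hv, smul_smul, mul_comm, this, one_smul, sub_self]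
    have := Submodule.finrank_mono (range_le_fixed hspan (N (dt X a b c d)) (fun v => by
      have hcd' : Commute u (dt X a b c d) := c1.mul_right c2
      simp only [N_apply, map_sub]
      rw [apply_of_commute hcd' v]) hkill)
    omega
  obtain ⟨f⟩ : Nonempty (Fin 5 ↪ α) := Function.Embedding.nonempty_of_card_le (by rw [Fintype.card_fin]; omega)
  have hf : ∀ x y : Fin 5, x ≠ y → f x ≠ f y := fun x y h => f.injective.ne h
  have hall : ∀ p q r s : α, Function.Injective ![p, q, r, s] →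
      finrank k (LinearMap.range (N (dt X p q r s))) + 6 ≤ finrank k V := by
    intro p q r s hinj'
    obtain ⟨π, hπ, hval⟩ := exists_even ![a, b, c, d] ![p, q, r, s] hinj hinj' (by omega)
    obtain ⟨g, _, hg⟩ := exists_lift hX hπ
    have e : dt X p q r s = g * dt X a b c d * g⁻¹ := by
      rw [show p = π a from (hval 0).symm, show q = π b from (hval 1).symm, show r = π c from (hval 2).symm,
        show s = π d from (hval 3).symm]
      simp only [dt, ← conj_tc, hg _ (tc_three hab hac hbc), hg _ (tc_three hbc hbd hcd)]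
      group
    rw [e, range_conj]; exact hdt
  have d1 := hall (f 0) (f 1) (f 3) (f 4) (by
    intro x y h; fin_cases x <;> fin_cases y <;> first | rfl | exact absurd h (hf _ _ (by decide)))
  have d2 := hall (f 1) (f 2) (f 3) (f 4) (by
    intro x y h; fin_cases x <;> fin_cases y <;> first | rfl | exact absurd h (hf _ _ (by decide)))
  have l1 := dt_lifts hX (hf 0 1 (by decide)) (hf 0 3 (by decide)) (hf 0 4 (by decide)) (hf 1 3 (by decide))
    (hf 1 4 (by decide)) (hf 3 4 (by decide))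
  have l2 := dt_lifts hX (hf 1 2 (by decide)) (hf 1 3 (by decide)) (hf 1 4 (by decide)) (hf 2 3 (by decide))
    (hf 2 4 (by decide)) (hf 3 4 (by decide))
  generalize dt X (f 0) (f 1) (f 3) (f 4) = i₁ at d1 l1
  generalize dt X (f 1) (f 2) (f 3) (f 4) = i₂ at d2 l2
  have n1 := LinearMap.finrank_range_add_finrank_ker (N i₁)
  have n2 := LinearMap.finrank_range_add_finrank_ker (N i₂)
  have hc : IsThreeCycle (tc (f 0) (f 1) (f 2)) := tc_three (hf _ _ (by decide)) (hf _ _ (by decide)) (hf _ _ (by decide))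
  have n3 := LinearMap.finrank_range_add_finrank_ker (N (X (tc (f 0) (f 1) (f 2))))
  have n4 := hrank _ hc
  have hinvol : ∀ (i : V ≃ₗ[k] V) (π : Perm α), π * π = 1 → Lifts X π i → 0 < finrank k (LinearMap.ker (N i)) →
      i * i = 1 := by
    intro i π hπ hl hpos
    obtain ⟨η, hη, e⟩ := Lifts.scalar hirr Lifts.one (hπ ▸ hl.mul hl : Lifts X 1 (i * i))
    rw [mul_one] at e
    obtain ⟨⟨v, hv⟩, hv0⟩ := (Module.finrank_pos_iff_exists_ne_zero).1 hpos
    have hiv : i v = v := sub_eq_zero.1 (LinearMap.mem_ker.1 hv)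
    have hv' : v ≠ 0 := fun h => hv0 (Subtype.ext h)
    have h2 := congrArg (fun g : V ≃ₗ[k] V => g v) e
    simp only [mul_apply, hiv, sc_apply] at h2
    have : η = 1 := by
      by_contra h
      exact hv' ((smul_eq_zero.1 (by rw [sub_smul, one_smul, ← h2, sub_self] : (η - 1) • v = 0)).resolve_left
        (sub_ne_zero.2 h))
    rw [e]; ext x; rw [sc_apply, this, one_smul, one_apply]
  have hsw : ∀ x y z w : α, x ≠ z → x ≠ w → y ≠ z → y ≠ w →
      swap x y * swap z w * (swap x y * swap z w) = 1 := by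
    intro x y z w h1 h2 h3 h4
    have hcm : Commute (swap x y) (swap z w) := Perm.Disjoint.commute fun v => by
      by_cases hv : v = x ∨ v = y
      · rcases hv with rfl | rfl
        · exact Or.inr (swap_apply_of_ne_of_ne h1 h2)
        · exact Or.inr (swap_apply_of_ne_of_ne h3 h4)
      · simp only [not_or] at hv; exact Or.inl (swap_apply_of_ne_of_ne hv.1 hv.2)
    rw [mul_assoc, ← mul_assoc (swap z w), ← hcm.eq, mul_assoc (swap x y), swap_mul_self, mul_one, swap_mul_self]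
  have i1 := hinvol i₁ _ (hsw _ _ _ _ (hf 0 3 (by decide)) (hf 0 4 (by decide)) (hf 1 3 (by decide))
    (hf 1 4 (by decide))) l1 (by omega)
  have i2 := hinvol i₂ _ (hsw _ _ _ _ (hf 1 3 (by decide)) (hf 1 4 (by decide)) (hf 2 3 (by decide))
    (hf 2 4 (by decide))) l2 (by omega)
  have hprod : (swap (f 0) (f 1) * swap (f 3) (f 4)) * (swap (f 1) (f 2) * swap (f 3) (f 4))
      = tc (f 0) (f 1) (f 2) := by
    have h34 : Commute (swap (f 3) (f 4)) (swap (f 1) (f 2)) := Perm.Disjoint.commute fun v => by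
      by_cases hv : v = f 3 ∨ v = f 4
      · rcases hv with rfl | rfl
        · exact Or.inr (swap_apply_of_ne_of_ne (hf 3 1 (by decide)) (hf 3 2 (by decide)))
        · exact Or.inr (swap_apply_of_ne_of_ne (hf 4 1 (by decide)) (hf 4 2 (by decide)))
      · simp only [not_or] at hv; exact Or.inl (swap_apply_of_ne_of_ne hv.1 hv.2)
    rw [mul_assoc, ← mul_assoc (swap (f 3) (f 4)), h34.eq, mul_assoc (swap (f 1) (f 2)), swap_mul_self, mul_one]; rfl
  have hla : Lifts X (tc (f 0) (f 1) (f 2)) (X (tc (f 0) (f 1) (f 2))) := fun e he => hX.conj _ e hc he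
  obtain ⟨z, hz, e⟩ := Lifts.scalar hirr hla (hprod ▸ l1.mul l2)
  have hca : (swap (f 0) (f 1) * swap (f 3) (f 4)) * tc (f 0) (f 1) (f 2) *
      (swap (f 0) (f 1) * swap (f 3) (f 4))⁻¹ = (tc (f 0) (f 1) (f 2))⁻¹ := by
    rw [conj_tc, tc_inv (hf 0 1 (by decide)) (hf 0 2 (by decide)) (hf 1 2 (by decide))]
    simp only [Perm.mul_apply]
    rw [swap_apply_of_ne_of_ne (hf 0 3 (by decide)) (hf 0 4 (by decide)),
      swap_apply_of_ne_of_ne (hf 1 3 (by decide)) (hf 1 4 (by decide)),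
      swap_apply_of_ne_of_ne (hf 2 3 (by decide)) (hf 2 4 (by decide)), swap_apply_left, swap_apply_right,
      swap_apply_of_ne_of_ne (hf 2 0 (by decide)) (hf 2 1 (by decide)),
      tc_rot (hf 2 1 (by decide)) (hf 2 0 (by decide)) (hf 1 0 (by decide))]
  have hA := l1 _ hc
  rw [hca, hX.inv _ hc] at hA
  have hcap : LinearMap.ker (N i₁) ⊓ LinearMap.ker (N i₂) ≤ LinearMap.ker (N (X (tc (f 0) (f 1) (f 2)))) := by
    rintro v ⟨hv1, hv2⟩
    rw [SetLike.mem_coe, LinearMap.mem_ker, N_apply, sub_eq_zero] at hv1 hv2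
    set A := X (tc (f 0) (f 1) (f 2)) with hAdef
    have hAv : z • A v = v := by
      have := congrArg (fun g : V ≃ₗ[k] V => g v) e
      simp only [mul_apply, sc_apply, hv1, hv2] at this
      exact this.symm
    have h1' : i₁⁻¹ v = v := by rw [← hv1, inv_apply_self, hv1]
    have hAi : A⁻¹ v = i₁ (A (i₁⁻¹ v)) := by rw [hA]; rfl
    rw [h1'] at hAi
    have hzi : z • i₁ (A v) = v := by rw [← map_smul, hAv, hv1]
    rw [← hAi] at hzi
    have hz2 : z • v = A v := by
      have := congrArg A hzi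
      rw [map_smul, self_apply_inv] at this
      exact this
    have h0 := congrArg (fun g : V ≃ₗ[k] V => g v) (hX.cube _ hc)
    simp only [pow_succ, pow_zero, one_mul, mul_apply, one_apply, ← hAdef, ← hz2, map_smul] at h0
    rw [LinearMap.mem_ker, N_apply, ← hz2, sub_eq_zero]
    rw [← hz2] at hAv
    rw [smul_smul] at hAv h0
    calc z • v = z • ((z * z) • v) := by rw [hAv]
      _ = v := by rw [smul_smul, ← mul_assoc]; first | exact h0 | (rw [smul_smul] at h0; exact h0)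
  have hsup := Submodule.finrank_sup_add_finrank_inf_eq (LinearMap.ker (N i₁)) (LinearMap.ker (N i₂))
  have := (LinearMap.ker (N i₁) ⊔ LinearMap.ker (N i₂)).finrank_le
  have := Submodule.finrank_mono hcap
  omega

end Cfsg.Agent.Lib.AltSectGL
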