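import Cfsg.Agent.Lib.AltSectGL.Basic

/-!
Restriction, quotient, reduction to irreducible systems, and the subspaces spanned by the commutators.
-/

set_option autoImplicit false
set_option linter.unusedSectionVars false
set_option linter.unusedSimpArgs false

namespace Cfsg.Agent.Lib.AltSectGL

open Equiv Equiv.Perm Module

universe u

variable {α : Type*} [Fintype α] [DecidableEq α] {k : Type*} [Field k] {V : Type u} [AddCommGroup V] [Module k V]
variable {X : Perm α → (V ≃ₗ[k] V)}

/-- A map commuting with an irreducible system is a scalar. -/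
theorem schur [IsAlgClosed k] [FiniteDimensional k V] [Nontrivial V] (hirr : Irr X) (f : V →ₗ[k] V)
    (hf : ∀ c, IsThreeCycle c → ∀ v, f (X c v) = X c (f v)) : ∃ a : k, ∀ v, f v = a • v := by
  obtain ⟨a, ha⟩ := Module.End.exists_eigenvalue f
  have hinv : Invt X (Module.End.eigenspace f a) := fun c hc v hv => by
    rw [Module.End.mem_eigenspace_iff] at hv ⊢
    rw [hf c hc, hv, map_smul]
  rcases hirr _ hinv with h | h
  · exact absurd h (Module.End.hasEigenvalue_iff.1 ha)
  · exact ⟨a, fun v => Module.End.mem_eigenspace_iff.1 (h ▸ Submodule.mem_top)⟩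

instance decThree (c : Perm α) : Decidable (IsThreeCycle c) :=
  inferInstanceAs (Decidable (c.cycleType = {3}))

section Sub

variable (hX : Sys X) {P : Submodule k V} (hP : Invt X P)

/-- The system induced on an invariant subspace. -/
noncomputable def subX (c : Perm α) : P ≃ₗ[k] P :=
  if hc : IsThreeCycle c then
    LinearEquiv.ofLinearMap ((X c).toLinearMap.restrict fun v hv => hP c hc v hv)
      ((X c⁻¹).toLinearMap.restrict fun v hv => hP c⁻¹ (three_inv hc) v hv)
      (by ext v; simp only [LinearMap.comp_apply, LinearMap.id_apply, LinearMap.restrict_apply, LinearEquiv.coe_coe]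
          rw [hX.inv c hc, self_apply_inv])
      (by ext v; simp only [LinearMap.comp_apply, LinearMap.id_apply, LinearMap.restrict_apply, LinearEquiv.coe_coe]
          rw [hX.inv c hc, inv_apply_self])
  else 1

theorem subX_coe {c : Perm α} (hc : IsThreeCycle c) (v : P) : (subX hX hP c v : V) = X c v := by
  simp [subX, hc, LinearMap.restrict_apply]

theorem subX_sys : Sys (subX hX hP) where
  cube c hc := by
    ext v
    have := congrArg (fun g : V ≃ₗ[k] V => g (v : V)) (hX.cube c hc)
    simp only [pow_succ, pow_zero, one_mul, mul_apply, one_apply, subX_coe hX hP hc] at this ⊢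
    exact this
  inv c hc := by
    symm
    rw [inv_eq_iff_mul_eq_one]
    ext v
    simp only [mul_apply, one_apply, subX_coe hX hP hc, subX_coe hX hP (three_inv hc), hX.inv c hc, self_apply_inv]
  conj c d hc hd := by
    rw [eq_mul_inv_iff_mul_eq]
    ext v
    simp only [mul_apply, subX_coe hX hP hc, subX_coe hX hP hd, subX_coe hX hP (three_conj c hd), hX.conj c d hc hd,
      inv_apply_self]

/-- The system induced on the quotient by an invariant subspace. -/
noncomputable def quotX (c : Perm α) : (V ⧸ P) ≃ₗ[k] (V ⧸ P) :=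
  if hc : IsThreeCycle c then
    LinearEquiv.ofLinearMap (P.mapQ P (X c).toLinearMap fun v hv => hP c hc v hv)
      (P.mapQ P (X c⁻¹).toLinearMap fun v hv => hP c⁻¹ (three_inv hc) v hv)
      (by ext v
          simp only [LinearMap.comp_apply, LinearMap.id_apply, Submodule.mkQ_apply, Submodule.mapQ_apply,
            LinearEquiv.coe_coe]
          rw [hX.inv c hc, self_apply_inv])
      (by ext v
          simp only [LinearMap.comp_apply, LinearMap.id_apply, Submodule.mkQ_apply, Submodule.mapQ_apply,
            LinearEquiv.coe_coe]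
          rw [hX.inv c hc, inv_apply_self])
  else 1

theorem quotX_mk {c : Perm α} (hc : IsThreeCycle c) (v : V) :
    quotX hX hP c (Submodule.Quotient.mk v) = Submodule.Quotient.mk (X c v) := by
  simp [quotX, hc]

theorem quotX_sys : Sys (quotX hX hP) where
  cube c hc := by
    ext v
    obtain ⟨v, rfl⟩ := Submodule.Quotient.mk_surjective P v
    simp only [pow_succ, pow_zero, one_mul, mul_apply, one_apply, quotX_mk hX hP hc]
    have := congrArg (fun g : V ≃ₗ[k] V => g v) (hX.cube c hc)
    simp only [pow_succ, pow_zero, one_mul, mul_apply, one_apply] at this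
    rw [this]
  inv c hc := by
    symm
    rw [inv_eq_iff_mul_eq_one]
    ext v
    obtain ⟨v, rfl⟩ := Submodule.Quotient.mk_surjective P v
    simp only [mul_apply, one_apply, quotX_mk hX hP hc, quotX_mk hX hP (three_inv hc), hX.inv c hc, self_apply_inv]
  conj c d hc hd := by
    rw [eq_mul_inv_iff_mul_eq]
    ext v
    obtain ⟨v, rfl⟩ := Submodule.Quotient.mk_surjective P v
    simp only [mul_apply, quotX_mk hX hP hc, quotX_mk hX hP hd, quotX_mk hX hP (three_conj c hd), hX.conj c d hc hd,
      inv_apply_self]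

theorem subX_nontriv {c : Perm α} (hc : IsThreeCycle c) {v : V} (hv : v ∈ P) (h : X c v ≠ v) :
    NonTriv (subX hX hP) := by
  refine ⟨c, hc, fun e => h ?_⟩
  have := subX_coe hX hP hc ⟨v, hv⟩
  rw [e] at this
  exact this.symm

theorem quotX_nontriv {c : Perm α} (hc : IsThreeCycle c) {v : V} (h : X c v - v ∉ P) :
    NonTriv (quotX hX hP) := by
  refine ⟨c, hc, fun e => h ?_⟩
  have := quotX_mk hX hP hc v
  rw [e, one_apply] at this
  exact (Submodule.Quotient.eq P).1 this.symm

/-- A system trivial on an invariant subspace and on its quotient is trivial. -/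
theorem split_trivial (hn : 5 ≤ Fintype.card α) (h1 : ¬ NonTriv (subX hX hP)) (h2 : ¬ NonTriv (quotX hX hP)) :
    ¬ NonTriv X := by
  rintro ⟨c, hc, hne⟩
  have a1 : ∀ d, IsThreeCycle d → ∀ v ∈ P, X d v = v := fun d hd v hv =>
    not_not.1 fun h => h1 (subX_nontriv hX hP hd hv h)
  have a2 : ∀ d, IsThreeCycle d → ∀ v, X d v - v ∈ P := fun d hd v => not_not.1 fun h => h2 (quotX_nontriv hX hP hd h)
  refine hne (eq_one_of_comm hn hX (fun a b ha hb => ?_) c hc)
  show X a * X b = X b * X a
  ext v
  rw [mul_apply, mul_apply]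
  have e1 := a1 a ha _ (a2 b hb v)
  have e2 := a1 b hb _ (a2 a ha v)
  rw [map_sub] at e1 e2
  linear_combination (norm := abel) e1 - e2

end Sub

/-- A lower bound for irreducible systems holds for all. -/
theorem bound_of_irr (hn : 5 ≤ Fintype.card α) (B : ℕ)
    (h : ∀ (W : Type u) [AddCommGroup W] [Module k W] [FiniteDimensional k W] (Y : Perm α → (W ≃ₗ[k] W)),
      Sys Y → NonTriv Y → Irr Y → B ≤ finrank k W) :
    ∀ (W : Type u) [AddCommGroup W] [Module k W] [FiniteDimensional k W] (Y : Perm α → (W ≃ₗ[k] W)),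
      Sys Y → NonTriv Y → B ≤ finrank k W := by
  suffices key : ∀ (n : ℕ) (W : Type u) [AddCommGroup W] [Module k W] [FiniteDimensional k W]
      (Y : Perm α → (W ≃ₗ[k] W)), finrank k W = n → Sys Y → NonTriv Y → B ≤ n from
    fun W _ _ _ Y h1 h2 => key _ W Y rfl h1 h2
  intro n
  induction n using Nat.strong_induction_on with
  | _ n ih =>
    intro W _ _ _ Y hW hY hne
    by_cases hi : Irr Y
    · exact hW ▸ h W Y hY hne hi
    simp only [Irr, not_forall, not_or] at hi
    obtain ⟨P, hP, hb, ht⟩ := hi
    have hpos : 0 < finrank k P := by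
      rw [Nat.pos_iff_ne_zero]; exact fun e => hb (Submodule.finrank_eq_zero.1 e)
    have hlt : finrank k P < finrank k W := Submodule.finrank_lt ht
    have hq := P.finrank_quotient_add_finrank
    by_cases h1 : NonTriv (subX hY hP)
    · exact le_trans (ih _ (hW ▸ hlt) P _ rfl (subX_sys hY hP) h1) (by omega)
    by_cases h2 : NonTriv (quotX hY hP)
    · exact le_trans (ih _ (by omega) (W ⧸ P) _ rfl (quotX_sys hY hP) h2) (by omega)
    exact absurd hne (split_trivial hY hP hn h1 h2)

/-- The system on the complement of a set of points. -/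
def coX (X : Perm α → (V ≃ₗ[k] V)) (s : Finset α) (c : Perm {x // x ∉ s}) : V ≃ₗ[k] V := X (Perm.ofSubtype c)

theorem three_ofSubtype {p : α → Prop} [DecidablePred p] {c : Perm (Subtype p)} (hc : IsThreeCycle c) :
    IsThreeCycle (Perm.ofSubtype c) := by
  rw [IsThreeCycle, cycleType_ofSubtype]; exact hc

theorem coX_sys (hX : Sys X) (s : Finset α) : Sys (coX X s) where
  cube c hc := hX.cube _ (three_ofSubtype hc)
  inv c hc := by unfold coX; rw [map_inv]; exact hX.inv _ (three_ofSubtype hc)
  conj c d hc hd := by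
    unfold coX; rw [map_mul, map_mul, map_inv]; exact hX.conj _ _ (three_ofSubtype hc) (three_ofSubtype hd)

theorem card_co (s : Finset α) : Fintype.card {x // x ∉ s} = Fintype.card α - s.card := by
  rw [Fintype.card_subtype_compl]; simp

theorem disjoint_co {s : Finset α} {c : Perm α} (hc : c.support ⊆ s) (d : Perm {x // x ∉ s}) :
    Perm.Disjoint c (Perm.ofSubtype d) := by
  intro x
  by_cases hx : x ∈ s
  · exact Or.inr (Perm.ofSubtype_apply_of_not_mem d (by simpa using hx))
  · exact Or.inl (Perm.notMem_support.1 fun h => hx (hc h))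

/-- The span of the commutators of the three-cycles inside a set of points. -/
def U (X : Perm α → (V ≃ₗ[k] V)) (S : Finset α) : Submodule k V :=
  ⨆ c ∈ {c : Perm α | IsThreeCycle c ∧ c.support ⊆ S}, LinearMap.range (N (X c))

theorem mem_U {S : Finset α} {c : Perm α} (hc : IsThreeCycle c) (hS : c.support ⊆ S) (v : V) :
    N (X c) v ∈ U X S :=
  Submodule.mem_iSup_of_mem c (Submodule.mem_iSup_of_mem ⟨hc, hS⟩ ⟨v, rfl⟩)

theorem U_le {S : Finset α} {P : Submodule k V}
    (h : ∀ c, IsThreeCycle c → c.support ⊆ S → ∀ v, N (X c) v ∈ P) : U X S ≤ P :=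
  iSup₂_le fun c (hc : IsThreeCycle c ∧ c.support ⊆ S) w (hw : w ∈ LinearMap.range (N (X c))) => by
    obtain ⟨v, rfl⟩ := hw
    exact h c hc.1 hc.2 v

theorem U_mono {S T : Finset α} (h : S ⊆ T) : U X S ≤ U X T :=
  U_le fun _ hc hs v => mem_U hc (hs.trans h) v

theorem Lifts.N_apply' {σ : Perm α} {g : V ≃ₗ[k] V} (hg : Lifts X σ g) {d : Perm α} (hd : IsThreeCycle d) (v : V) :
    g (N (X d) v) = N (X (σ * d * σ⁻¹)) (g v) := by
  rw [hg d hd]
  simp [mul_apply, inv_apply_self]

theorem Lifts.map_U {σ : Perm α} {g : V ≃ₗ[k] V} (hg : Lifts X σ g) (S : Finset α) :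
    (U X S).map g.toLinearMap ≤ U X (S.image σ) := by
  rw [Submodule.map_le_iff_le_comap]
  refine U_le fun c hc hs v => ?_
  show g (N (X c) v) ∈ U X (S.image σ)
  rw [hg.N_apply' hc v]
  refine mem_U (three_conj σ hc) ?_ _
  rw [Perm.support_conj, Finset.map_eq_image]
  exact Finset.image_subset_image hs

theorem finrank_U_image (hX : Sys X) [FiniteDimensional k V] {σ : Perm α} (hσ : sign σ = 1) (S : Finset α) :
    finrank k (U X (S.image σ)) = finrank k (U X S) := by
  obtain ⟨g, _, hg⟩ := exists_lift hX hσ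
  refine le_antisymm ?_ ?_
  · have h := hg.inv.map_U (S.image σ)
    rw [Finset.image_image, show (⇑σ⁻¹ ∘ ⇑σ : α → α) = id from by ext x; simp, Finset.image_id] at h
    rw [← LinearEquiv.finrank_map_eq g⁻¹ (U X (S.image σ))]
    exact Submodule.finrank_mono h
  · rw [← LinearEquiv.finrank_map_eq g (U X S)]
    exact Submodule.finrank_mono (hg.map_U S)

theorem finrank_range_N_conj (hX : Sys X) [FiniteDimensional k V] (hn : 5 ≤ Fintype.card α) {c d : Perm α}
    (hc : IsThreeCycle c) (hd : IsThreeCycle d) :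
    finrank k (LinearMap.range (N (X c))) = finrank k (LinearMap.range (N (X d))) := by
  obtain ⟨σ, hσ, e⟩ := exists_even_conj hn hc hd
  obtain ⟨g, _, hg⟩ := exists_lift hX hσ
  have key : LinearMap.range (N (X d)) = (LinearMap.range (N (X c))).map g.toLinearMap := by
    refine le_antisymm ?_ ?_
    · rintro _ ⟨v, rfl⟩
      refine ⟨N (X c) (g⁻¹ v), ⟨_, rfl⟩, ?_⟩
      show g (N (X c) (g⁻¹ v)) = _
      rw [hg.N_apply' hc, e, self_apply_inv]
    · rintro _ ⟨_, ⟨v, rfl⟩, rfl⟩
      refine ⟨g v, ?_⟩
      show _ = g (N (X c) v)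
      rw [hg.N_apply' hc, e]
  rw [key, LinearEquiv.finrank_map_eq]

end Cfsg.Agent.Lib.AltSectGL
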